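import Cfsg.Agent.H116.CY.Wit
import Cfsg.Agent.Characters.Core
import Cfsg.Agent.Characters.GaloisBasic
import Cfsg.Agent.H707.GalTrace
import Cfsg.Agent.FixBN.TwOfBN
import Cfsg.Agent.H788.RatB.Rat_m3
import Cfsg.Agent.H656.OverPrincipal
import Cfsg.Agent.HKS.CosetTwo
import Cfsg.Agent.CharactersDeep.ExtUnique
import Cfsg.Agent.CharactersDeep.CliffordSum
import Cfsg.Agent.OddOrderCharacters.GaloisTwist
import Cfsg.Agent.H700.PRat
import Cfsg.Agent.H684.CoverCount_m3
import Cfsg.Agent.S0907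
import Cfsg.Agent.H657.BrauerFeit
import Cfsg.Agent.S0145
import Cfsg.Agent.Blocks.ExistsModular
import Cfsg.Agent.CharactersDeep.ModCongr
import Cfsg.Agent.H641.Gow.Real_m3
import Cfsg.Agent.H687.Good
import Cfsg.Agent.H125.PC.Ten_m3
import Cfsg.Agent.H594.Cyclic
import Mathlib
import Cfsg.Agent.H685.Alperin
import Cfsg.Agent.CharactersDeep.IndFun
import Cfsg.Agent.Characters.MonomialVec
import Cfsg.Agent.H649.VanSp4.Tor
import Cfsg.Agent.H379.P4.TwoElt
import Cfsg.Agent.Characters.CCBasic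
import Cfsg.Agent.H206.PspBal
import Cfsg.Agent.FastGrp
import Cfsg.Agent.Prune
set_option linter.all false

section
prune_inst 0x7fdcfff9aaa809dedfff7e3ffed9dff810c04fffe6dff94bffe8eb9faf9f230229c5fb858de058fe1e56621610b87803f97eceffe96bdc7ffffd5fb41ffbee5fe5f7350951d5883406ac2fff03f0570e6f3ffff7ffffffffffffffffffffffbeffbfebfeffff

-- part: H776/CY/Noncyc
section
set_option linter.all false

/-!
# S4829: the rows for non-cyclic Sylow `p`-subgroups (helper776)

`RowForAN` : the row of a family, only for groups with non-cyclic Sylow `p`-subgroups; `RowCyc` : the row for all simple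
groups with cyclic Sylow `p`-subgroups; `RowsAN.rowsA : RowsAN p → RowsA p`.
-/

set_option autoImplicit false

namespace Cfsg.Agent.H776.CY

open Cfsg Cfsg.Agent.H770.CY

/-- the row for all nonabelian simple groups `X` of order divisible by `p` with non-cyclic Sylow `p`-subgroups and the
property `C` -/
def RowForAN (p : ℕ) (C : ∀ (X : Type) [Group X], Prop) : Prop :=
  ∀ (X : Type) [Group X] [Fintype X] [IsSimpleGroup X], ¬ IsMulCommutative X → p ∣ Nat.card X →
    (∀ Q : Sylow p X, ¬ IsCyclic Q) → C X → RowA p X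

/-- the row for all nonabelian simple groups with cyclic Sylow `p`-subgroups -/
def RowCyc (p : ℕ) : Prop :=
  ∀ (X : Type) [Group X] [Fintype X] [IsSimpleGroup X], ¬ IsMulCommutative X → p ∣ Nat.card X →
    (∃ Q : Sylow p X, IsCyclic Q) → RowA p X

theorem RowForAN.of_rowForA {p : ℕ} {C : ∀ (X : Type) [Group X], Prop} (h : RowForA p C) : RowForAN p C :=
  fun X _ _ _ hna hd _ hC => h X hna hd hC

theorem RowForAN.rowForA {p : ℕ} {C : ∀ (X : Type) [Group X], Prop} (hc : RowCyc p) (h : RowForAN p C) :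
    RowForA p C := by
  intro X _ _ _ hna hd hC
  by_cases h1 : ∃ Q : Sylow p X, IsCyclic Q
  · exact hc X hna hd h1
  · exact h X hna hd (fun Q hQ => h1 ⟨Q, hQ⟩) hC

/-- **the rows for `p` odd**, non-cyclic Sylow `p`-subgroups, and the cyclic row -/
structure RowsAN (p : ℕ) : Prop where
  cyc : RowCyc p
  alt : RowForAN p (fun X _ => IsAlternating X)
  lie : RowForAN p (fun X _ => IsLieTypeChar p X)
  psl : RowForAN p (fun X _ => ∃ (F : Type) (_ : Field F) (_ : Fintype F) (n : ℕ), (p : F) ≠ 0 ∧ 2 ≤ n ∧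
    Nonempty (X ≃* Matrix.ProjectiveSpecialLinearGroup (Fin n) F))
  psp : RowForAN p (fun X _ => ∃ (F : Type) (_ : Field F) (_ : Fintype F) (m : ℕ), (p : F) ≠ 0 ∧ 2 ≤ m ∧
    Nonempty (X ≃* PSp m F))
  psu : RowForAN p (fun X _ => ∃ (F : Type) (_ : Field F) (_ : Fintype F) (n q : ℕ), (p : F) ≠ 0 ∧
    Fintype.card F = q ^ 2 ∧ 3 ≤ n ∧ Nonempty (X ≃* PSU n F q))
  oodd : RowForAN p (fun X _ => ∃ (F : Type) (_ : Field F) (_ : Fintype F) (m : ℕ), (p : F) ≠ 0 ∧
    3 ≤ m ∧ Odd (Fintype.card F) ∧ Nonempty (X ≃* POmega F (quadFormOdd m F)))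
  oplus : RowForAN p (fun X _ => ∃ (F : Type) (_ : Field F) (_ : Fintype F) (m : ℕ), (p : F) ≠ 0 ∧
    4 ≤ m ∧ Nonempty (X ≃* POmega F (quadFormPlus m F)))
  ominus : RowForAN p (fun X _ => ∃ (F : Type) (_ : Field F) (_ : Fintype F) (m : ℕ) (a b : F), (p : F) ≠ 0 ∧
    4 ≤ m ∧ (∀ z₁ z₂ : F, z₁ ^ 2 + a * z₁ * z₂ + b * z₂ ^ 2 = 0 → z₁ = 0 ∧ z₂ = 0) ∧
    Nonempty (X ≃* POmega F (quadFormMinus (m - 1) F a b)))
  g2 : RowForAN p (fun X _ => ∃ (F : Type) (_ : Field F) (_ : Fintype F), (p : F) ≠ 0 ∧ 3 ≤ Fintype.card F ∧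
    Nonempty (X ≃* Lie.chevG2.group F))
  f4 : RowForAN p (fun X _ => ∃ (F : Type) (_ : Field F) (_ : Fintype F), (p : F) ≠ 0 ∧ Nonempty (X ≃* Lie.chevF4.group F))
  e6 : RowForAN p (fun X _ => ∃ (F : Type) (_ : Field F) (_ : Fintype F), (p : F) ≠ 0 ∧ Nonempty (X ≃* Lie.chevE6.group F))
  e7 : RowForAN p (fun X _ => ∃ (F : Type) (_ : Field F) (_ : Fintype F), (p : F) ≠ 0 ∧ Nonempty (X ≃* Lie.chevE7.group F))
  e8 : RowForAN p (fun X _ => ∃ (F : Type) (_ : Field F) (_ : Fintype F), (p : F) ≠ 0 ∧ Nonempty (X ≃* Lie.chevE8.group F))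
  te6 : RowForAN p (fun X _ => ∃ (K : Type) (_ : Field K) (_ : Fintype K) (q : ℕ), (p : K) ≠ 0 ∧ IsPrimePow q ∧
    Fintype.card K = q ^ 2 ∧ Nonempty (X ≃* Lie.twistedE6 K q))
  td4 : RowForAN p (fun X _ => ∃ (K : Type) (_ : Field K) (_ : Fintype K) (q : ℕ), (p : K) ≠ 0 ∧ IsPrimePow q ∧
    Fintype.card K = q ^ 3 ∧ Nonempty (X ≃* Lie.twistedD4 K q))
  sz : RowForAN p (fun X _ => Lie.IsoSuzuki X)
  ree : p ≠ 3 → RowForAN p (fun X _ => Lie.IsoRee X)
  tf4 : RowForAN p (fun X _ => Lie.Iso2F4 X)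
  tits : RowForAN p (fun X _ => Lie.IsoTits X)
  spor : RowForAN p (fun X _ => IsSporadicGroup X)

/-- **from the non-cyclic rows and the cyclic row to all rows** -/
theorem RowsAN.rowsA {p : ℕ} (R : RowsAN p) : RowsA p where
  alt := R.alt.rowForA R.cyc
  lie := R.lie.rowForA R.cyc
  psl := R.psl.rowForA R.cyc
  psp := R.psp.rowForA R.cyc
  psu := R.psu.rowForA R.cyc
  oodd := R.oodd.rowForA R.cyc
  oplus := R.oplus.rowForA R.cyc
  ominus := R.ominus.rowForA R.cyc
  g2 := R.g2.rowForA R.cyc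
  f4 := R.f4.rowForA R.cyc
  e6 := R.e6.rowForA R.cyc
  e7 := R.e7.rowForA R.cyc
  e8 := R.e8.rowForA R.cyc
  te6 := R.te6.rowForA R.cyc
  td4 := R.td4.rowForA R.cyc
  sz := R.sz.rowForA R.cyc
  ree := fun h3 => (R.ree h3).rowForA R.cyc
  tf4 := R.tf4.rowForA R.cyc
  tits := R.tits.rowForA R.cyc
  spor := R.spor.rowForA R.cyc

end Cfsg.Agent.H776.CY
end

-- part: H125/CY/Sum
section
set_option linter.all false
open scoped Cfsg.Agent.FastGrp

/-!
# S4829: the two forms of "multiplicity free" (helper125)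

* `mf_of_sum` : a sum of different nontrivial `Cyc p` irreducible characters satisfies the field `mf` of `WitA`;
* `exists_sum` : the converse;
* `WitA.of_sum`, `WitA.exists_sum`.
-/

set_option autoImplicit false

open scoped ComplexConjugate

namespace Cfsg.Agent.H125.CY

open Cfsg Cfsg.Agent.H770.CY Cfsg.Agent.Characters

universe u

variable {p : ℕ} {S : Type u} [Group S] [Fintype S]

theorem mul_eq (ψ θ : S → ℂ) : mul ψ θ = classInner ψ θ := rfl

/-- a sum of different nontrivial `Cyc p` irreducible characters -/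
theorem mf_of_sum {ψ : S → ℂ} {J : Type*} [Fintype J] (θ : J → IrrCharacter S) (hinj : Function.Injective θ)
    (hθ : ∀ j, ((θ j : IrrCharacter S) : S → ℂ) ≠ (fun _ => 1) ∧ Cyc p ((θ j : IrrCharacter S) : S → ℂ))
    (hs : ∀ s, ψ s = ∑ j, ((θ j : IrrCharacter S) : S → ℂ) s) (η : IrrCharacter S) :
    mul ψ (η : S → ℂ) = 0 ∨ (mul ψ (η : S → ℂ) = 1 ∧ (η : S → ℂ) ≠ (fun _ => 1) ∧ Cyc p (η : S → ℂ)) := by
  classical
  have h1 : ψ = ∑ j, ((θ j : IrrCharacter S) : S → ℂ) := by
    funext s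
    rw [Finset.sum_apply]
    exact hs s
  have h2 : mul ψ (η : S → ℂ) = ∑ j, classInner ((θ j : IrrCharacter S) : S → ℂ) (η : S → ℂ) := by
    rw [mul_eq, h1, Core.classInner_sum_left]
  by_cases h : ∃ j, θ j = η
  · obtain ⟨j, rfl⟩ := h
    right
    refine ⟨?_, hθ j⟩
    rw [h2, Finset.sum_eq_single j]
    · exact Core.classInner_irr_self (θ j).2
    · intro i _ hi
      exact Core.classInner_irr_ne (θ i).2 (θ j).2 fun h => hi (hinj (Subtype.ext h))
    · intro h
      exact absurd (Finset.mem_univ j) h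
  · left
    push Not at h
    rw [h2]
    exact Finset.sum_eq_zero fun j _ => Core.classInner_irr_ne (θ j).2 η.2 fun h3 => h j (Subtype.ext h3)

/-- the converse -/
theorem exists_sum {ψ : S → ℂ} (hψ : IsClassFunction S ψ)
    (hm : ∀ θ : IrrCharacter S, mul ψ (θ : S → ℂ) = 0 ∨
      (mul ψ (θ : S → ℂ) = 1 ∧ (θ : S → ℂ) ≠ (fun _ => 1) ∧ Cyc p (θ : S → ℂ))) :
    ∃ (J : Type u) (_ : Fintype J) (θ : J → IrrCharacter S), Function.Injective θ ∧
      (∀ j, ((θ j : IrrCharacter S) : S → ℂ) ≠ (fun _ => 1) ∧ Cyc p ((θ j : IrrCharacter S) : S → ℂ)) ∧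
      ∀ s, ψ s = ∑ j, ((θ j : IrrCharacter S) : S → ℂ) s := by
  classical
  have : Finite (IrrCharacter S) := Core.finite_irr
  have := Fintype.ofFinite (IrrCharacter S)
  refine ⟨{θ : IrrCharacter S // mul ψ (θ : S → ℂ) ≠ 0}, inferInstance, fun j => j.1, Subtype.val_injective,
    fun j => ((hm j.1).resolve_left j.2).2, fun s => ?_⟩
  have h1 := congrFun (Core.classFunction_eq_sum hψ) s
  rw [Finset.sum_apply] at h1
  have h2 : ∑ j : {θ : IrrCharacter S // mul ψ (θ : S → ℂ) ≠ 0}, ((j.1 : IrrCharacter S) : S → ℂ) s =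
      ∑ θ ∈ Finset.univ.filter (fun θ : IrrCharacter S => mul ψ (θ : S → ℂ) ≠ 0), (θ : S → ℂ) s :=
    (Finset.sum_subtype _ (fun θ => by simp) (fun θ : IrrCharacter S => (θ : S → ℂ) s)).symm
  rw [h1]
  refine Eq.trans ?_ h2.symm
  rw [Finset.sum_filter]
  refine Finset.sum_congr rfl fun θ _ => ?_
  rw [Pi.smul_apply, smul_eq_mul, ← mul_eq]
  rcases hm θ with h3 | ⟨h3, -⟩
  · rw [h3, zero_mul, if_neg (fun h => h rfl)]
  · rw [h3, one_mul, if_pos one_ne_zero]

variable {M : Ideal AlgInt} {A : Subgroup (MulAut S)} {hA : ∀ s : S, MulAut.conj s ∈ A} {Ψ : A → ℂ}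

/-- the witness from a sum of different characters -/
theorem witA_of_sum (char : IsCharacter A Ψ) (cyc : Cyc p Ψ) (deg : ∃ n : ℕ, Ψ 1 = n ∧ ¬ p ∣ n)
    {J : Type*} [Fintype J] (θ : J → IrrCharacter S) (hinj : Function.Injective θ)
    (hθ : ∀ j, ((θ j : IrrCharacter S) : S → ℂ) ≠ (fun _ => 1) ∧ Cyc p ((θ j : IrrCharacter S) : S → ℂ))
    (hs : ∀ s : S, Ψ ⟨MulAut.conj s, hA s⟩ = ∑ j, ((θ j : IrrCharacter S) : S → ℂ) s)
    (loc : ∀ a : A, ¬ p ∣ orderOf a → (∃ Q : Sylow p S, ∀ x ∈ Q, (a : MulAut S) x = x) → MemLocalIdeal M (Ψ a - Ψ 1)) :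
    WitA p M S A hA Ψ :=
  ⟨char, cyc, deg, mf_of_sum θ hinj hθ hs, loc⟩

/-- one irreducible character -/
theorem witA_of_irr (char : IsCharacter A Ψ) (cyc : Cyc p Ψ) (deg : ∃ n : ℕ, Ψ 1 = n ∧ ¬ p ∣ n)
    (θ : IrrCharacter S) (hθ : (θ : S → ℂ) ≠ (fun _ => 1)) (hc : Cyc p (θ : S → ℂ))
    (hs : ∀ s : S, Ψ ⟨MulAut.conj s, hA s⟩ = (θ : S → ℂ) s)
    (loc : ∀ a : A, ¬ p ∣ orderOf a → (∃ Q : Sylow p S, ∀ x ∈ Q, (a : MulAut S) x = x) → MemLocalIdeal M (Ψ a - Ψ 1)) :
    WitA p M S A hA Ψ :=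
  witA_of_sum char cyc deg (J := Unit) (fun _ => θ) (fun _ _ _ => rfl) (fun _ => ⟨hθ, hc⟩) (fun s => by simp [hs]) loc

theorem isClassFunction_res (h : WitA p M S A hA Ψ) : IsClassFunction S (res hA Ψ) := by
  have h1 : IsCharacter S (res hA Ψ) := by
    let f : S →* A := (MulAut.conj : S →* MulAut S).codRestrict A hA
    exact Core.isCharacter_comp f h.char
  exact Core.isCharacter_isClassFunction h1

/-- the restriction of a witness to `S` is a sum of different characters -/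
theorem WitA_exists_sum (h : WitA p M S A hA Ψ) :
    ∃ (J : Type u) (_ : Fintype J) (θ : J → IrrCharacter S), Function.Injective θ ∧
      (∀ j, ((θ j : IrrCharacter S) : S → ℂ) ≠ (fun _ => 1) ∧ Cyc p ((θ j : IrrCharacter S) : S → ℂ)) ∧
      ∀ s : S, Ψ ⟨MulAut.conj s, hA s⟩ = ∑ j, ((θ j : IrrCharacter S) : S → ℂ) s :=
  exists_sum (isClassFunction_res h) h.mf

end Cfsg.Agent.H125.CY
end

-- part: H601/R2/Base
section
set_option linter.all false
open scoped Cfsg.Agent.FastGrp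

/-!
# S4829, `Row2`: rational valued characters of odd degree fixed by a `2`-group of automorphisms

`row2_of` : the form with a function `χ : S → ℂ` of `Row2`.
-/

set_option autoImplicit false

namespace Cfsg.Agent.H601.R2

open Cfsg Cfsg.Agent.H770.CY

universe u

/-- a nontrivial rational valued irreducible character of odd degree fixed by the automorphisms in `B` -/
def RatInv (S : Type u) [Group S] (B : Subgroup (MulAut S)) : Prop :=
  ∃ χ : S → ℂ, IsIrrCharacter S χ ∧ χ ≠ 1 ∧ (∃ d : ℕ, Odd d ∧ χ 1 = d) ∧ (∀ g : S, ∃ q : ℚ, χ g = q) ∧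
    ∀ b ∈ B, ∀ x : S, χ (b x) = χ x

theorem cyc_of_rat {S : Type u} [Group S] [Finite S] {p : ℕ} {χ : S → ℂ} (hχ : IsCharacter S χ)
    (h : ∀ g : S, ∃ q : ℚ, χ g = q) : Cyc p χ := by
  intro k hk _ g
  obtain ⟨σ, hσ⟩ := Characters.GaloisBasic.exists_ringEquiv_pow (n := Nat.card S) (m := k) Nat.card_pos.ne' hk
  obtain ⟨q, hq⟩ := h g
  rw [← Characters.GaloisBasic.map_apply_card σ hσ hχ g, hq]
  exact map_ratCast σ q

theorem row2_of {S : Type u} [Group S] [Finite S]
    (h : ∀ B : Subgroup (MulAut S), IsPGroup 2 B → RatInv S B) : Row2 S := by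
  intro B hB
  obtain ⟨χ, h1, h2, ⟨d, hd, hd1⟩, h3, h4⟩ := h B hB
  have hch : IsCharacter S χ := by
    obtain ⟨n, ρ, -, rfl⟩ := h1
    exact ⟨n, ρ, rfl⟩
  refine ⟨⟨χ, h1⟩, fun h => h2 h, ?_, cyc_of_rat hch h3, h4⟩
  have h5 : charDegree χ = d := by
    unfold charDegree
    rw [hd1]
    simp
  change Odd (charDegree χ)
  rw [h5]
  exact hd

end Cfsg.Agent.H601.R2
end

-- part: H601/R2/Odd
section
prune_inst 0x8000000000000000000000000000014010000
set_option linter.all false
open scoped Cfsg.Agent.FastGrp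

/-!
# S4829, `Row2` for the groups of Lie type in odd characteristic

The Steinberg character of a group with a split (B, N)-pair is invariant under every automorphism: the automorphism
acts on the building (with a permutation of the types) and so on the Steinberg space.
-/

set_option autoImplicit false

namespace Cfsg.Agent.H601.R2

open Cfsg Cfsg.Agent.H770.CY Cfsg.Agent.Tits.Core Cfsg.Agent.Tits.Core.Bldg

universe u

section Abs

variable {I : Type*} {M : CoxeterMatrix I} {W : Type*} [Group W] {cs : CoxeterSystem M W} {C : Type*}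
  [Fintype C] (Δ : Bldg cs C)

/-- a permutation of the chambers which permutes the types of panels preserves the Steinberg space -/
theorem comp_mem_St (θ : C ≃ C) (τ : I → I) (h : ∀ i x y, y ∈ Δ.Pan i x ↔ θ y ∈ Δ.Pan (τ i) (θ x)) {f : C → ℂ}
    (hf : f ∈ H163.Steinberg.St Δ) : (fun x => f (θ x)) ∈ H163.Steinberg.St Δ := by
  classical
  intro i x
  have h1 := hf (τ i) (θ x)
  unfold H163.Steinberg.psum at h1 ⊢
  refine Eq.trans ?_ h1
  refine Eq.trans (Finset.sum_congr rfl fun y _ => ?_)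
    (Equiv.sum_comp θ (fun y => if y ∈ Δ.Pan (τ i) (θ x) then f y else 0))
  simp only [h i x y]

/-- the operator on the Steinberg space -/
noncomputable def opSt (θ : C ≃ C) (τ : I → I) (h : ∀ i x y, y ∈ Δ.Pan i x ↔ θ y ∈ Δ.Pan (τ i) (θ x)) :
    H163.Steinberg.St Δ →ₗ[ℂ] H163.Steinberg.St Δ where
  toFun f := ⟨fun x => (f : C → ℂ) (θ x), comp_mem_St Δ θ τ h f.2⟩
  map_add' _ _ := rfl
  map_smul' _ _ := rfl

theorem opSt_injective (θ : C ≃ C) (τ : I → I) (h : ∀ i x y, y ∈ Δ.Pan i x ↔ θ y ∈ Δ.Pan (τ i) (θ x)) :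
    Function.Injective (opSt Δ θ τ h) := by
  intro f g hfg
  apply Subtype.ext
  funext x
  have h1 := congrFun (congrArg Subtype.val hfg) (θ.symm x)
  change (f : C → ℂ) (θ (θ.symm x)) = (g : C → ℂ) (θ (θ.symm x)) at h1
  rwa [θ.apply_symm_apply] at h1

variable {G : Type*} [Group G] [MulAction G C] [Finite G] [Finite W] {p : ℕ} (S : FixBN.Sys Δ G p)

omit [Finite G] [Finite W] in
theorem character_map (β : G ≃* G) (θ : C ≃ C) (τ : I → I)
    (h : ∀ i x y, y ∈ Δ.Pan i x ↔ θ y ∈ Δ.Pan (τ i) (θ x)) (hβ : ∀ (g : G) (x : C), θ (g • x) = β g • θ x) (g : G) :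
    (H163.Steinberg.rep (G := G) S.iso).character (β g) = (H163.Steinberg.rep (G := G) S.iso).character g := by
  classical
  let e : H163.Steinberg.St Δ ≃ₗ[ℂ] H163.Steinberg.St Δ :=
    LinearEquiv.ofInjectiveEndo (opSt Δ θ τ h) (opSt_injective Δ θ τ h)
  have h1 : e.conj (H163.Steinberg.rep (G := G) S.iso (β g)) = H163.Steinberg.rep (G := G) S.iso g := by
    apply LinearMap.ext
    intro f
    obtain ⟨f', rfl⟩ := e.surjective f
    rw [LinearEquiv.conj_apply_apply, e.symm_apply_apply]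
    apply Subtype.ext
    funext x
    change (f' : C → ℂ) ((β g)⁻¹ • θ x) = (f' : C → ℂ) (θ (g⁻¹ • x))
    rw [hβ, map_inv]
  change LinearMap.trace ℂ _ _ = LinearMap.trace ℂ _ _
  rw [← h1, LinearMap.trace_conj']

end Abs

open Cfsg.Agent.LieExceptional.BNPairCore Cfsg.Agent.Tits.OfBN
  Cfsg.Agent.Schreier.BNSch Cfsg.Agent.Tits.OppRes Cfsg.Agent.FixBN.OfBN Cfsg.Agent.FixBN.TwOfBN

variable {K : Type*} [Group K] {P : Cfsg.BNPair K} {p : ℕ} {U : Subgroup K}

/-- every automorphism acts on the building -/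
theorem exists_act (S : FixBN.Split P p U) [Finite K] [Fact p.Prime] [hN : ((P.B ⊓ P.N).subgroupOf P.N).Normal]
    {I : Type*} {M : CoxeterMatrix I} (e : I ≃ P.S) (cs : CoxeterSystem M (WP P))
    (hcs : ∀ i, cs.simple i = QuotientGroup.mk (⟨(e i : K), P.subset (e i).2⟩ : P.N)) (τ : K ≃* K) :
    ∃ (θ : (K ⧸ P.B) ≃ (K ⧸ P.B)) (σ : I → I),
      (∀ i x y, y ∈ (bldg P e cs hcs).Pan i x ↔ θ y ∈ (bldg P e cs hcs).Pan (σ i) (θ x)) ∧
      ∀ (g : K) (x : K ⧸ P.B), θ (g • x) = τ g • θ x := by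
  obtain ⟨g, hg⟩ := exists_conj S τ
  set α : K ≃* K := τ.trans (MulAut.conj g⁻¹) with hαdef
  have hα' : ∀ b, α b = g⁻¹ * τ b * g := by
    intro b
    rw [hαdef]
    simp
  have hα : ∀ b, α b ∈ P.B ↔ b ∈ P.B := fun b => by rw [hα']; exact hg b
  have hθwd : ∀ a b : K, a⁻¹ * b ∈ P.B ↔ (QuotientGroup.mk (τ a * g) : K ⧸ P.B) = QuotientGroup.mk (τ b * g) := by
    intro a b
    rw [FixBN.OfBN.mk_eq]
    have h1 : (τ a * g)⁻¹ * (τ b * g) = α (a⁻¹ * b) := by
      rw [hα', map_mul, map_inv]; group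
    rw [h1, hα]
  set θ₀ : K ⧸ P.B → K ⧸ P.B := Quotient.lift (fun a : K => (QuotientGroup.mk (τ a * g) : K ⧸ P.B))
    (fun a b h => (hθwd a b).1 (QuotientGroup.leftRel_apply.1 h)) with hθ₀
  have hθ : ∀ a : K, θ₀ (QuotientGroup.mk a) = QuotientGroup.mk (τ a * g) := fun a => rfl
  have hinj : Function.Injective θ₀ := by
    intro x y h
    induction x using QuotientGroup.induction_on with
    | _ a =>
    induction y using QuotientGroup.induction_on with
    | _ b =>
    rw [hθ, hθ] at h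
    exact FixBN.OfBN.mk_eq.2 ((hθwd a b).2 h)
  have hsurj : Function.Surjective θ₀ := by
    intro x
    induction x using QuotientGroup.induction_on with
    | _ a =>
    refine ⟨QuotientGroup.mk (τ.symm (a * g⁻¹)), ?_⟩
    rw [hθ, τ.apply_symm_apply]
    congr 1
    group
  have hδ : ∀ x y, (bldg P e cs hcs).δ (θ₀ x) (θ₀ y) = fW P α ((bldg P e cs hcs).δ x y) := by
    intro x y
    induction x using QuotientGroup.induction_on with
    | _ a =>
    induction y using QuotientGroup.induction_on with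
    | _ b =>
    rw [hθ, hθ, bldg_δ_mk, bldg_δ_mk, fW_wt α hα]
    congr 1
    rw [hα', map_mul, map_inv]; group
  refine ⟨Equiv.ofBijective θ₀ ⟨hinj, hsurj⟩, sigma α hα e cs hcs, ?_, ?_⟩
  · intro i x y
    rw [(bldg P e cs hcs).mem_Pan, (bldg P e cs hcs).mem_Pan]
    change _ ↔ θ₀ y = θ₀ x ∨ (bldg P e cs hcs).δ (θ₀ x) (θ₀ y) = _
    rw [hδ, ← fW_simple α hα e cs hcs, hinj.eq_iff, (fW_injective α hα).eq_iff]
  · intro k x
    induction x using QuotientGroup.induction_on with
    | _ a =>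
    show θ₀ (k • QuotientGroup.mk a) = τ k • θ₀ (QuotientGroup.mk a)
    rw [FixBN.OfBN.smul_mk, hθ, hθ, FixBN.OfBN.smul_mk, map_mul, mul_assoc]

/-- **The Steinberg character** is rational valued and invariant under all automorphisms. -/
theorem exists_steinberg {K : Type*} [Group K] [Finite K] {p : ℕ} [Fact p.Prime] (h : FixBN.HasSplit p K) :
    ∃ χ : K → ℂ, IsIrrCharacter K χ ∧ (∀ g : K, ∃ q : ℚ, χ g = q) ∧
      (∀ Q : Sylow p K, χ 1 = Nat.card Q ∧ ∀ x : K, x ∈ Q → x ≠ 1 → χ x = 0) ∧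
      ∀ (β : MulAut K) (g : K), χ (β g) = χ g := by
  obtain ⟨P, U, -, h⟩ := h
  have hN : ((P.B ⊓ P.N).subgroupOf P.N).Normal := Tits.OfBN.normal_subgroupOf P
  obtain ⟨M, cs, hcs⟩ := S0320.result P
  have S := FixBN.OfBN.sys (Equiv.refl P.S) cs hcs h
  have : Fintype (K ⧸ P.B) := Fintype.ofFinite _
  have : Finite (WP P) := Quotient.finite _
  have hopp : ∀ c : K ⧸ P.B, ∃ d, (bldg P (Equiv.refl P.S) cs hcs).Opp c d := fun c => Tits.Opp.exists_opp _ c
  have hirr := H163.Steinberg.isIrreducible S (fun x y => MulAction.exists_smul_eq K x y)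
    (QuotientGroup.mk 1 : K ⧸ P.B) (hopp _)
  refine ⟨(H163.Steinberg.rep (G := K) S.iso).character, Characters.Core.isIrrCharacter_of_rep _ hirr,
    H707.GalTrace.rat_character _ S, fun Q => ?_, fun β g => ?_⟩
  · obtain ⟨c, hc⟩ := S.exists_fix Q Q.isPGroup'
    have hQ : (Q : Subgroup K) = S.U c :=
      (Q.is_maximal' (S.isP c) (S.max c Q Q.isPGroup' hc)).symm
    constructor
    · rw [H163.Steinberg.character_apply S c (hopp c) 1 (one_mem _), if_pos rfl, ← hQ]
    · intro x hx hx1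
      have hx' : x ∈ S.U c := by rw [← hQ]; exact hx
      rw [H163.Steinberg.character_apply S c (hopp c) x hx', if_neg hx1]
  · obtain ⟨θ, σ, h1, h2⟩ := exists_act h (Equiv.refl P.S) cs hcs β
    exact character_map _ S β θ σ h1 h2 g

/-- `Row2` from a split (B, N)-pair of odd characteristic -/
theorem row2_of_hasSplit {K : Type u} [Group K] [Finite K] {p : ℕ} [hp : Fact p.Prime] (hp2 : p ≠ 2)
    (h : FixBN.HasSplit p K) : Row2 K := by
  apply row2_of
  intro B _
  obtain ⟨χ, h1, h2, h3, h4⟩ := exists_steinberg h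
  refine ⟨χ, h1, ?_, ?_, h2, fun b _ x => h4 b x⟩
  · rintro rfl
    obtain ⟨P, U, ⟨s, hs⟩, hU⟩ := h
    obtain ⟨V, hV⟩ := hU.node s hs
    obtain ⟨u, hu, huV⟩ := hV.ne
    have hu1 : u ≠ 1 := fun h => huV (h ▸ one_mem V)
    obtain ⟨Q, hQ⟩ := hU.isP.exists_le_sylow
    have h4 := (h3 Q).2 u (hQ hu) hu1
    exact one_ne_zero h4
  · obtain ⟨Q⟩ : Nonempty (Sylow p K) := inferInstance
    refine ⟨Nat.card Q, ?_, (h3 Q).1⟩
    obtain ⟨k, hk⟩ := Q.isPGroup'.exists_card_eq
    rw [hk]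
    exact (hp.out.odd_of_ne_two hp2).pow

end Cfsg.Agent.H601.R2
end

-- part: H629/CY/Defs
section
set_option linter.all false

/-!
# S4829, sporadic groups and the Tits group: the interface (helper629)

`WitC p S` : for every `p`-modular ideal there is a nontrivial `ℚ(ζ_p)`-valued irreducible character of degree prime to `p`
in the principal `p`-block of `S`.   `WitO p S` : the same with ODD degree.

* `|Out S| = 1` : `WitC p S → RowA p S`;
* `|Out S| = 2`, `p` odd : `WitO p S → RowA p S` (no invariance needed: see `H629/CY/Core.lean`).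
-/

set_option autoImplicit false

namespace Cfsg.Agent.H629.CY

open Cfsg Cfsg.Agent.H770.CY

universe u

/-- a nontrivial `ℚ(ζ_p)`-valued character of degree prime to `p` in the principal block -/
def WitC (p : ℕ) (S : Type u) [Group S] : Prop := ∀ M : Ideal AlgInt, IsPModular p M → ∃ θ : IrrCharacter S,
  θ ∈ principalBlock M S ∧ (θ : S → ℂ) ≠ (fun _ => 1) ∧ ¬ p ∣ charDegree (θ : S → ℂ) ∧ Cyc p (θ : S → ℂ)

/-- a nontrivial `ℚ(ζ_p)`-valued character of ODD degree prime to `p` in the principal block -/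
def WitO (p : ℕ) (S : Type u) [Group S] : Prop := ∀ M : Ideal AlgInt, IsPModular p M → ∃ θ : IrrCharacter S,
  θ ∈ principalBlock M S ∧ (θ : S → ℂ) ≠ (fun _ => 1) ∧ ¬ p ∣ charDegree (θ : S → ℂ) ∧ Odd (charDegree (θ : S → ℂ)) ∧
    Cyc p (θ : S → ℂ)

/-- the same with rational values -/
def WitOR (p : ℕ) (S : Type u) [Group S] : Prop := ∀ M : Ideal AlgInt, IsPModular p M → ∃ θ : IrrCharacter S,
  θ ∈ principalBlock M S ∧ (θ : S → ℂ) ≠ (fun _ => 1) ∧ ¬ p ∣ charDegree (θ : S → ℂ) ∧ Odd (charDegree (θ : S → ℂ)) ∧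
    H493.RatB.RatV (θ : S → ℂ)

theorem WitO.witC {p : ℕ} {S : Type u} [Group S] (h : WitO p S) : WitC p S := fun M hM => by
  obtain ⟨θ, h1, h2, h3, -, h5⟩ := h M hM
  exact ⟨θ, h1, h2, h3, h5⟩

end Cfsg.Agent.H629.CY
end

-- part: H629/CY/Core_mg
section
prune_inst 0x2450094010000000000000002040080000000020000010000404000791400000810040001812000800000000002002100040400000000004000000000000000000000000009100000080028a000000008000000000000000000000041004010000000
set_option linter.all false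
open scoped Cfsg.Agent.FastGrp

-- part: H629/CY/Two
section
/-!
# S4829: characters over a normal subgroup of index two (helper629)

`D` of index two in `W`, `θ ∈ Irr D`, `χ ∈ Irr W` over `θ`.

* `res_of_vanish` : `χ` vanishes off `D`: `χ = θ + θ^w` on `D`, `θ^w ≠ θ` for `w ∉ D`;
* `res_of_not_vanish` : otherwise `χ = θ` on `D`;
* `cyc_of_odd` : `D` perfect, `χ = θ` on `D`, `θ (1)` odd, `θ` with values in `ℚ(ζ_p)`: the same for `χ`.
-/

set_option autoImplicit false

namespace Cfsg.Agent.H629.CY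

open Cfsg Cfsg.Agent.H770.CY Cfsg.Agent.Characters.Core Cfsg.Agent.Characters.Clifford
open scoped ComplexConjugate

universe u

variable {W : Type u} [Group W] [Finite W]

/-- the field automorphism behind `g ↦ g ^ k` -/
theorem exists_sigma {k : ℕ} (hk : k.Coprime (Nat.card W)) :
    ∃ σ : ℂ ≃+* ℂ, ∀ {χ : W → ℂ}, IsCharacter W χ → ∀ g, σ (χ g) = χ (g ^ k) := by
  obtain ⟨σ, hσ⟩ := Cfsg.Agent.Characters.Galois.exists_ringEquiv_complex Nat.card_pos.ne' hk
  exact ⟨σ, fun h g => OddOrderCharacters.GaloisTwist.map_apply σ Nat.card_pos.ne' hσ h g pow_card_eq_one'⟩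

theorem detChar_eq_one {N : Type u} [Group N] [Finite N] (hperf : commutator N = ⊤) {θ : N → ℂ}
    (hθ : IsIrrCharacter N θ) (n : N) : detChar θ n = 1 := by
  obtain ⟨δ, hδ⟩ := CharactersDeep.ExtUnique.exists_hom_detChar hθ
  have h1 : n ∈ δ.ker := by
    have h2 : commutator N ≤ δ.ker := Abelianization.commutator_subset_ker δ
    exact h2 (by rw [hperf]; exact Subgroup.mem_top n)
  rw [hδ, MonoidHom.mem_ker.1 h1, Units.val_one]

/-- **the determinant trick** -/
theorem cyc_of_odd {p : ℕ} (D : Subgroup W) [D.Normal] (hD : D.index = 2) (hperf : commutator D = ⊤)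
    {χ : IrrCharacter W} {θ : IrrCharacter D} (hres : ∀ d : D, (χ : W → ℂ) d = (θ : D → ℂ) d)
    (hodd : Odd (charDegree (θ : D → ℂ))) (hc : Cyc p (θ : D → ℂ)) : Cyc p (χ : W → ℂ) := by
  intro k hk hkp g
  obtain ⟨σ, hσ⟩ := exists_sigma hk
  have hχ := isIrr_isCharacter χ.2
  have hkD : k.Coprime (Nat.card D) := hk.coprime_dvd_right (Subgroup.card_subgroup_dvd_card D)
  have hχ' : IsIrrCharacter W (fun g => σ ((χ : W → ℂ) g)) := OddOrderCharacters.GaloisTwist.isIrrCharacter_map σ χ.2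
  obtain ⟨β, hβD, hβ⟩ := CharactersDeep.ExtUnique.exists_hom_mul_of_restrict_eq D hχ (isIrr_isCharacter hχ') θ.2 hres
    (fun n => by
      show σ ((χ : W → ℂ) n) = _
      rw [hσ hχ, ← hc k hkD hkp n, ← hres]
      rfl)
  obtain ⟨δ, hδ⟩ := CharactersDeep.ExtUnique.exists_hom_detChar χ.2
  have hδD : ∀ d : D, δ d = 1 := fun d => by
    apply Units.ext
    rw [Units.val_one, ← hδ, CharactersDeep.ExtUnique.detChar_restrict D χ.2 θ.2 hres, detChar_eq_one hperf θ.2]
  have hsq : ∀ x : W, x ^ 2 ∈ D := fun x => by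
    rw [← hD]
    exact D.pow_index_mem x
  have hδ2 : ∀ x, δ x ^ 2 = 1 := fun x => by
    rw [← map_pow]
    exact hδD ⟨x ^ 2, hsq x⟩
  have hσδ : ∀ x, σ ((δ x : ℂˣ) : ℂ) = ((δ x : ℂˣ) : ℂ) := fun x => by
    have h1 : ((δ x : ℂˣ) : ℂ) ^ 2 = 1 := by rw [← Units.val_pow_eq_pow_val, hδ2, Units.val_one]
    rcases (mul_self_eq_one_iff (a := ((δ x : ℂˣ) : ℂ))).1 (by rw [← pow_two]; exact h1) with h | h
    · rw [h, map_one]
    · rw [h, map_neg, map_one]
  have hdeg : (χ : W → ℂ) 1 = ((charDegree (χ : W → ℂ) : ℕ) : ℂ) := Blocks.Basic.irr_one_eq_charDegree χ.2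
  have hdeg' : charDegree (χ : W → ℂ) = charDegree (θ : D → ℂ) := by
    have h1 := Blocks.Basic.irr_one_eq_charDegree θ.2
    have h2 := hres 1
    rw [OneMemClass.coe_one, hdeg, h1] at h2
    exact_mod_cast h2
  -- compare the determinants
  have h3 : ∀ x, δ x = δ x * β x ^ charDegree (θ : D → ℂ) := fun x => by
    have h4 := H700.PRat.detChar_map σ χ.2 x
    have h5 : (fun g => σ ((χ : W → ℂ) g)) = fun g => (χ : W → ℂ) g * ((β g : ℂˣ) : ℂ) := funext hβ
    rw [h5, CharactersDeep.ExtUnique.detChar_mul_hom χ.2 hdeg β] at h4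
    simp only [hδ] at h4
    rw [hσδ, hdeg'] at h4
    apply Units.ext
    rw [Units.val_mul, Units.val_pow_eq_pow_val, h4]
  have h6 : ∀ x, β x = 1 := fun x => by
    have h7 : β x ^ charDegree (θ : D → ℂ) = 1 := by
      have := h3 x
      rwa [left_eq_mul] at this
    have h8 : β x ^ 2 = 1 := by
      rw [← map_pow]
      exact hβD _ (hsq x)
    have h9 : orderOf (β x) ∣ 1 := by
      have h10 := Nat.dvd_gcd (orderOf_dvd_of_pow_eq_one h8) (orderOf_dvd_of_pow_eq_one h7)
      rwa [Nat.Coprime.gcd_eq_one (Nat.coprime_two_left.2 hodd)] at h10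
    exact orderOf_eq_one_iff.1 (Nat.dvd_one.1 h9)
  have h11 := hβ g
  rw [h6, Units.val_one, mul_one, hσ hχ] at h11
  exact h11

/-- the conjugate of `θ` by `w` -/
theorem image_subset (D : Subgroup W) [hDn : D.Normal] (hD : D.index = 2) (θ : IrrCharacter D) {w : W} (hw : w ∉ D) (x : W) :
    (θ : D → ℂ) ∘ (MulAut.conjNormal x : MulAut D) = (θ : D → ℂ) ∨
      (θ : D → ℂ) ∘ (MulAut.conjNormal x : MulAut D) = (θ : D → ℂ) ∘ (MulAut.conjNormal w : MulAut D) := by
  by_cases hx : x ∈ D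
  · left
    funext d
    have h1 := isIrr_isClassFunction θ.2 d ⟨x, hx⟩
    show (θ : D → ℂ) (MulAut.conjNormal x d) = _
    rw [← h1]
    congr 1
  · right
    have h2 : x * w⁻¹ ∈ D := by
      rw [Subgroup.mul_mem_iff_of_index_two hD]
      simp [hx, hw]
    have h3 : x = (x * w⁻¹) * w := by group
    funext d
    show (θ : D → ℂ) (MulAut.conjNormal x d) = (θ : D → ℂ) (MulAut.conjNormal w d)
    have h4 : MulAut.conjNormal x d = (⟨x * w⁻¹, h2⟩ : D) * MulAut.conjNormal w d * (⟨x * w⁻¹, h2⟩ : D)⁻¹ := by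
      apply Subtype.ext
      show x * (d : W) * x⁻¹ = (x * w⁻¹) * (w * d * w⁻¹) * (x * w⁻¹)⁻¹
      group
    rw [h4]
    exact isIrr_isClassFunction θ.2 (MulAut.conjNormal w d) ⟨x * w⁻¹, h2⟩

/-- **the vanishing case** -/
theorem res_of_vanish (D : Subgroup W) [hDn : D.Normal] [Fintype D] (hD : D.index = 2) {χ : IrrCharacter W} {θ : IrrCharacter D}
    (h0 : classInner (fun d : D => (χ : W → ℂ) d) (θ : D → ℂ) ≠ 0) (hv : ∀ x, x ∉ D → (χ : W → ℂ) x = 0)
    {w : W} (hw : w ∉ D) :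
    (θ : D → ℂ) ∘ (MulAut.conjNormal w : MulAut D) ≠ (θ : D → ℂ) ∧
      ∀ d : D, (χ : W → ℂ) d = (θ : D → ℂ) d + (θ : D → ℂ) (MulAut.conjNormal w d) := by
  classical
  have := Fintype.ofFinite W
  set θw : D → ℂ := (θ : D → ℂ) ∘ (MulAut.conjNormal w : MulAut D) with hθw
  -- the norm
  have hnorm : classInner (fun d : D => (χ : W → ℂ) d) (fun d : D => (χ : W → ℂ) d) = 2 := by
    have h1 : classInner (χ : W → ℂ) (χ : W → ℂ) = 1 := classInner_irr_self χ.2
    rw [classInner_def] at h1 ⊢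
    have h2 : ∑ g : W, (χ : W → ℂ) g * conj ((χ : W → ℂ) g) = ∑ d : D, (χ : W → ℂ) d * conj ((χ : W → ℂ) d) := by
      rw [← Finset.sum_filter_add_sum_filter_not Finset.univ (fun g => g ∈ D)
        (fun g => (χ : W → ℂ) g * conj ((χ : W → ℂ) g)), Finset.sum_eq_zero (s := Finset.univ.filter (fun g => ¬ g ∈ D)),
        add_zero]
      · exact Finset.sum_subtype _ (by simp) _
      · intro g hg
        rw [hv g (Finset.mem_filter.1 hg).2, zero_mul]
    have h3 : (Nat.card W : ℂ) = Nat.card D * 2 := by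
      have h4 := D.card_mul_index
      rw [hD] at h4
      rw [← h4]
      push_cast
      ring
    have h5 : (Nat.card D : ℂ) ≠ 0 := Nat.cast_ne_zero.2 Nat.card_pos.ne'
    rw [← h2]
    rw [h3] at h1
    field_simp at h1 ⊢
    rw [h1]
  obtain ⟨e, he⟩ : ∃ e : ℕ, classInner (fun d : D => (χ : W → ℂ) d) (θ : D → ℂ) = e :=
    classInner_isNat (isCharacter_restrict D (isIrr_isCharacter χ.2)) (isIrr_isCharacter θ.2)
  have he0 : e ≠ 0 := by
    rintro rfl
    exact h0 (by rw [he]; norm_num)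
  have h6 := CharactersDeep.CliffordSum.classInner_restrict_self_eq D χ.2 θ.2 he he0
  have h7 := CharactersDeep.CliffordSum.restrict_eq_smul_sum D χ.2 θ.2 h0
  set F := Finset.univ.image (fun x : W => (θ : D → ℂ) ∘ (MulAut.conjNormal x : MulAut D)) with hF
  rw [hnorm] at h6
  have h8 : e ^ 2 * F.card = 2 := by exact_mod_cast h6.symm
  have hsub : F ⊆ {(θ : D → ℂ), θw} := by
    intro ψ hψ
    obtain ⟨x, -, rfl⟩ := Finset.mem_image.1 hψ
    rcases image_subset D hD θ hw x with h | h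
    · rw [h]; exact Finset.mem_insert_self _ _
    · rw [h]; exact Finset.mem_insert_of_mem (Finset.mem_singleton_self _)
  have he1 : e = 1 := by
    have h9 : e ^ 2 ∣ 2 := ⟨_, h8.symm⟩
    have h10 : e ^ 2 ≤ 2 := Nat.le_of_dvd (by norm_num) h9
    have h11 : e < 2 := by nlinarith only [h10]
    omega
  have hF2 : F.card = 2 := by rw [he1] at h8; omega
  have hne : θw ≠ (θ : D → ℂ) := by
    intro h
    have h9 := Finset.card_le_card hsub
    rw [h, Finset.pair_eq_singleton, Finset.card_singleton, hF2] at h9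
    omega
  have hFe : F = {(θ : D → ℂ), θw} := by
    apply Finset.eq_of_subset_of_card_le hsub
    rw [hF2]
    exact Finset.card_le_two
  refine ⟨hne, fun d => ?_⟩
  have h9 := congrFun h7 d
  rw [he, he1, hFe, Finset.sum_pair hne.symm, Nat.cast_one, one_smul] at h9
  exact h9

/-- **the other case** -/
theorem res_of_not_vanish (D : Subgroup W) [Fintype D] (hD : D.index = 2) {χ : IrrCharacter W} {θ : IrrCharacter D}
    (h0 : classInner (fun d : D => (χ : W → ℂ) d) (θ : D → ℂ) ≠ 0) {x : W} (hx : x ∉ D) (hv : (χ : W → ℂ) x ≠ 0) (d : D) :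
    (χ : W → ℂ) d = (θ : D → ℂ) d := by
  have h1 := HKS.CosetTwo.isIrr_restrict hD χ.2 hx hv
  by_contra h2
  apply h0
  exact classInner_irr_ne h1 θ.2 (fun h => h2 (congrFun h d))

end Cfsg.Agent.H629.CY
end

-- part: H629/CY/Core
section
/-!
# S4829: one odd character of `S` is enough when `|Out S| ≤ 2` (helper629)

`WitO.rowA` : `S` simple nonabelian, `|Out S| ≤ 2`, `p` odd, `WitO p S`: the row `RowA p S`. No invariance under the outer
automorphisms is needed.
-/

set_option autoImplicit false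

namespace Cfsg.Agent.H629.CY

open Cfsg Subgroup Cfsg.Agent.H770.CY Cfsg.Agent.Characters.Core Cfsg.Agent.Blocks
open scoped ComplexConjugate commutatorElement

universe u

/-- **the values of the characters of the principal block at the elements centralizing a Sylow subgroup** -/
theorem value_of_mem {G : Type u} [Group G] [Finite G] {p : ℕ} [Fact p.Prime] {M : Ideal AlgInt} (hM : IsPModular p M)
    {χ : IrrCharacter G} (hχ : χ ∈ principalBlock M G) {g : G} (hg : ¬ p ∣ (centralizer ({g} : Set G)).index) :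
    MemLocalIdeal M ((χ : G → ℂ) g - (χ : G → ℂ) 1) := by
  have hprime : M.IsPrime := Blocks.Local.isPrime_of_isPModular hM
  have h1 : MemLocalIdeal M (centralChar (fun _ : G => (1 : ℂ)) g - centralChar (χ : G → ℂ) g) := hχ g
  have hdeg := Blocks.Basic.irr_one_eq_charDegree χ.2
  have hd0 : (χ : G → ℂ) 1 ≠ 0 := Blocks.Basic.irr_one_ne_zero χ.2
  rw [Blocks.LocalRing.memLocalIdeal_sub_comm]
  apply H684.Principal.memLocalIdeal_of_mul hM hg
  have e1 : ((centralizer ({g} : Set G)).index : ℂ) * ((χ : G → ℂ) 1 - (χ : G → ℂ) g) =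
      (charDegree (χ : G → ℂ) : ℂ) * (centralChar (fun _ : G => (1 : ℂ)) g - centralChar (χ : G → ℂ) g) := by
    rw [Blocks.Basic.centralChar_def, Blocks.Basic.centralChar_def, ← hdeg]
    field_simp
  rw [e1]
  exact Blocks.LocalRing.memLocalIdeal_mul_left hM (Blocks.LocalRing.memLocalRing_natCast hM _) h1

/-- **over a subgroup of index two** -/
theorem exists_good {W : Type u} [Group W] [Finite W] (D : Subgroup W) [hDn : D.Normal] (hD : D.index = 2)
    (hperf : commutator D = ⊤) {p : ℕ} [hp : Fact p.Prime] (hp2 : p ≠ 2) {M : Ideal AlgInt} (hM : IsPModular p M)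
    {θ : IrrCharacter D} (hθ : θ ∈ principalBlock M D) (hd : ¬ p ∣ charDegree (θ : D → ℂ)) (hc : Cyc p (θ : D → ℂ))
    (hodd : Odd (charDegree (θ : D → ℂ))) {w : W} (hw : w ∉ D) :
    ∃ χ : IrrCharacter W, χ ∈ principalBlock M W ∧ ¬ p ∣ charDegree (χ : W → ℂ) ∧ Cyc p (χ : W → ℂ) ∧
      ((∀ d : D, (χ : W → ℂ) d = (θ : D → ℂ) d) ∨
        ((θ : D → ℂ) ∘ (MulAut.conjNormal w : MulAut D) ≠ (θ : D → ℂ) ∧
          ∀ d : D, (χ : W → ℂ) d = (θ : D → ℂ) d + (θ : D → ℂ) (MulAut.conjNormal w d))) := by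
  have := Fintype.ofFinite W
  have := Fintype.ofFinite D
  obtain ⟨P⟩ : Nonempty (Sylow p W) := inferInstance
  obtain ⟨χ, hχ, h0⟩ := H656.OverPrincipal.exists_over hM D P (by rw [normalizer_eq_top]; exact le_top) θ hθ
  have hdeg : (χ : W → ℂ) 1 = ((charDegree (χ : W → ℂ) : ℕ) : ℂ) := Blocks.Basic.irr_one_eq_charDegree χ.2
  have hdegθ : (θ : D → ℂ) 1 = ((charDegree (θ : D → ℂ) : ℕ) : ℂ) := Blocks.Basic.irr_one_eq_charDegree θ.2
  by_cases hv : ∀ x, x ∉ D → (χ : W → ℂ) x = 0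
  · obtain ⟨hne, hres⟩ := res_of_vanish D hD h0 hv hw
    refine ⟨χ, hχ, ?_, ?_, Or.inr ⟨hne, hres⟩⟩
    · have h1 := hres 1
      rw [map_one, OneMemClass.coe_one, hdeg, hdegθ] at h1
      have h2 : charDegree (χ : W → ℂ) = 2 * charDegree (θ : D → ℂ) := by
        have h3 : ((charDegree (χ : W → ℂ) : ℕ) : ℂ) = ((2 * charDegree (θ : D → ℂ) : ℕ) : ℂ) := by
          rw [h1]; push_cast; ring
        exact_mod_cast h3
      rw [h2]
      intro h3
      rcases hp.out.dvd_mul.1 h3 with h4 | h4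
      · exact hp2 ((Nat.prime_dvd_prime_iff_eq hp.out Nat.prime_two).1 h4)
      · exact hd h4
    · intro k hk hkp g
      have hkD : k.Coprime (Nat.card D) := hk.coprime_dvd_right (card_subgroup_dvd_card D)
      by_cases hg : g ∈ D
      · have h1 := hres ⟨g, hg⟩
        have h2 := hres (⟨g, hg⟩ ^ k)
        rw [map_pow, hc k hkD hkp, hc k hkD hkp, ← h1] at h2
        exact h2
      · have hk2 : Odd k := by
          have h1 : 2 ∣ Nat.card W := ⟨Nat.card D, by rw [← D.card_mul_index, hD, mul_comm]⟩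
          exact (Nat.coprime_two_right.1 (hk.coprime_dvd_right h1))
        have h2 : g ^ k ∉ D := by
          obtain ⟨j, rfl⟩ := hk2
          rw [pow_succ, mul_mem_iff_of_index_two hD]
          have h3 : g ^ (2 * j) ∈ D := by
            rw [pow_mul]
            apply pow_mem
            rw [← hD]
            exact D.pow_index_mem g
          simp [h3, hg]
        rw [hv _ h2, hv _ hg]
  · push Not at hv
    obtain ⟨x, hx, hx0⟩ := hv
    have hres := res_of_not_vanish D hD h0 hx hx0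
    refine ⟨χ, hχ, ?_, cyc_of_odd D hD hperf hres hodd hc, Or.inl hres⟩
    have h1 := hres 1
    rw [OneMemClass.coe_one, hdeg, hdegθ] at h1
    have h2 : charDegree (χ : W → ℂ) = charDegree (θ : D → ℂ) := by exact_mod_cast h1
    rw [h2]
    exact hd

/-! ### the group `A` of automorphisms -/

section aut

variable {S : Type u} [Group S] {A : Subgroup (MulAut S)}

/-- the inner automorphisms in `A` -/
def inn (hA : ∀ s : S, MulAut.conj s ∈ A) : S →* A := (MulAut.conj : S →* MulAut S).codRestrict A hA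

theorem inn_injective (hA : ∀ s : S, MulAut.conj s ∈ A) (hz : center S = ⊥) : Function.Injective (inn hA) := by
  rw [injective_iff_map_eq_one]
  intro s hs
  have h1 : MulAut.conj s = 1 := congrArg Subtype.val hs
  have h2 : s ∈ center S := by
    rw [mem_center_iff]
    intro x
    have h3 := DFunLike.congr_fun h1 x
    rw [MulAut.conj_apply, MulAut.one_apply] at h3
    have h4 : s * x = x * s := by
      calc s * x = s * x * s⁻¹ * s := by group
        _ = x * s := by rw [h3]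
    exact h4.symm
  rw [hz] at h2
  exact h2

theorem conj_inn (hA : ∀ s : S, MulAut.conj s ∈ A) (a : A) (s : S) : a * inn hA s * a⁻¹ = inn hA ((a : MulAut S) s) := by
  apply Subtype.ext
  show (a : MulAut S) * MulAut.conj s * (a : MulAut S)⁻¹ = MulAut.conj ((a : MulAut S) s)
  ext x
  simp only [MulAut.mul_apply, MulAut.conj_apply, _root_.MulAut.inv_apply, _root_.map_mul, _root_.MulEquiv.apply_symm_apply, _root_.map_inv]

/-- **a good character of `A` is a witness** -/
theorem witA_of_good [Fintype S] {p : ℕ} [hp : Fact p.Prime] {M : Ideal AlgInt} (hM : IsPModular p M)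
    (hA : ∀ s : S, MulAut.conj s ∈ A) (hz : center S = ⊥) (hidx : ¬ p ∣ (inn hA).range.index) {χ : IrrCharacter A}
    (h1 : χ ∈ principalBlock M A) (h2 : ¬ p ∣ charDegree (χ : A → ℂ)) (h3 : Cyc p (χ : A → ℂ))
    (h4 : ∀ θ : IrrCharacter S, classInner (fun s => (χ : A → ℂ) (inn hA s)) (θ : S → ℂ) = 0 ∨
      (classInner (fun s => (χ : A → ℂ) (inn hA s)) (θ : S → ℂ) = 1 ∧ (θ : S → ℂ) ≠ (fun _ => 1) ∧ Cyc p (θ : S → ℂ))) :
    WitA p M S A hA (χ : A → ℂ) where
  char := isIrr_isCharacter χ.2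
  cyc := h3
  deg := ⟨_, Blocks.Basic.irr_one_eq_charDegree χ.2, h2⟩
  mf := h4
  loc a _ hQ := by
    obtain ⟨Q, hQ⟩ := hQ
    apply value_of_mem hM h1
    intro h5
    have h6 : (Q : Subgroup S).map (inn hA) ≤ centralizer ({a} : Set A) := by
      rintro _ ⟨x, hx, rfl⟩
      rw [mem_centralizer_singleton_iff]
      have h7 := conj_inn hA a x
      rw [hQ x hx] at h7
      calc inn hA x * a = a * inn hA x * a⁻¹ * a := by rw [h7]
        _ = a * inn hA x := by group
    have h7 := h5.trans (index_dvd_of_le h6)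
    rw [index_map_of_injective (Q : Subgroup S) (inn_injective hA hz)] at h7
    rcases hp.out.dvd_mul.1 h7 with h8 | h8
    · exact Q.not_dvd_index h8
    · exact hidx h8

theorem inner_cases [Fintype S] {θ θ' : S → ℂ} (h : IsIrrCharacter S θ) (h' : IsIrrCharacter S θ') :
    (classInner θ θ' = 0 ∧ θ ≠ θ') ∨ (classInner θ θ' = 1 ∧ θ = θ') := by
  by_cases he : θ = θ'
  · right
    subst he
    exact ⟨classInner_irr_self h, rfl⟩
  · left
    exact ⟨classInner_irr_ne h h' he, he⟩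

theorem charDegree_comp {T : Type u} [Group T] (e : S ≃* T) (χ : T → ℂ) :
    charDegree (fun x : S => χ (e x)) = charDegree χ := by
  rw [Blocks.Basic.charDegree_def, Blocks.Basic.charDegree_def, map_one]

theorem Cyc.comp {T : Type u} [Group T] (e : S ≃* T) {p : ℕ} {χ : T → ℂ} (h : Cyc p χ) :
    Cyc p (fun x : S => χ (e x)) := by
  intro k hk hkp g
  show χ (e (g ^ k)) = χ (e g)
  rw [map_pow]
  exact h k (by rwa [← Nat.card_congr e.toEquiv]) hkp _

theorem ne_one_comp {T : Type u} [Group T] (e : S ≃* T) {χ : T → ℂ} (h : χ ≠ fun _ => 1) :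
    (fun x : S => χ (e x)) ≠ fun _ => 1 := fun h5 => h (by
  funext y
  obtain ⟨x, rfl⟩ := e.surjective y
  exact congrFun h5 x)

/-- all automorphisms in `A` are inner -/
theorem witA_of_inner [Fintype S] {p : ℕ} [hp : Fact p.Prime] {M : Ideal AlgInt} (hM : IsPModular p M)
    (hA : ∀ s : S, MulAut.conj s ∈ A) (hz : center S = ⊥) (hs : Function.Surjective (inn hA)) {θ : IrrCharacter S}
    (h1 : θ ∈ principalBlock M S) (h2 : (θ : S → ℂ) ≠ fun _ => 1) (h3 : ¬ p ∣ charDegree (θ : S → ℂ))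
    (h4 : Cyc p (θ : S → ℂ)) : ∃ Ψ : A → ℂ, WitA p M S A hA Ψ := by
  have : Finite (MulAut S) := inferInstance
  let e : S ≃* A := MulEquiv.ofBijective (inn hA) ⟨inn_injective hA hz, hs⟩
  have he : ∀ s, e s = inn hA s := fun s => rfl
  set χ : IrrCharacter A := ⟨_, isIrr_comp (e.symm : A →* S) e.symm.surjective θ.2⟩ with hχ
  have hres : (fun s => (χ : A → ℂ) (inn hA s)) = (θ : S → ℂ) := by
    funext s
    show (θ : S → ℂ) (e.symm (inn hA s)) = _
    rw [← he, e.symm_apply_apply]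
  have hidx : (inn hA).range = ⊤ := MonoidHom.range_eq_top.2 hs
  refine ⟨χ, witA_of_good hM hA hz ?_ (H493.RatB.mem_principalBlock_comp e.symm h1) ?_ ?_ fun θ' => ?_⟩
  · rw [hidx, index_top]
    exact hp.out.not_dvd_one
  · show ¬ p ∣ charDegree (fun x : A => (θ : S → ℂ) (e.symm x))
    rwa [charDegree_comp]
  · exact Cyc.comp e.symm h4
  · rw [hres]
    rcases inner_cases θ.2 θ'.2 with h | h
    · exact Or.inl h.1
    · refine Or.inr ⟨h.1, ?_, ?_⟩
      · rw [← h.2]; exact h2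
      · rw [← h.2]; exact h4

/-- `A` contains the inner automorphisms with index two -/
theorem witA_of_two [Fintype S] (hperf : commutator S = ⊤) {p : ℕ} [hp : Fact p.Prime] (hp2 : p ≠ 2) {M : Ideal AlgInt}
    (hM : IsPModular p M) (hA : ∀ s : S, MulAut.conj s ∈ A) (hz : center S = ⊥) (hi : (inn hA).range.index = 2)
    {θ : IrrCharacter S} (h1 : θ ∈ principalBlock M S) (h2 : (θ : S → ℂ) ≠ fun _ => 1)
    (h3 : ¬ p ∣ charDegree (θ : S → ℂ)) (h4 : Cyc p (θ : S → ℂ)) (h5 : Odd (charDegree (θ : S → ℂ))) :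
    ∃ Ψ : A → ℂ, WitA p M S A hA Ψ := by
  have : Finite (MulAut S) := inferInstance
  let e : S ≃* (inn hA).range := MonoidHom.ofInjective (inn_injective hA hz)
  have he : ∀ s, ((e s : (inn hA).range) : A) = inn hA s := fun s => rfl
  have hN : (inn hA).range.Normal := normal_of_index_eq_two hi
  have hperfD : commutator (inn hA).range = ⊤ := by
    rw [commutator_def] at hperf ⊢
    have h6 : (⊤ : Subgroup (inn hA).range) = (⊤ : Subgroup S).map e.toMonoidHom :=
      (Subgroup.map_top_of_surjective _ e.surjective).symm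
    rw [h6, ← Subgroup.map_commutator, hperf]
  set θD : IrrCharacter (inn hA).range := ⟨_, isIrr_comp (e.symm : (inn hA).range →* S) e.symm.surjective θ.2⟩ with hθD
  have hθe : ∀ s, (θD : (inn hA).range → ℂ) (e s) = (θ : S → ℂ) s := fun s => by
    show (θ : S → ℂ) (e.symm (e s)) = _
    rw [e.symm_apply_apply]
  obtain ⟨w, hw⟩ : ∃ w : A, w ∉ (inn hA).range := by
    by_contra hcon
    push Not at hcon
    rw [(eq_top_iff' _).2 hcon, index_top] at hi
    omega
  obtain ⟨χ, g1, g2, g3, g4⟩ := exists_good (inn hA).range hi hperfD hp2 hM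
    (H493.RatB.mem_principalBlock_comp e.symm h1)
    (by
      show ¬ p ∣ charDegree (fun x => (θ : S → ℂ) (e.symm x))
      rwa [charDegree_comp])
    (Cyc.comp e.symm h4)
    (by
      show Odd (charDegree (fun x => (θ : S → ℂ) (e.symm x)))
      rwa [charDegree_comp]) hw
  have hidx : ¬ p ∣ (inn hA).range.index := by
    rw [hi]
    intro h
    exact hp2 ((Nat.prime_dvd_prime_iff_eq hp.out Nat.prime_two).1 h)
  refine ⟨χ, witA_of_good hM hA hz hidx g1 g2 g3 fun θ' => ?_⟩
  rcases g4 with g4 | ⟨g4, g5⟩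
  · have hres : (fun s => (χ : A → ℂ) (inn hA s)) = (θ : S → ℂ) := by
      funext s
      rw [← he, g4]
      exact hθe s
    rw [hres]
    rcases inner_cases θ.2 θ'.2 with h | h
    · exact Or.inl h.1
    · refine Or.inr ⟨h.1, ?_, ?_⟩
      · rw [← h.2]; exact h2
      · rw [← h.2]; exact h4
  · set θw : S → ℂ := fun s => (θ : S → ℂ) ((w : MulAut S) s) with hθw
    have hwirr : IsIrrCharacter S θw := isIrr_comp ((w : MulAut S) : S →* S) (w : MulAut S).surjective θ.2
    have hcn : ∀ s, MulAut.conjNormal w (e s) = e ((w : MulAut S) s) := fun s => by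
      apply Subtype.ext
      show w * inn hA s * w⁻¹ = inn hA ((w : MulAut S) s)
      exact conj_inn hA w s
    have hne : (θ : S → ℂ) ≠ θw := by
      intro h
      apply g4
      funext d
      obtain ⟨s, rfl⟩ := e.surjective d
      show (θD : (inn hA).range → ℂ) (MulAut.conjNormal w (e s)) = (θD : (inn hA).range → ℂ) (e s)
      rw [hcn, hθe, hθe]
      exact (congrFun h s).symm
    have hres : (fun s => (χ : A → ℂ) (inn hA s)) = (θ : S → ℂ) + θw := by
      funext s
      rw [← he, g5, hcn, hθe, hθe]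
      rfl
    have hwc : Cyc p θw := Cyc.comp (w : MulAut S) h4
    have hw1 : θw ≠ fun _ => 1 := ne_one_comp (w : MulAut S) h2
    rw [hres, classInner_add_left]
    rcases inner_cases θ.2 θ'.2 with h | h
    · rcases inner_cases hwirr θ'.2 with h' | h'
      · left
        rw [h.1, h'.1, add_zero]
      · refine Or.inr ⟨by rw [h.1, h'.1, zero_add], ?_, ?_⟩
        · rw [← h'.2]; exact hw1
        · rw [← h'.2]; exact hwc
    · rcases inner_cases hwirr θ'.2 with h' | h'
      · refine Or.inr ⟨by rw [h.1, h'.1, add_zero], ?_, ?_⟩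
        · rw [← h.2]; exact h2
        · rw [← h.2]; exact h4
      · exact absurd (h.2.trans h'.2.symm) hne

end aut

theorem center_eq_bot {S : Type u} [Group S] [IsSimpleGroup S] (hna : ¬ IsMulCommutative S) : center S = ⊥ := by
  rcases (inferInstance : (center S).Normal).eq_bot_or_eq_top with h | h
  · exact h
  · exfalso
    apply hna
    exact ⟨⟨fun a b => (mem_center_iff.1 (by rw [h]; exact mem_top b) a)⟩⟩

theorem commutator_eq_top {S : Type u} [Group S] [IsSimpleGroup S] (hna : ¬ IsMulCommutative S) : commutator S = ⊤ := by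
  rcases (inferInstance : (commutator S).Normal).eq_bot_or_eq_top with h | h
  · exfalso
    apply hna
    refine ⟨⟨fun a b => ?_⟩⟩
    have h1 : ⁅a, b⁆ ∈ commutator S := commutator_mem_commutator (mem_top a) (mem_top b)
    rw [h, mem_bot, commutatorElement_eq_one_iff_mul_comm] at h1
    exact h1
  · exact h

theorem index_inn {S : Type u} [Group S] {A : Subgroup (MulAut S)} (hA : ∀ s : S, MulAut.conj s ∈ A) :
    (inn hA).range.index * A.index = (MulAut.conj : S →* MulAut S).range.index := by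
  have h1 : (MulAut.conj : S →* MulAut S).range ≤ A := by
    rintro _ ⟨s, rfl⟩
    exact hA s
  have h2 : (inn hA).range = (MulAut.conj : S →* MulAut S).range.subgroupOf A := by
    ext a
    rw [mem_subgroupOf]
    constructor
    · rintro ⟨s, rfl⟩
      exact ⟨s, rfl⟩
    · rintro ⟨s, hs⟩
      exact ⟨s, Subtype.ext hs⟩
  rw [h2]
  exact relIndex_mul_index h1

/-- **The row for `|Out S| = 1`** -/
theorem WitC.rowA {p : ℕ} [hp : Fact p.Prime] {S : Type u} [Group S] [Fintype S] [IsSimpleGroup S]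
    (hna : ¬ IsMulCommutative S) (hout : (MulAut.conj : S →* MulAut S).range.index = 1) (h : WitC p S) : RowA p S := by
  intro A hA M hM
  obtain ⟨θ, h1, h2, h3, h4⟩ := h M hM
  have h5 := index_inn hA.1
  rw [hout] at h5
  have h6 : (inn hA.1).range = ⊤ := index_eq_one.1 (Nat.eq_one_of_mul_eq_one_right h5)
  exact witA_of_inner hM hA.1 (center_eq_bot hna) (MonoidHom.range_eq_top.1 h6) h1 h2 h3 h4

/-- **The row for `|Out S| ≤ 2`** -/
theorem WitO.rowA {p : ℕ} [hp : Fact p.Prime] (hp2 : p ≠ 2) {S : Type u} [Group S] [Fintype S] [IsSimpleGroup S]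
    (hna : ¬ IsMulCommutative S) (hout : (MulAut.conj : S →* MulAut S).range.index ≤ 2) (h : WitO p S) : RowA p S := by
  intro A hA M hM
  have : Finite (MulAut S) := inferInstance
  obtain ⟨θ, h1, h2, h3, h4, h5⟩ := h M hM
  have h6 := index_inn hA.1
  have h7 : (inn hA.1).range.index ≠ 0 := index_ne_zero_of_finite
  have h8 : A.index ≠ 0 := index_ne_zero_of_finite
  have h9 : (inn hA.1).range.index ≤ 2 := by
    calc (inn hA.1).range.index ≤ (inn hA.1).range.index * A.index := Nat.le_mul_of_pos_right _ (Nat.pos_of_ne_zero h8)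
      _ ≤ 2 := by rw [h6]; exact hout
  have h10 : (inn hA.1).range.index = 1 ∨ (inn hA.1).range.index = 2 := by omega
  rcases h10 with h10 | h10
  · exact witA_of_inner hM hA.1 (center_eq_bot hna) (MonoidHom.range_eq_top.1 (index_eq_one.1 h10)) h1 h2 h3 h5
  · exact witA_of_two (commutator_eq_top hna) hp2 hM hA.1 (center_eq_bot hna) h10 h1 h2 h3 h5 h4

/-- rational values are `ℚ(ζ_p)`-values -/
theorem cyc_of_ratV {p : ℕ} {G : Type u} [Group G] [Finite G] {χ : G → ℂ} (hχ : IsCharacter G χ)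
    (h : H493.RatB.RatV χ) : Cyc p χ := by
  intro k hk _ g
  obtain ⟨σ, hσ⟩ := exists_sigma hk
  obtain ⟨q, hq⟩ := h g
  rw [← hσ hχ, hq]
  exact map_ratCast σ q

theorem WitOR.witO {p : ℕ} {S : Type u} [Group S] [Finite S] (h : WitOR p S) : WitO p S := fun M hM => by
  obtain ⟨θ, h1, h2, h3, h4, h5⟩ := h M hM
  exact ⟨θ, h1, h2, h3, h4, cyc_of_ratV (isIrr_isCharacter θ.2) h5⟩

theorem witC_of_witR {p : ℕ} {S : Type u} [Group S] [Finite S] (h : H493.RatB.WitR p S) : WitC p S := fun M hM => by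
  obtain ⟨θ, h1, h2, h3, h5⟩ := h M hM
  exact ⟨θ, h1, h2, h3, cyc_of_ratV (isIrr_isCharacter θ.2) h5⟩

end Cfsg.Agent.H629.CY
end

-- part: H517/CY/Par
section
/-!
# S4829, the parity tool (helper517)

`exists_odd` : `B₀` contains a nontrivial `Q(ζ_p)`-valued character of odd degree, as soon as the elements of odd order
of the Galois group of `Q(ζ_n) / Q(ζ_p)` fix all the conjugacy classes.
-/

set_option autoImplicit false

open Subgroup
open scoped ComplexConjugate

namespace Cfsg.Agent.H517.CY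

open Cfsg Cfsg.Agent.H770.CY

universe u

variable {G : Type u} [Group G]

/-- the power map on irreducible characters -/
noncomputable def powC [Finite G] (k : ℕ) (hk : k.Coprime (Nat.card G)) (χ : IrrCharacter G) : IrrCharacter G :=
  ⟨fun g => (χ : G → ℂ) (g ^ k), OddOrderCharacters.GaloisTwist.isIrrCharacter_pow hk χ.2⟩

theorem powC_apply [Finite G] (k : ℕ) (hk : k.Coprime (Nat.card G)) (χ : IrrCharacter G) (g : G) :
    (powC k hk χ : G → ℂ) g = (χ : G → ℂ) (g ^ k) := rfl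

theorem pow_val [Finite G] (g : G) (k : ℕ) : g ^ ((k : ZMod (Nat.card G)).val) = g ^ k := by
  rw [ZMod.val_natCast, pow_mod_natCard]

/-- the action of `(Z/n)ˣ` on the irreducible characters -/
@[reducible] noncomputable def act [Finite G] : MulAction (ZMod (Nat.card G))ˣ (IrrCharacter G) where
  smul u χ := powC (u : ZMod (Nat.card G)).val (ZMod.val_coe_unit_coprime u) χ
  one_smul χ := by
    apply Subtype.ext
    funext g
    show (χ : G → ℂ) (g ^ (((1 : (ZMod (Nat.card G))ˣ) : ZMod (Nat.card G)).val)) = _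
    have h : (((1 : (ZMod (Nat.card G))ˣ) : ZMod (Nat.card G))) = ((1 : ℕ) : ZMod (Nat.card G)) := by simp
    rw [h, pow_val, pow_one]
  mul_smul u v χ := by
    apply Subtype.ext
    funext g
    show (χ : G → ℂ) (g ^ (((u * v : (ZMod (Nat.card G))ˣ) : ZMod (Nat.card G)).val)) =
      (χ : G → ℂ) ((g ^ ((u : ZMod (Nat.card G)).val)) ^ ((v : ZMod (Nat.card G)).val))
    rw [← pow_mul, Units.val_mul, ZMod.val_mul, pow_mod_natCard]

attribute [local instance] act

theorem act_apply [Finite G] (u : (ZMod (Nat.card G))ˣ) (χ : IrrCharacter G) (g : G) :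
    ((u • χ : IrrCharacter G) : G → ℂ) g = (χ : G → ℂ) (g ^ ((u : ZMod (Nat.card G)).val)) := rfl

theorem centralizer_pow [Finite G] {m : ℕ} (hm : m.Coprime (Nat.card G)) (g : G) :
    centralizer ({g ^ m} : Set G) = centralizer ({g} : Set G) := by
  ext x
  rw [mem_centralizer_singleton_iff, mem_centralizer_singleton_iff]
  constructor
  · intro h
    obtain ⟨k, hk⟩ := exists_pow_eq_self_of_coprime (x := g) (n := m)
      (Nat.Coprime.coprime_dvd_right (_root_.orderOf_dvd_natCard g) hm)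
    have h1 : Commute x (g ^ m) := h
    have h2 := h1.pow_right k
    rw [hk] at h2
    exact h2
  · intro h
    have h1 : Commute x g := h
    exact h1.pow_right m

/-- The principal block is stable. -/
theorem powC_mem [Finite G] {M : Ideal AlgInt} {k : ℕ} (hk : k.Coprime (Nat.card G)) {χ : IrrCharacter G}
    (h : χ ∈ principalBlock M G) : powC k hk χ ∈ principalBlock M G := by
  have h1 : SameBlock M (fun _ : G => (1 : ℂ)) (χ : G → ℂ) := h
  show SameBlock M (fun _ : G => (1 : ℂ)) (powC k hk χ : G → ℂ)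
  intro g
  have h2 := h1 (g ^ k)
  have h3 : centralChar (fun _ : G => (1 : ℂ)) (g ^ k) = centralChar (fun _ : G => (1 : ℂ)) g := by
    unfold centralChar
    rw [centralizer_pow hk]
  have h4 : centralChar (powC k hk χ : G → ℂ) g = centralChar (χ : G → ℂ) (g ^ k) := by
    unfold centralChar
    rw [centralizer_pow hk, powC_apply, powC_apply, one_pow]
  rw [h3] at h2
  rw [h4]
  exact h2

theorem charDegree_cast (χ : IrrCharacter G) [Finite G] : (χ : G → ℂ) 1 = (charDegree (χ : G → ℂ) : ℂ) := by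
  have := Fintype.ofFinite G
  exact Blocks.Basic.irr_one_eq_charDegree χ.2

/-- the units congruent to 1 modulo `p` -/
def ker (p n : ℕ) (h : p ∣ n) : Subgroup (ZMod n)ˣ :=
  (Units.map (ZMod.castHom h (ZMod p) : ZMod n →* ZMod p)).ker

theorem mem_ker {p n : ℕ} [NeZero n] (h : p ∣ n) (u : (ZMod n)ˣ) : u ∈ ker p n h ↔ (u : ZMod n).val ≡ 1 [MOD p] := by
  have : NeZero n := inferInstance
  unfold ker
  rw [MonoidHom.mem_ker, Units.ext_iff]
  simp only [Units.coe_map, MonoidHom.coe_coe, Units.val_one]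
  rw [← ZMod.natCast_eq_natCast_iff, Nat.cast_one]
  constructor
  · intro h1
    rw [← h1]
    rw [ZMod.castHom_apply, ZMod.natCast_val]
  · intro h1
    rw [ZMod.castHom_apply, ← ZMod.natCast_val, h1]

/-- an element of a stabilizer, from its 2-part and its odd part -/
theorem mem_of_parts {K : Type*} [Group K] [Finite K] (T : Subgroup K) (h2 : ∀ u : K, (∃ k, u ^ 2 ^ k = 1) → u ∈ T)
    (ho : ∀ u : K, (∃ m, Odd m ∧ u ^ m = 1) → u ∈ T) (u : K) : u ∈ T := by
  obtain ⟨k, m, hm, hn⟩ := Nat.exists_eq_two_pow_mul_odd (orderOf_pos u).ne'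
  have h1 : u ^ m ∈ T := h2 _ ⟨k, by rw [← pow_mul, mul_comm, ← hn, pow_orderOf_eq_one]⟩
  have h3 : u ^ (2 ^ k) ∈ T := ho _ ⟨m, hm, by rw [← pow_mul, ← hn, pow_orderOf_eq_one]⟩
  have hc : Nat.Coprime m (2 ^ k) := (Nat.Coprime.pow_right k (Nat.coprime_two_right.2 hm))
  have h4 : u = (u ^ m) ^ (Nat.gcdA m (2 ^ k)) * (u ^ 2 ^ k) ^ (Nat.gcdB m (2 ^ k)) := by
    have h5 := Nat.gcd_eq_gcd_ab m (2 ^ k)
    rw [hc, Nat.cast_one] at h5
    rw [← zpow_natCast u m, ← zpow_natCast u (2 ^ k), ← zpow_mul, ← zpow_mul, ← zpow_add, ← h5, zpow_one]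
  rw [h4]
  exact T.mul_mem (T.zpow_mem h1 _) (T.zpow_mem h3 _)

theorem val_pow_eq [Finite G] {k : ℕ} (hk : k.Coprime (Nat.card G)) {x : G} {χ : IrrCharacter G} {z : ℤ}
    (h : (χ : G → ℂ) x = z) : (χ : G → ℂ) (x ^ k) = z := by
  obtain ⟨σ, hσ⟩ := Cfsg.Agent.Characters.Galois.exists_ringEquiv_complex Nat.card_pos.ne' hk
  have h1 := OddOrderCharacters.GaloisTwist.map_apply σ Nat.card_pos.ne' hσ (Blocks.Basic.irr_isCharacter χ.2) x
    pow_card_eq_one'
  rw [← h1, h, map_intCast]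

/-- the number of odd terms of an even sum -/
theorem even_card {ι : Type*} (s : Finset ι) (f : ι → ℤ) (h : Even (∑ i ∈ s, f i)) :
    Even (s.filter fun i => Odd (f i)).card := by
  classical
  have h1 : ((∑ i ∈ s, f i : ℤ) : ZMod 2) = ((s.filter fun i => Odd (f i)).card : ZMod 2) := by
    rw [Int.cast_sum, Finset.card_filter, Nat.cast_sum]
    refine Finset.sum_congr rfl fun i _ => ?_
    by_cases hi : Odd (f i)
    · rw [if_pos hi]
      obtain ⟨k, hk⟩ := hi
      rw [hk]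
      push_cast
      rw [show (2 : ZMod 2) = 0 from rfl]
      ring
    · rw [if_neg hi]
      rw [Int.not_odd_iff_even] at hi
      obtain ⟨k, hk⟩ := hi
      rw [hk]
      push_cast
      rw [← two_mul, show (2 : ZMod 2) = 0 from rfl]
      ring
  have h2 : ((∑ i ∈ s, f i : ℤ) : ZMod 2) = 0 := by
    rw [ZMod.intCast_zmod_eq_zero_iff_dvd]
    exact h.two_dvd
  rw [h1, ZMod.natCast_eq_zero_iff] at h2
  exact even_iff_two_dvd.2 h2

/-- **The parity argument.** -/
theorem exists_odd [Finite G] {p : ℕ} [hp : Fact p.Prime] {M : Ideal AlgInt} (hM : IsPModular p M) {x : G}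
    (hx : p ∣ orderOf x) (hz : ∀ χ : IrrCharacter G, ∃ z : ℤ, (χ : G → ℂ) x = z)
    (hodd : ∀ k : ℕ, k.Coprime (Nat.card G) → k ≡ 1 [MOD p] → (∃ m, Odd m ∧ k ^ m ≡ 1 [MOD Nat.card G]) →
      ∀ g : G, IsConj (g ^ k) g) :
    ∃ θ : IrrCharacter G, θ ∈ principalBlock M G ∧ (θ : G → ℂ) ≠ (fun _ => 1) ∧ Odd (charDegree (θ : G → ℂ)) ∧
      (∃ z : ℤ, Odd z ∧ (θ : G → ℂ) x = z) ∧ Cyc p (θ : G → ℂ) := by
  classical
  have := Fintype.ofFinite G
  have hfin : Finite (IrrCharacter G) := S0909.finite_irr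
  have := Fintype.ofFinite (IrrCharacter G)
  have hpn : p ∣ Nat.card G := hx.trans (_root_.orderOf_dvd_natCard x)
  choose z hz using hz
  have hpI : M.IsPrime := hM.2.1.isPrime
  let one : IrrCharacter G := ⟨fun _ => 1, Blocks.Basic.isIrrCharacter_one⟩
  have hone : one ∈ principalBlock M G := Blocks.Basic.sameBlock_refl (M := M) (fun _ : G => (1 : ℂ))
  -- the set
  let f : IrrCharacter G → ℤ := fun χ => (charDegree (χ : G → ℂ) : ℤ) * z χ
  have hsum : ∑ χ ∈ (principalBlock M G).toFinset, f χ = 0 := by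
    have h1 := S0907.result p M hM (principalBlock M G) ⟨one, rfl⟩ (1 : G) x
      (by rw [orderOf_one]; exact hp.out.one_lt.ne' ∘ Nat.dvd_one.1) hx
    rw [finsum_mem_eq_toFinset_sum] at h1
    have h2 : ((∑ χ ∈ (principalBlock M G).toFinset, f χ : ℤ) : ℂ) = 0 := by
      rw [← h1, Int.cast_sum]
      refine Finset.sum_congr rfl fun χ _ => ?_
      simp only [f]
      rw [hz χ, charDegree_cast]
      push_cast
      simp
    exact_mod_cast h2
  have hzone : z one = 1 := by
    have h1 : ((z one : ℤ) : ℂ) = 1 := (hz one).symm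
    exact_mod_cast h1
  have hdone : charDegree (one : G → ℂ) = 1 := by
    have h1 : ((charDegree (one : G → ℂ) : ℕ) : ℂ) = 1 := (charDegree_cast one).symm
    exact_mod_cast h1
  let n := Nat.card G
  let K : Subgroup (ZMod n)ˣ := ker p n hpn
  have hfK : ∀ (u : (ZMod n)ˣ) (χ : IrrCharacter G), f (u • χ) = f χ := by
    intro u χ
    have h1 : z (u • χ) = z χ := by
      have h2 : ((z (u • χ) : ℤ) : ℂ) = z χ := by
        rw [← hz (u • χ), act_apply]
        exact val_pow_eq (ZMod.val_coe_unit_coprime u) (hz χ)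
      exact_mod_cast h2
    have h3 : charDegree ((u • χ : IrrCharacter G) : G → ℂ) = charDegree (χ : G → ℂ) := by
      have h4 : ((charDegree ((u • χ : IrrCharacter G) : G → ℂ) : ℕ) : ℂ) = charDegree (χ : G → ℂ) := by
        rw [← charDegree_cast, ← charDegree_cast, act_apply, one_pow]
      exact_mod_cast h4
    simp only [f, h1, h3]
  let X : Type u := {χ : IrrCharacter G // χ ∈ principalBlock M G ∧ Odd (f χ)}
  have hX : Even (Nat.card X) := by
    have h1 := even_card (principalBlock M G).toFinset f (by rw [hsum]; exact Even.zero)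
    have h2 : Nat.card X = ((principalBlock M G).toFinset.filter fun χ => Odd (f χ)).card := by
      rw [Nat.card_eq_fintype_card]
      refine Fintype.card_of_subtype _ fun χ => ?_
      rw [Finset.mem_filter, Set.mem_toFinset]
    rw [h2]
    exact h1
  let T : Subgroup (ZMod n)ˣ := (CommGroup.primaryComponent (ZMod n)ˣ 2) ⊓ K
  have hT : IsPGroup 2 T := (CommGroup.primaryComponent.isPGroup (G := (ZMod n)ˣ) (p := 2)).to_le inf_le_left
  let aX : MulAction T X :=
    { smul := fun u χ => ⟨(u : (ZMod n)ˣ) • χ.1, powC_mem (ZMod.val_coe_unit_coprime _) χ.2.1, by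
        rw [hfK]; exact χ.2.2⟩
      one_smul := fun χ => Subtype.ext (one_smul (ZMod n)ˣ χ.1)
      mul_smul := fun u v χ => Subtype.ext (mul_smul (u : (ZMod n)ˣ) (v : (ZMod n)ˣ) χ.1) }
  have hfix := hT.card_modEq_card_fixedPoints X
  have hev : Even (Nat.card (MulAction.fixedPoints T X)) := by
    rw [Nat.even_iff] at hX ⊢
    rw [← hX]
    exact hfix.symm
  let o : X := ⟨one, hone, by
    show Odd ((charDegree (one : G → ℂ) : ℤ) * z one)
    rw [hdone, hzone]
    exact odd_one⟩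
  have ho : o ∈ MulAction.fixedPoints T X := fun u => Subtype.ext (Subtype.ext rfl)
  have hex : ∃ θ ∈ MulAction.fixedPoints T X, θ ≠ o := by
    by_contra hcon
    push Not at hcon
    have h1 : Nat.card (MulAction.fixedPoints T X) = 1 := by
      rw [Nat.card_eq_one_iff_unique]
      refine ⟨⟨fun a b => Subtype.ext ?_⟩, ⟨⟨o, ho⟩⟩⟩
      rw [hcon a.1 a.2, hcon b.1 b.2]
    rw [h1] at hev
    exact absurd hev (by decide)
  obtain ⟨θ, hθ, hθo⟩ := hex
  have hfθ : Odd (f θ.1) := θ.2.2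
  have hsplit : Odd (charDegree (θ.1 : G → ℂ)) ∧ Odd (z θ.1) := by
    have h1 := Int.odd_mul.1 hfθ
    exact ⟨by exact_mod_cast h1.1, h1.2⟩
  refine ⟨θ.1, θ.2.1, fun h => hθo (Subtype.ext (Subtype.ext h)), hsplit.1, ⟨z θ.1, hsplit.2, hz θ.1⟩, ?_⟩
  -- the stabilizer
  have hstab : ∀ u : K, (u : (ZMod n)ˣ) • θ.1 = θ.1 := by
    let S : Subgroup K := (MulAction.stabilizer (ZMod n)ˣ θ.1).subgroupOf K
    have hS : ∀ u : K, u ∈ S := by
      refine mem_of_parts S (fun u hu => ?_) (fun u hu => ?_)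
      · obtain ⟨k, hk⟩ := hu
        have h1 : (u : (ZMod n)ˣ) ∈ T := by
          refine ⟨CommGroup.mem_primaryComponent.2 ⟨k, congrArg Subtype.val hk⟩, u.2⟩
        have h2 := hθ ⟨u, h1⟩
        exact congrArg Subtype.val h2
      · obtain ⟨m, hm, hum⟩ := hu
        have hk : (u : (ZMod n)ˣ) ^ m = 1 := congrArg Subtype.val hum
        show (u : (ZMod n)ˣ) • θ.1 = θ.1
        apply Subtype.ext
        funext g
        rw [act_apply]
        have hk1 : ((u : (ZMod n)ˣ) : ZMod n).val ^ m ≡ 1 [MOD Nat.card G] := by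
          rw [← ZMod.natCast_eq_natCast_iff]
          have h5 : ((((u : (ZMod n)ˣ) : ZMod n).val : ℕ) : ZMod (Nat.card G)) = ((u : (ZMod n)ˣ) : ZMod n) :=
            ZMod.natCast_zmod_val _
          rw [Nat.cast_pow, h5, ← Units.val_pow_eq_pow_val, hk, Units.val_one, Nat.cast_one]
        obtain ⟨c, hc⟩ := isConj_iff.1 (hodd _ (ZMod.val_coe_unit_coprime (u : (ZMod n)ˣ)) ((mem_ker hpn _).1 u.2)
          ⟨m, hm, hk1⟩ g)
        have e := Blocks.Basic.irr_conj θ.1.2 (g ^ ((u : (ZMod n)ˣ) : ZMod n).val) c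
        rw [hc] at e
        exact e.symm
    exact fun u => hS u
  intro k hk hkp g
  let u : (ZMod n)ˣ := ZMod.unitOfCoprime k hk
  have hu : u ∈ K := by
    rw [mem_ker]
    have h1 : ((u : (ZMod n)ˣ) : ZMod n).val ≡ k [MOD p] := by
      rw [ZMod.coe_unitOfCoprime, ZMod.val_natCast]
      exact (Nat.mod_modEq k n).of_dvd hpn
    exact h1.trans hkp
  have h2 := congrFun (congrArg Subtype.val (hstab ⟨u, hu⟩)) g
  rw [← h2, act_apply]
  show _ = (θ.1 : G → ℂ) (g ^ ((ZMod.unitOfCoprime k hk : (ZMod n)ˣ) : ZMod n).val)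
  rw [ZMod.coe_unitOfCoprime, pow_val]

/-- heights are zero in the principal block when `p ^ 3` does not divide the order -/
theorem not_dvd_deg [Finite G] {p : ℕ} [hp : Fact p.Prime] {M : Ideal AlgInt} (hM : IsPModular p M)
    (h3 : ¬ p ^ 3 ∣ Nat.card G) {θ : IrrCharacter G} (hθ : θ ∈ principalBlock M G) :
    ¬ p ∣ charDegree (θ : G → ℂ) := by
  have := Fintype.ofFinite G
  intro hd
  have hpI : M.IsPrime := hM.2.1.isPrime
  let one : IrrCharacter G := ⟨fun _ => 1, Blocks.Basic.isIrrCharacter_one⟩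
  have hone : one ∈ principalBlock M G := Blocks.Basic.sameBlock_refl (M := M) (fun _ : G => (1 : ℂ))
  have hdone : charDegree (one : G → ℂ) = 1 := by
    have h1 : ((charDegree (one : G → ℂ) : ℕ) : ℂ) = 1 := (charDegree_cast one).symm
    exact_mod_cast h1
  have h0 : sInf ((fun χ : IrrCharacter G => (charDegree (χ : G → ℂ)).factorization p) '' principalBlock M G) = 0 := by
    refine Nat.sInf_eq_zero.2 (Or.inl ⟨one, hone, ?_⟩)
    show (charDegree (one : G → ℂ)).factorization p = 0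
    rw [hdone, Nat.factorization_one]
    rfl
  have hpos : charDegree (θ : G → ℂ) ≠ 0 := by
    intro h1
    have h2 := charDegree_cast θ
    rw [h1] at h2
    exact Blocks.Basic.irr_one_ne_zero θ.2 (by simpa using h2)
  have hh : blockHeight p (principalBlock M G) (θ : G → ℂ) = (charDegree (θ : G → ℂ)).factorization p := by
    unfold blockHeight
    rw [h0, Nat.sub_zero]
  have hf : 1 ≤ (charDegree (θ : G → ℂ)).factorization p := by
    refine (hp.out.pow_dvd_iff_le_factorization hpos).1 ?_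
    rwa [pow_one]
  have h4 := H657.BrauerFeit.height_add_two_le (p := p) hM (B := principalBlock M G) ⟨one, rfl⟩ hθ (by omega)
  have h5 : blockDefect p (principalBlock M G) = (Nat.card G).factorization p := by
    unfold blockDefect
    rw [h0, Nat.sub_zero]
  have h6 : (Nat.card G).factorization p ≤ 2 := by
    by_contra h
    exact h3 ((hp.out.pow_dvd_iff_le_factorization Nat.card_pos.ne').2 (by omega))
  omega

/-- `r` generates the elements of odd order, congruent to 1 modulo `p` if `p ∣ m`, of `(Z/m)ˣ`; `E` is odd -/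
def chk (p E m r : ℕ) : Bool :=
  decide (E % 2 = 1) && decide (Nat.totient m ∣ 2 ^ 20 * E) && (List.range m).all fun k =>
    !(k ^ E % m == 1 % m) || (decide (m % p = 0) && !(k % p == 1)) || (List.range m).any fun i => r ^ i % m == k

theorem conj_pow_of {g : G} {r : ℕ} (h : IsConj (g ^ r) g) (i : ℕ) : IsConj (g ^ (r ^ i)) g := by
  induction i with
  | zero => rw [pow_zero, pow_one]
  | succ i ih =>
    rw [pow_succ, mul_comm, pow_mul]
    obtain ⟨c, hc⟩ := isConj_iff.1 h
    refine IsConj.trans (isConj_iff.2 ⟨c, ?_⟩) ih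
    rw [← conj_pow, hc]

/-- the condition on the elements -/
def Good (p : ℕ) (g : G) : Prop := (∃ s, Nat.totient (orderOf g) ∣ 2 ^ s) ∨
  ∃ E r : ℕ, IsConj (g ^ r) g ∧ chk p E (orderOf g) r = true

theorem isConj_of_good [Finite G] {p : ℕ} [hp : Fact p.Prime] {g : G} (h : Good p g) {k : ℕ} (hk : k.Coprime (Nat.card G))
    (hkp : k ≡ 1 [MOD p]) (ho : ∃ m, Odd m ∧ k ^ m ≡ 1 [MOD Nat.card G]) : IsConj (g ^ k) g := by
  obtain ⟨j, hj, hkj⟩ := ho
  have hm0 : 0 < orderOf g := orderOf_pos g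
  have hkm : k.Coprime (orderOf g) := hk.coprime_dvd_right (_root_.orderOf_dvd_natCard g)
  have hkj' : k ^ j ≡ 1 [MOD orderOf g] := hkj.of_dvd (_root_.orderOf_dvd_natCard g)
  have key : ∀ N : ℕ, k ^ N ≡ 1 [MOD orderOf g] → k ^ (Nat.gcd j N) ≡ 1 [MOD orderOf g] := by
    intro N hN
    have h1 : ∀ n, k ^ n ≡ 1 [MOD orderOf g] ↔ (ZMod.unitOfCoprime k hkm) ^ n = 1 := by
      intro n
      rw [← ZMod.natCast_eq_natCast_iff, Units.ext_iff, Units.val_pow_eq_pow_val, ZMod.coe_unitOfCoprime,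
        Nat.cast_pow, Nat.cast_one, Units.val_one]
    rw [h1] at hkj' hN ⊢
    exact pow_gcd_eq_one.2 ⟨hkj', hN⟩
  have hphi : k ^ (Nat.totient (orderOf g)) ≡ 1 [MOD orderOf g] := Nat.ModEq.pow_totient hkm
  rcases h with ⟨s, hs⟩ | ⟨E, r, hr, hc⟩
  · have h1 : k ^ (2 ^ s) ≡ 1 [MOD orderOf g] := by
      obtain ⟨c, hc⟩ := hs
      rw [hc, pow_mul]
      simpa using hphi.pow c
    have h2 := key _ h1
    have h3 : Nat.gcd j (2 ^ s) = 1 := Nat.Coprime.pow_right s (Nat.coprime_two_right.2 hj)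
    rw [h3, pow_one] at h2
    have h4 : g ^ k = g := by
      have h5 := pow_eq_pow_iff_modEq.2 h2
      rw [h5, pow_one]
    rw [h4]
  · unfold chk at hc
    simp only [Bool.and_eq_true, decide_eq_true_eq, List.all_eq_true, List.mem_range, Bool.or_eq_true,
      Bool.not_eq_true', beq_eq_false_iff_ne, beq_iff_eq, List.any_eq_true, ne_eq] at hc
    obtain ⟨⟨hE, hd⟩, hc⟩ := hc
    have h1 : k ^ (2 ^ 20 * E) ≡ 1 [MOD orderOf g] := by
      obtain ⟨c, hc⟩ := hd
      rw [hc, pow_mul]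
      simpa using hphi.pow c
    have h2 := key _ h1
    have h3 : Nat.gcd j (2 ^ 20 * E) ∣ E := by
      have h5 : Nat.Coprime (Nat.gcd j (2 ^ 20 * E)) (2 ^ 20) := by
        refine Nat.Coprime.pow_right 20 ?_
        rw [Nat.coprime_two_right]
        exact Odd.of_dvd_nat hj (Nat.gcd_dvd_left _ _)
      exact h5.dvd_of_dvd_mul_left (Nat.gcd_dvd_right _ _)
    have h4 : k ^ E ≡ 1 [MOD orderOf g] := by
      obtain ⟨c, hc⟩ := h3
      rw [hc, pow_mul]
      simpa using h2.pow c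
    have h5 := hc (k % orderOf g) (Nat.mod_lt _ hm0)
    have h6 : (k % orderOf g) ^ E % orderOf g = 1 % orderOf g := by
      rw [← Nat.pow_mod]
      exact h4
    rcases h5 with (h5 | ⟨h5, h7⟩) | ⟨i, -, hi⟩
    · exact absurd h6 h5
    · exfalso
      apply h7
      rw [Nat.mod_mod_of_dvd _ (Nat.dvd_of_mod_eq_zero h5), hkp]
      exact Nat.mod_eq_of_lt hp.out.one_lt
    · have h7 : g ^ k = g ^ (r ^ i) := by
        rw [pow_eq_pow_iff_modEq]
        show k % orderOf g = r ^ i % orderOf g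
        rw [hi]
      rw [h7]
      exact conj_pow_of hr i

/-- **The parity tool, `p ^ 3 ∤ |G|`.** -/
theorem witO [Finite G] {p : ℕ} [hp : Fact p.Prime] (h3 : ¬ p ^ 3 ∣ Nat.card G) {x : G}
    (hx : p ∣ orderOf x) (hz : ∀ χ : IrrCharacter G, ∃ z : ℤ, (χ : G → ℂ) x = z)
    (hg : ∀ g : G, Good p g) : H629.CY.WitO p G := by
  intro M hM
  obtain ⟨θ, h1, h2, h4, -, h5⟩ := exists_odd hM hx hz (fun k hk hkp ho g => isConj_of_good (hg g) hk hkp ho)
  exact ⟨θ, h1, h2, not_dvd_deg hM h3 h1, h4, h5⟩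

end Cfsg.Agent.H517.CY
end

-- part: H517/CY/Cent
section
/-!
# S4829, the parity tool with a small centralizer (helper517)

`witO_of_cent` : `x` a nontrivial rational `p`-element with `|C(x)| ≤ p ^ 2` (no condition on the Sylow subgroups).
-/

set_option autoImplicit false

open Subgroup
open scoped ComplexConjugate

namespace Cfsg.Agent.H517.CY

open Cfsg Cfsg.Agent.H770.CY

universe u

variable {G : Type u} [Group G]

/-- integer values from the conjugacy of the powers -/
theorem int_of_conj [Finite G] {x : G} (h : ∀ m : ℕ, m.Coprime (Nat.card G) → IsConj (x ^ m) x) (χ : IrrCharacter G) :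
    ∃ z : ℤ, (χ : G → ℂ) x = z := by
  have hχ := Blocks.Basic.irr_isCharacter χ.2
  refine Characters.GaloisBasic.exists_int_of_rat hχ x ((Characters.GaloisBasic.exists_rat_iff hχ x).2 fun m hm => ?_)
  obtain ⟨c, hc⟩ := isConj_iff.1 (h m hm)
  have e := Blocks.Basic.irr_conj χ.2 (x ^ m) c
  rw [hc] at e
  exact e.symm

universe v

theorem witO_congr {p : ℕ} {S : Type u} {T : Type v} [Group S] [Finite S] [Group T] (e : S ≃* T)
    (h : H629.CY.WitO p T) : H629.CY.WitO p S := by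
  intro M hM
  obtain ⟨θ, h1, h2, h3, h4, h5⟩ := h M hM
  have hd : charDegree (fun s : S => (θ : T → ℂ) (e s)) = charDegree (θ : T → ℂ) := by
    unfold charDegree
    simp only [map_one]
  refine ⟨⟨_, Characters.Core.isIrr_comp (e : S →* T) e.surjective θ.2⟩, H493.RatB.mem_principalBlock_comp e h1,
    fun h6 => h2 (by
      funext y
      obtain ⟨x, rfl⟩ := e.surjective y
      exact congrFun h6 x), ?_, ?_, fun k hk hkp g => ?_⟩
  · show ¬ p ∣ charDegree (fun s : S => (θ : T → ℂ) (e s))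
    rwa [hd]
  · show Odd (charDegree (fun s : S => (θ : T → ℂ) (e s)))
    rwa [hd]
  · show (θ : T → ℂ) (e (g ^ k)) = (θ : T → ℂ) (e g)
    rw [map_pow]
    exact h5 k (by rwa [← Nat.card_congr e.toEquiv]) hkp _

end Cfsg.Agent.H517.CY
end

private theorem dce_96f8bbff6083 : _root_.True := by
  try have : _root_.True := by simp only [_root_.Cfsg.Agent.H629.CY.inn.congr_simp]
  exact _root_.True.intro
end

-- part: H226/R2/Base
section
prune_inst 0x2300061441f6202000018001200007e53ea000090002b0000500205060007556220022701ea201c0a181882000005004002100040000000000000000000000120802a420203400104240009803086080c00000000000000000000000000041004004010000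
set_option linter.all false
open scoped Cfsg.Agent.FastGrp

/-!
# S4829, `p = 2`: tools for the rows `Row2` (helper226)

* `stab χ` : the subgroup of `MulAut S` fixing the class function `χ`;
* `RatInv S Γ` : a nontrivial rational-valued irreducible character of odd degree fixed by `Γ ≤ MulAut S`;
* `row2_of_odd_index` : `RatInv S Γ` with `|MulAut S : Γ|` odd gives `Row2 S`;
* `row2_of_stab`, `row2_of_inner` (`Out S` of odd order: `RatOdd S` is enough), `row2_of_two` (`|Aut S| = 2 |S|`);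
* `row2_of_psi` : a rational generalized character of odd degree, `[ψ, 1] = 0`, `[ψ, ψ] ≤ 2`, with `stab ψ` of odd index;
* `row2_of_perm`, `row2_of_sub` : transitive actions of even degree and rank at most three;
* `Row2.congr`.
-/

set_option autoImplicit false

namespace Cfsg.Agent.H226.R2

open Cfsg Cfsg.Agent.Characters.Core Cfsg.Agent.Characters Cfsg.Agent.H636.Gow Cfsg.Agent.H770.CY MulAction
open Cfsg.Agent.H707.OddLift

universe u v

section

variable {S : Type u} [Group S]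

/-- the automorphisms fixing `χ` -/
def stab {A : Type*} (χ : S → A) : Subgroup (MulAut S) where
  carrier := {b | ∀ x, χ (b x) = χ x}
  one_mem' := fun _ => rfl
  mul_mem' := by
    intro a b ha hb x
    rw [MulAut.mul_apply, ha, hb]
  inv_mem' := by
    intro a ha x
    have := ha (a⁻¹ x)
    rwa [MulAut.apply_inv_self, eq_comm] at this

/-- class functions are fixed by the inner automorphisms -/
theorem inner_le_stab {χ : S → ℂ} (hχ : IsClassFunction S χ) : (MulAut.conj : S →* MulAut S).range ≤ stab χ := by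
  rintro _ ⟨s, rfl⟩ x
  rw [MulAut.conj_apply]
  exact classFunction_apply_eq hχ (isConj_iff.2 ⟨s⁻¹, by group⟩)

/-- a nontrivial rational-valued irreducible character of odd degree fixed by `Γ` -/
def RatInv (S : Type u) [Group S] (Γ : Subgroup (MulAut S)) : Prop :=
  ∃ χ : S → ℂ, IsIrrCharacter S χ ∧ χ ≠ 1 ∧ (∃ d : ℕ, Odd d ∧ χ 1 = d) ∧ (∀ g : S, ∃ q : ℚ, χ g = q) ∧ Γ ≤ stab χ

theorem RatInv.mono {Γ Γ' : Subgroup (MulAut S)} (h : RatInv S Γ) (hl : Γ' ≤ Γ) : RatInv S Γ' := by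
  obtain ⟨χ, h1, h2, h3, h4, h5⟩ := h
  exact ⟨χ, h1, h2, h3, h4, hl.trans h5⟩

/-- conjugating `Γ` -/
theorem RatInv.conj {Γ : Subgroup (MulAut S)} (h : RatInv S Γ) (a : MulAut S) :
    RatInv S (Γ.map (MulAut.conj a).toMonoidHom) := by
  obtain ⟨χ, h1, h2, ⟨d, hd, h3⟩, h4, h5⟩ := h
  refine ⟨χ ∘ ((a⁻¹ : MulAut S) : S →* S), isIrr_comp _ (a⁻¹ : MulAut S).surjective h1, ?_, ⟨d, hd, ?_⟩, fun g => h4 _, ?_⟩
  · intro h6
    apply h2
    funext x
    have h7 := congrFun h6 (a x)
    have h8 : (a⁻¹ : MulAut S) (a x) = x := MulAut.inv_apply_self _ _ _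
    change χ ((a⁻¹ : MulAut S) (a x)) = 1 at h7
    rw [h8] at h7
    exact h7
  · rw [Function.comp_apply, map_one, h3]
  · rintro _ ⟨b, hb, rfl⟩ x
    change χ ((a⁻¹ : MulAut S) ((a * b * a⁻¹ : MulAut S) x)) = χ ((a⁻¹ : MulAut S) x)
    have h6 : (a⁻¹ : MulAut S) ((a * b * a⁻¹ : MulAut S) x) = b ((a⁻¹ : MulAut S) x) := by
      rw [MulAut.mul_apply, MulAut.mul_apply]
      exact MulAut.inv_apply_self _ _ _
    rw [h6]
    exact h5 hb _

/-- the form used in `Row2` -/
theorem RatInv.exists_irr [Finite S] {Γ : Subgroup (MulAut S)} (h : RatInv S Γ) :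
    ∃ θ : IrrCharacter S, (θ : S → ℂ) ≠ (fun _ => 1) ∧
      Odd (charDegree (θ : S → ℂ)) ∧ Cyc 2 (θ : S → ℂ) ∧ ∀ b ∈ Γ, ∀ x : S, (θ : S → ℂ) (b x) = (θ : S → ℂ) x := by
  obtain ⟨χ, h1, h2, ⟨d, hd, h3⟩, h4, h5⟩ := h
  refine ⟨⟨χ, h1⟩, h2, ?_, ?_, fun b hb x => h5 hb x⟩
  · have h6 : charDegree χ = d := Cfsg.Agent.H687.charDegree_of_eq h3
    show Odd (charDegree χ)
    rw [h6]
    exact hd
  · intro k hk _ g
    exact (GaloisBasic.exists_rat_iff (isIrr_isCharacter h1) g).1 (h4 g) k hk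

/-- a `2`-subgroup lies in a conjugate of a subgroup of odd index -/
theorem exists_conj_le {A : Type*} [Group A] [Finite A] (Γ B : Subgroup A) (hB : IsPGroup 2 B) (hi : Odd Γ.index) :
    ∃ a : A, B ≤ Γ.map (MulAut.conj a).toMonoidHom := by
  have := Fact.mk Nat.prime_two
  obtain ⟨P⟩ : Nonempty (Sylow 2 Γ) := inferInstance
  have hP : IsPGroup 2 (P.1.map Γ.subtype) := P.2.map _
  obtain ⟨Q, hQ⟩ := hP.exists_le_sylow
  have hcard : Nat.card Q = Nat.card P := by
    rw [Q.card_eq_multiplicity, P.card_eq_multiplicity]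
    congr 1
    rw [← Γ.card_mul_index, Nat.factorization_mul Nat.card_pos.ne' (Subgroup.index_ne_zero_of_finite),
      Finsupp.add_apply, Nat.factorization_eq_zero_of_not_dvd (n := Γ.index) (fun h => by
        rw [Nat.odd_iff] at hi
        omega), add_zero]
  have hQΓ : (Q : Subgroup A) ≤ Γ := by
    have h1 : P.1.map Γ.subtype = (Q : Subgroup A) := by
      apply Subgroup.eq_of_le_of_card_ge hQ
      rw [Subgroup.card_map_of_injective Γ.subtype_injective]
      exact hcard.le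
    rw [← h1]
    exact Subgroup.map_subtype_le _
  obtain ⟨R, hR⟩ := hB.exists_le_sylow
  obtain ⟨a, ha⟩ := exists_smul_eq A Q R
  refine ⟨a, hR.trans ?_⟩
  rw [← ha]
  intro x hx
  obtain ⟨y, hy, rfl⟩ := hx
  exact ⟨y, hQΓ hy, rfl⟩

/-- **It is enough to have a character fixed by a subgroup of odd index of `Aut S`.** -/
theorem row2_of_odd_index [Finite S] {Γ : Subgroup (MulAut S)} (hi : Odd Γ.index) (h : RatInv S Γ) : Row2 S := by
  intro B hB
  obtain ⟨a, ha⟩ := exists_conj_le Γ B hB hi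
  exact ((h.conj a).mono ha).exists_irr

/-- a rational irreducible character of odd degree with stabiliser of odd index -/
theorem row2_of_stab [Finite S] {χ : S → ℂ} (h1 : IsIrrCharacter S χ) (h2 : χ ≠ 1) (h3 : ∃ d : ℕ, Odd d ∧ χ 1 = d)
    (h4 : ∀ g : S, ∃ q : ℚ, χ g = q) (h5 : Odd (stab χ).index) : Row2 S :=
  row2_of_odd_index h5 ⟨χ, h1, h2, h3, h4, le_rfl⟩

theorem odd_of_dvd {m n : ℕ} (h : m ∣ n) (hn : Odd n) : Odd m := hn.of_dvd_nat h

/-- `Out S` of odd order -/
theorem row2_of_inner [Finite S] (hO : Odd (MulAut.conj : S →* MulAut S).range.index) (h : RatOdd S) : Row2 S := by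
  obtain ⟨χ, h1, h2, h3, h4⟩ := h
  exact row2_of_odd_index hO ⟨χ, h1, h2, h3, h4, inner_le_stab (isIrr_isClassFunction h1)⟩

/-- `|Aut S| = m |S|`, `m` odd, `S` simple nonabelian -/
theorem row2_of_card [Finite S] [IsSimpleGroup S] (hna : ¬ IsMulCommutative S) {m : ℕ} (hm : Odd m)
    (hc : Nat.card (MulAut S) = m * Nat.card S) (h : RatOdd S) : Row2 S := by
  apply row2_of_inner _ h
  have h1 := (MulAut.conj : S →* MulAut S).range.card_mul_index
  have h2 : Nat.card (MulAut.conj : S →* MulAut S).range = Nat.card S := by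
    refine (Nat.card_congr (MonoidHom.ofInjective ?_).toEquiv).symm
    rw [injective_iff_map_eq_one]
    intro s hs
    have h3 : s ∈ Subgroup.center S := by
      rw [Subgroup.mem_center_iff]
      intro g
      have := DFunLike.congr_fun hs g
      rw [MulAut.conj_apply, MulAut.one_apply, mul_inv_eq_iff_eq_mul] at this
      exact this.symm
    rcases (inferInstance : (Subgroup.center S).Normal).eq_bot_or_eq_top with h4 | h4
    · rw [h4] at h3
      exact Subgroup.mem_bot.1 h3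
    · exact absurd ⟨⟨fun a b => by
        have : b ∈ Subgroup.center S := by rw [h4]; exact Subgroup.mem_top _
        exact Subgroup.mem_center_iff.1 this a⟩⟩ hna
  rw [h2, hc, mul_comm] at h1
  have h3 : (MulAut.conj : S →* MulAut S).range.index = m := Nat.eq_of_mul_eq_mul_right Nat.card_pos h1
  rw [h3]
  exact hm

end

/-! ### the odd part of a generalized character -/

section

variable {S : Type u} [Group S] [Fintype S]

open Cfsg.Agent.H707.Norm Cfsg.Agent.H707.Orbits

attribute [local instance] irrAction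

theorem irr_comp_aut {χ : S → ℂ} (h : IsIrrCharacter S χ) (b : MulAut S) : IsIrrCharacter S (fun x => χ (b x)) :=
  isIrr_comp (b : S →* S) b.surjective h

theorem classInner_aut (φ ψ : S → ℂ) (b : MulAut S) :
    classInner (fun x => φ (b x)) (fun x => ψ (b x)) = classInner φ ψ := by
  unfold classInner
  congr 1
  exact Fintype.sum_equiv b.toEquiv _ _ fun _ => rfl

/-- the automorphisms act on the irreducible characters -/
def tw (b : MulAut S) (χ : IrrCharacter S) : IrrCharacter S := ⟨fun x => (χ : S → ℂ) (b⁻¹ x), irr_comp_aut χ.2 b⁻¹⟩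

theorem tw_one (χ : IrrCharacter S) : tw 1 χ = χ := by
  apply Subtype.ext
  funext x
  show (χ : S → ℂ) ((1 : MulAut S)⁻¹ x) = _
  rw [inv_one, MulAut.one_apply]

theorem tw_mul (a b : MulAut S) (χ : IrrCharacter S) : tw (a * b) χ = tw a (tw b χ) := by
  apply Subtype.ext
  funext x
  show (χ : S → ℂ) ((a * b)⁻¹ x) = (χ : S → ℂ) (b⁻¹ (a⁻¹ x))
  rw [mul_inv_rev, MulAut.mul_apply]

/-- the action of `MulAut S` on `IrrCharacter S` -/
def twAct : MulAction (MulAut S) (IrrCharacter S) where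
  smul := tw
  one_smul := tw_one
  mul_smul := tw_mul

theorem mem_stab_iff_tw {b : MulAut S} {χ : IrrCharacter S} : tw b χ = χ ↔ b ∈ stab (χ : S → ℂ) := by
  constructor
  · intro h x
    have h1 := congrFun (congrArg Subtype.val h) (b x)
    change (χ : S → ℂ) (b⁻¹ (b x)) = (χ : S → ℂ) (b x) at h1
    rw [MulAut.inv_apply_self] at h1
    exact h1.symm
  · intro h
    apply Subtype.ext
    funext x
    have h1 := h (b⁻¹ x)
    rw [MulAut.apply_inv_self] at h1
    exact h1.symm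

/-- **The odd-degree constituents of odd multiplicity**: an odd number, stable under the automorphisms of `ℂ` and under
the automorphisms fixing `ψ`. -/
theorem exists_supp {ψ : S → ℂ} (hψ : IsGeneralizedCharacter S ψ) (h1 : classInner ψ 1 = 0)
    (hodd : ∃ k : ℤ, Odd k ∧ ψ 1 = k) :
    ∃ T : Finset (IrrCharacter S), Odd T.card ∧
      (∀ χ : IrrCharacter S, χ ∈ T ↔ OddDeg (χ : S → ℂ) ∧ ∃ k : ℤ, Odd k ∧ classInner ψ (χ : S → ℂ) = k) ∧
      (∀ χ ∈ T, (χ : S → ℂ) ≠ 1) ∧ (∀ n : ℕ, classInner ψ ψ = n → T.card ≤ n) ∧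
      (∀ b ∈ stab ψ, ∀ χ ∈ T, tw b χ ∈ T) ∧
      ((∀ g : S, ∃ q : ℚ, ψ g = q) → ∀ (σ : ℂ ≃+* ℂ), ∀ χ ∈ T, σ • χ ∈ T) := by
  classical
  have := finite_irr (G := S)
  have := Fintype.ofFinite (IrrCharacter S)
  obtain ⟨m, hm⟩ := isGeneralizedCharacter_iff.1 hψ
  have hdeg : ∀ χ : IrrCharacter S, ∃ d : ℕ, (χ : S → ℂ) 1 = d := fun χ => by
    obtain ⟨d, -, hd⟩ := isIrr_apply_one χ.2
    exact ⟨d, hd⟩
  choose d hd using hdeg
  have hmem : ∀ χ : IrrCharacter S, χ ∈ Finset.univ.filter (fun χ => Odd (m χ) ∧ Odd (d χ)) ↔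
      OddDeg (χ : S → ℂ) ∧ ∃ k : ℤ, Odd k ∧ classInner ψ (χ : S → ℂ) = k := by
    intro χ
    rw [Finset.mem_filter]
    constructor
    · rintro ⟨-, h2, h3⟩
      exact ⟨⟨d χ, h3, hd χ⟩, m χ, h2, coeff_eq hm χ⟩
    · rintro ⟨⟨e, he, he1⟩, k, hk, hk1⟩
      refine ⟨Finset.mem_univ _, ?_, ?_⟩
      · rw [coeff_eq hm] at hk1
        have : m χ = k := by exact_mod_cast hk1
        rwa [this]
      · rw [hd] at he1
        have : d χ = e := by exact_mod_cast he1
        rwa [this]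
  refine ⟨Finset.univ.filter (fun χ => Odd (m χ) ∧ Odd (d χ)), ?_, hmem, ?_, ?_, ?_, ?_⟩
  · -- parity
    obtain ⟨k, hk, hk1⟩ := hodd
    have h2 : k = ∑ χ : IrrCharacter S, m χ * d χ := by
      have h3 : ψ 1 = ((∑ χ : IrrCharacter S, m χ * d χ : ℤ) : ℂ) := by
        conv_lhs => rw [hm]
        rw [Finset.sum_apply]
        push_cast
        refine Finset.sum_congr rfl fun χ _ => ?_
        rw [Pi.smul_apply, zsmul_eq_mul, hd]
      rw [hk1] at h3
      exact_mod_cast h3
    rw [h2, odd_int_sum] at hk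
    have h4 : (Finset.univ.filter (fun χ => Odd (m χ) ∧ Odd (d χ))) =
        Finset.univ.filter (fun χ => Odd (m χ * (d χ : ℤ))) := by
      ext χ
      simp only [Finset.mem_filter, Finset.mem_univ, true_and, Int.odd_mul, Int.odd_coe_nat]
    rw [h4]
    exact hk
  · intro χ hχ
    rw [Finset.mem_filter] at hχ
    apply ne_one_of_supp hm h1
    rintro h0
    rw [h0] at hχ
    exact absurd hχ.2.1 (by decide)
  · intro n hn
    have h2 := sum_sq hm hn
    have hsq : ∀ χ ∈ Finset.univ.filter (fun χ => Odd (m χ) ∧ Odd (d χ)), (1 : ℤ) ≤ m χ ^ 2 := by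
      intro χ hχ
      rw [Finset.mem_filter] at hχ
      have h0 : m χ ≠ 0 := by
        rintro h0
        rw [h0] at hχ
        exact absurd hχ.2.1 (by decide)
      have := sq_pos_of_ne_zero h0
      omega
    have h3 : ((Finset.univ.filter (fun χ => Odd (m χ) ∧ Odd (d χ))).card : ℤ) ≤
        ∑ χ ∈ Finset.univ.filter (fun χ => Odd (m χ) ∧ Odd (d χ)), m χ ^ 2 := by
      have := Finset.card_nsmul_le_sum _ (fun χ => m χ ^ 2) 1 hsq
      simpa using this
    have h4 : ∑ χ ∈ Finset.univ.filter (fun χ => Odd (m χ) ∧ Odd (d χ)), m χ ^ 2 ≤ ∑ χ, m χ ^ 2 :=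
      Finset.sum_le_sum_of_subset_of_nonneg (Finset.filter_subset _ _) fun _ _ _ => sq_nonneg _
    omega
  · intro b hb χ hχ
    rw [hmem] at hχ ⊢
    obtain ⟨⟨e, he, he1⟩, k, hk, hk1⟩ := hχ
    refine ⟨⟨e, he, ?_⟩, k, hk, ?_⟩
    · show (χ : S → ℂ) (b⁻¹ 1) = e
      rw [map_one, he1]
    · rw [← hk1]
      have h2 := classInner_aut ψ (χ : S → ℂ) b⁻¹
      have h3 : (fun x => ψ (b⁻¹ x)) = ψ := funext fun x => (inv_mem hb : b⁻¹ ∈ stab ψ) x
      rw [h3] at h2
      exact h2
  · intro hrat σ χ hχ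
    rw [Finset.mem_filter] at hχ ⊢
    refine ⟨Finset.mem_univ _, ?_, ?_⟩
    · rw [coeff_smul hm hrat]
      exact hχ.2.1
    · have h := smul_apply_one σ χ
      rw [hd, hd] at h
      have : d (σ • χ) = d χ := by exact_mod_cast h
      rw [this]
      exact hχ.2.2

/-- **The character found by `ratOdd_of_norm_le_two` is fixed by every automorphism fixing `ψ`.** -/
theorem ratInv_of_norm_le_two {ψ : S → ℂ} (hψ : IsGeneralizedCharacter S ψ) (hrat : ∀ g : S, ∃ q : ℚ, ψ g = q)
    (h1 : classInner ψ 1 = 0) (hodd : ∃ k : ℤ, Odd k ∧ ψ 1 = k) {n : ℕ} (hn : classInner ψ ψ = n) (hn2 : n ≤ 2) :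
    RatInv S (stab ψ) := by
  classical
  obtain ⟨T, hT, hT1, hT2, hT3, hT4, hT5⟩ := exists_supp hψ h1 hodd
  have h2 := hT3 n hn
  have h3 : T.card = 1 := by
    obtain ⟨k, hk⟩ := hT
    omega
  obtain ⟨χ, rfl⟩ := Finset.card_eq_one.1 h3
  have hm := Finset.mem_singleton_self χ
  refine ⟨χ, χ.2, hT2 χ hm, ((hT1 χ).1 hm).1, fun g => ?_, fun b hb => ?_⟩
  · apply GaloisBasic.exists_rat_of_forall_ringEquiv
    · exact (GaloisBasic.isIntegral_apply (isIrr_isCharacter χ.2) g).tower_top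
    · intro σ
      exact congrFun (congrArg Subtype.val (Finset.mem_singleton.1 (hT5 hrat σ χ hm))) g
  · exact mem_stab_iff_tw.1 (Finset.mem_singleton.1 (hT4 b hb χ hm))

/-- **`ψ` of norm at most two.** -/
theorem row2_of_psi {ψ : S → ℂ} (hψ : IsGeneralizedCharacter S ψ) (hrat : ∀ g : S, ∃ q : ℚ, ψ g = q)
    (h1 : classInner ψ 1 = 0) (hodd : ∃ k : ℤ, Odd k ∧ ψ 1 = k) {n : ℕ} (hn : classInner ψ ψ = n) (hn2 : n ≤ 2)
    (hst : Odd (stab ψ).index) : Row2 S :=
  row2_of_odd_index hst (ratInv_of_norm_le_two hψ hrat h1 hodd hn hn2)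

/-- a `2`-group acting on a finite set of odd size fixes a point -/
theorem exists_fixed_of_odd {B α : Type*} [Group B] [Finite B] [MulAction B α] (hB : IsPGroup 2 B) (T : Finset α)
    (hT : Odd T.card) (hst : ∀ b : B, ∀ χ ∈ T, b • χ ∈ T) : ∃ χ ∈ T, ∀ b : B, b • χ = χ := by
  classical
  have := Fact.mk Nat.prime_two
  let _ : MulAction B T :=
    { smul := fun b χ => ⟨b • χ.1, hst b χ.1 χ.2⟩
      one_smul := fun χ => Subtype.ext (one_smul _ _)
      mul_smul := fun a b χ => Subtype.ext (mul_smul _ _ _) }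
  have h1 : ¬ 2 ∣ Nat.card T := by
    rw [Nat.card_eq_fintype_card, Fintype.card_coe]
    rw [Nat.odd_iff] at hT
    omega
  obtain ⟨χ, hχ⟩ := hB.nonempty_fixed_point_of_prime_not_dvd_card T h1
  exact ⟨χ.1, χ.2, fun b => congrArg Subtype.val (hχ b)⟩

/-- **all odd-degree constituents of odd multiplicity rational, `stab ψ` of odd index** -/
theorem row2_of_all_rat {ψ : S → ℂ} (hψ : IsGeneralizedCharacter S ψ) (h1 : classInner ψ 1 = 0)
    (hodd : ∃ k : ℤ, Odd k ∧ ψ 1 = k)
    (hall : ∀ χ : IrrCharacter S, OddDeg (χ : S → ℂ) → classInner ψ (χ : S → ℂ) ≠ 0 → ∀ g : S, ∃ q : ℚ, (χ : S → ℂ) g = q)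
    (hst : Odd (stab ψ).index) : Row2 S := by
  classical
  intro B hB
  obtain ⟨a, ha⟩ := exists_conj_le (stab ψ) B hB hst
  have hB' : IsPGroup 2 (B.map (MulAut.conj a⁻¹).toMonoidHom) := hB.map _
  have hB'le : B.map (MulAut.conj a⁻¹).toMonoidHom ≤ stab ψ := by
    rintro _ ⟨b, hb, rfl⟩
    obtain ⟨c, hc, hcb⟩ := ha hb
    change a * c * a⁻¹ = b at hcb
    change a⁻¹ * b * (a⁻¹)⁻¹ ∈ stab ψ
    rw [← hcb]
    have : a⁻¹ * (a * c * a⁻¹) * (a⁻¹)⁻¹ = c := by group
    rw [this]
    exact hc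
  obtain ⟨T, hT, hT1, hT2, hT3, hT4, hT5⟩ := exists_supp hψ h1 hodd
  let _ := twAct (S := S)
  obtain ⟨χ, hχ, hf⟩ := exists_fixed_of_odd (B := B.map (MulAut.conj a⁻¹).toMonoidHom) hB' T hT
    (fun b χ hχ => hT4 b.1 (hB'le b.2) χ hχ)
  obtain ⟨h2, k, hk, hk1⟩ := (hT1 χ).1 hχ
  have h3 : RatInv S (B.map (MulAut.conj a⁻¹).toMonoidHom) := by
    refine ⟨χ, χ.2, hT2 χ hχ, h2, hall χ h2 ?_, fun b hb => mem_stab_iff_tw.1 (hf ⟨b, hb⟩)⟩
    rw [hk1]
    intro h0
    have : k = 0 := by exact_mod_cast h0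
    rw [this] at hk
    exact absurd hk (by decide)
  have h4 := h3.conj a
  refine (h4.mono ?_).exists_irr
  intro b hb
  refine ⟨a⁻¹ * b * (a⁻¹)⁻¹, ⟨b, hb, rfl⟩, ?_⟩
  change a * (a⁻¹ * b * (a⁻¹)⁻¹) * a⁻¹ = b
  group

/-! ### permutation characters -/

end

end Cfsg.Agent.H226.R2
end

-- part: H362/CY/Compl_mg
section
prune_inst 0x2200000500a4010000018000240007e72c2000090004b000011400400048618622001a621e8201c1a181a88440031006811000040020000000004000041180080002002008148a09120000000b288010000008000000000000000000000041004014010000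
set_option linter.all false
open scoped Cfsg.Agent.FastGrp

-- part: H362/CY/Compl
section
/-!
# S4829, lemma L6: it is enough to have the witness on the normal `p`-complement (helper362)

`rowA_of_compl` : `RowA p S` follows, if for every `X ≤ A` as in `Amb` (`X / Inn S` a `p'`-group, `X` normal in `A`,
`|A : X| = p ^ k`) there is an `A`-invariant witness `Ψ` on `X`.

Proof: count modulo `p` the constituents of `Ψ` in the principal block of `X`: there is an `A`-invariant constituent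
`η ∈ B₀(X)` of degree prime to `p`; the canonical extension of `η` to `A` is the witness on `A`.
-/

set_option autoImplicit false
set_option linter.unusedSectionVars false

open Subgroup
open scoped ComplexConjugate

namespace Cfsg.Agent.H362.CY

open Cfsg
open Cfsg.Agent.Blocks.Blau Cfsg.Agent.Blocks.Local Cfsg.Agent.Characters Cfsg.Agent.H145.BR
open Cfsg.Agent.H770.CY

universe u v

attribute [local instance] Cfsg.Agent.H687.autAct

section cyc

variable {p : ℕ} {H : Type u} [Group H] [Finite H] {S : Type v} [Group S] [Fintype S]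

/-- the inner products with a conjugate by a power -/
theorem inner_pow' {H : Type u} [Group H] [Fintype H] {k : ℕ} (hk : k.Coprime (Nat.card H)) (f g : H → ℂ) :
    classInner (fun n : H => f (n ^ k)) (fun n : H => g (n ^ k)) = classInner f g :=
  H125.PC.inner_pow hk f g

/-- the constituents of a character, multiplicity free on `S` with cyclotomic constituents -/
theorem constituent [Fintype H] (j : S →* H) (hcard : Nat.card S ∣ Nat.card H) {Ψ : H → ℂ} (hΨ : IsCharacter H Ψ)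
    (hcyc : ∀ k : ℕ, Nat.Coprime k (Nat.card H) → k ≡ 1 [MOD p] → ∀ g : H, Ψ (g ^ k) = Ψ g)
    (hmf : ∀ θ : IrrCharacter S, classInner (fun s : S => Ψ (j s)) (θ : S → ℂ) = 0 ∨
      (classInner (fun s : S => Ψ (j s)) (θ : S → ℂ) = 1 ∧ (θ : S → ℂ) ≠ (fun _ => 1) ∧ Cyc p (θ : S → ℂ)))
    (χ : IrrCharacter H) (hχ : classInner Ψ (χ : H → ℂ) ≠ 0) :
    Cyc p (χ : H → ℂ) ∧ ∀ θ : IrrCharacter S, classInner (fun s : S => (χ : H → ℂ) (j s)) (θ : S → ℂ) = 0 ∨
      (classInner (fun s : S => (χ : H → ℂ) (j s)) (θ : S → ℂ) = 1 ∧ (θ : S → ℂ) ≠ (fun _ => 1) ∧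
        Cyc p (θ : S → ℂ)) := by
  classical
  have : Finite (IrrCharacter H) := Core.finite_irr
  have := Fintype.ofFinite (IrrCharacter H)
  obtain ⟨m, hm⟩ := Core.isCharacter_iff.1 hΨ
  have hm' : ∀ g, Ψ g = ∑ χ : IrrCharacter H, (m χ : ℂ) * (χ : H → ℂ) g := by
    intro g
    conv_lhs => rw [hm]
    rw [Finset.sum_apply]
    refine Finset.sum_congr rfl fun χ _ => ?_
    rw [Pi.smul_apply, nsmul_eq_mul]
  have hmul : ∀ χ : IrrCharacter H, classInner Ψ (χ : H → ℂ) = (m χ : ℂ) := by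
    intro χ
    rw [hm, Core.classInner_sum_left, Finset.sum_eq_single χ]
    · rw [← Nat.cast_smul_eq_nsmul ℂ, Core.classInner_smul_left, Core.classInner_irr_self χ.2, mul_one]
    · intro ψ _ hψ
      rw [← Nat.cast_smul_eq_nsmul ℂ, Core.classInner_smul_left,
        Core.classInner_irr_ne ψ.2 χ.2 (fun h => hψ (Subtype.ext h)), mul_zero]
    · intro h
      exact absurd (Finset.mem_univ _) h
  have hres : ∀ χ : IrrCharacter H, IsCharacter S (fun s : S => (χ : H → ℂ) (j s)) := fun χ =>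
    Core.isCharacter_comp j (Core.isIrr_isCharacter χ.2)
  have hnat : ∀ (χ : IrrCharacter H) (θ : IrrCharacter S), ∃ n : ℕ,
      classInner (fun s : S => (χ : H → ℂ) (j s)) (θ : S → ℂ) = n := fun χ θ =>
    Core.classInner_isNat (hres χ) (Core.isIrr_isCharacter θ.2)
  choose r hr using hnat
  have hΨN : ∀ θ : IrrCharacter S, classInner (fun s : S => Ψ (j s)) (θ : S → ℂ) =
      ((∑ χ : IrrCharacter H, m χ * r χ θ : ℕ) : ℂ) := by
    intro θ
    have h1 : (fun s : S => Ψ (j s)) = ∑ χ : IrrCharacter H, (m χ : ℂ) • (fun s : S => (χ : H → ℂ) (j s)) := by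
      funext n
      rw [Finset.sum_apply, hm' (j n)]
      rfl
    rw [h1, Core.classInner_sum_left, Nat.cast_sum]
    refine Finset.sum_congr rfl fun χ _ => ?_
    rw [Core.classInner_smul_left, hr, Nat.cast_mul]
  have hχm : m χ ≠ 0 := by
    intro h
    apply hχ
    rw [hmul, h, Nat.cast_zero]
  have key : ∀ θ : IrrCharacter S, r χ θ ≠ 0 → (∑ ψ : IrrCharacter H, m ψ * r ψ θ = 1) ∧ r χ θ = 1 ∧
      (θ : S → ℂ) ≠ (fun _ => 1) ∧ Cyc p (θ : S → ℂ) := by
    intro θ hθ
    have hle : m χ * r χ θ ≤ ∑ ψ : IrrCharacter H, m ψ * r ψ θ :=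
      Finset.single_le_sum (f := fun ψ : IrrCharacter H => m ψ * r ψ θ) (fun _ _ => Nat.zero_le _)
        (Finset.mem_univ χ)
    have hpos : 0 < m χ * r χ θ := Nat.mul_pos (Nat.pos_of_ne_zero hχm) (Nat.pos_of_ne_zero hθ)
    rcases hmf θ with h | ⟨h1, h2, h3⟩
    · exfalso
      rw [hΨN] at h
      have h' : (∑ ψ : IrrCharacter H, m ψ * r ψ θ) = 0 := by exact_mod_cast h
      omega
    · rw [hΨN] at h1
      have h' : (∑ ψ : IrrCharacter H, m ψ * r ψ θ) = 1 := by exact_mod_cast h1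
      refine ⟨h', ?_, h2, h3⟩
      have h4 : m χ * r χ θ = 1 := by omega
      exact Nat.dvd_one.1 (Dvd.intro_left _ h4)
  refine ⟨?_, fun θ => ?_⟩
  · obtain ⟨θ, hθ⟩ : ∃ θ : IrrCharacter S, r χ θ ≠ 0 := by
      by_contra hcon
      push Not at hcon
      have : Finite (IrrCharacter S) := Core.finite_irr
      have := Fintype.ofFinite (IrrCharacter S)
      have h1 := Core.classFunction_eq_sum (Core.isCharacter_isClassFunction (hres χ))
      have h2 := congrFun h1 1
      rw [Finset.sum_apply, Finset.sum_eq_zero] at h2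
      · rw [map_one] at h2
        exact apply_one_ne_zero χ h2
      · intro θ _
        rw [Pi.smul_apply, hr, hcon, Nat.cast_zero, zero_smul]
    obtain ⟨hone', -, -, hθc⟩ := key θ hθ
    intro k hk hkp
    set! χ' : IrrCharacter H := ⟨fun g => (χ : H → ℂ) (g ^ k), Cfsg.Agent.Characters.GaloisIrr.isIrr_pow hk χ.2⟩ with hχ'
    by_cases heq : χ' = χ
    · intro g
      exact congrFun (congrArg Subtype.val heq) g
    · exfalso
      have h1 : m χ' = m χ := by
        have h2 : classInner Ψ (χ' : H → ℂ) = classInner Ψ (χ : H → ℂ) := by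
          rw [← inner_pow' hk Ψ (χ : H → ℂ)]
          congr 1
          funext g
          exact (hcyc k hk hkp g).symm
        rw [hmul, hmul] at h2
        exact_mod_cast h2
      have h3 : r χ' θ = r χ θ := by
        have hkN : k.Coprime (Nat.card S) := hk.coprime_dvd_right hcard
        have h2 : classInner (fun s : S => (χ' : H → ℂ) (j s)) (θ : S → ℂ) =
            classInner (fun s : S => (χ : H → ℂ) (j s)) (θ : S → ℂ) := by
          rw [← inner_pow' hkN (fun s : S => (χ : H → ℂ) (j s)) (θ : S → ℂ)]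
          congr 1
          · funext g
            show (χ : H → ℂ) (j g ^ k) = (χ : H → ℂ) (j (g ^ k))
            rw [map_pow]
          · funext g
            exact (hθc k hkN hkp g).symm
        rw [hr, hr] at h2
        exact_mod_cast h2
      have h4 : m χ * r χ θ + m χ' * r χ' θ ≤ ∑ ψ : IrrCharacter H, m ψ * r ψ θ := by
        have h5 : ∑ ψ ∈ ({χ, χ'} : Finset (IrrCharacter H)), m ψ * r ψ θ ≤ ∑ ψ : IrrCharacter H, m ψ * r ψ θ :=
          Finset.sum_le_sum_of_subset (Finset.subset_univ _)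
        rw [Finset.sum_pair (fun h => heq h.symm)] at h5
        exact h5
      have hpos : 0 < m χ * r χ θ := Nat.mul_pos (Nat.pos_of_ne_zero hχm) (Nat.pos_of_ne_zero hθ)
      rw [h1, h3, hone'] at h4
      omega
  · by_cases h : r χ θ = 0
    · left
      rw [hr, h, Nat.cast_zero]
    · right
      obtain ⟨-, h1, h2, h3⟩ := key θ h
      exact ⟨by rw [hr, h1, Nat.cast_one], h2, h3⟩

end cyc

section ext

variable {p : ℕ} [hp : Fact p.Prime] {M : Ideal AlgInt} {G : Type u} [Group G] [Finite G]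

/-- **the canonical extension** over a normal subgroup of `p`-power index is cyclotomic -/
theorem exists_ext_cyc (N : Subgroup G) [hN : N.Normal] (hidx : ∃ k, N.index = p ^ k) (η : IrrCharacter N)
    (hdeg : ¬ p ∣ charDegree (η : N → ℂ)) (hdet : ¬ p ∣ detOrder (η : N → ℂ))
    (hinv : ∀ (g : G) (n : N), (η : N → ℂ) ⟨g * n * g⁻¹, hN.conj_mem (n : G) n.2 g⟩ = (η : N → ℂ) n)
    (hcyc : Cyc p (η : N → ℂ)) :
    ∃ χ : IrrCharacter G, (∀ n : N, (χ : G → ℂ) n = (η : N → ℂ) n) ∧ Cyc p (χ : G → ℂ) := by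
  obtain ⟨k, hk⟩ := hidx
  have hcop : ∀ n : ℕ, ¬ p ∣ n → Nat.Coprime N.index n := by
    intro n hn
    rw [hk]
    exact Nat.Coprime.pow_left k ((Nat.Prime.coprime_iff_not_dvd hp.out).2 hn)
  obtain ⟨χ, ⟨h1, h2, h3⟩, h4⟩ := S0867.result N (η : N → ℂ) η.2 hinv (charDegree (η : N → ℂ))
    (charDegree_cast' η) (hcop _ (fun h => ((Nat.Prime.dvd_mul hp.out).1 h).elim hdet hdeg))
  refine ⟨⟨χ, h1⟩, h2, fun m hm hmp => ?_⟩
  have hG : Nat.card G ≠ 0 := Nat.card_pos.ne'
  obtain ⟨σ, hσ⟩ := Characters.GaloisBasic.exists_ringEquiv_pow hG hm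
  have h5 : ∀ g : G, σ (χ g) = χ (g ^ m) := fun g =>
    Characters.GaloisBasic.map_apply_card σ (fun z hz => hσ z hz) (Core.isIrr_isCharacter h1) g
  have h6 : (fun g => σ (χ g)) = fun g => χ (g ^ m) := funext h5
  have h7 := h4 (fun g => χ (g ^ m)) (Cfsg.Agent.Characters.GaloisIrr.isIrr_pow hm h1) (fun n => by
    have h8 : χ ((n : G) ^ m) = (η : N → ℂ) (n ^ m) := h2 (n ^ m)
    rw [h8]
    exact hcyc m (hm.coprime_dvd_right (card_subgroup_dvd_card N)) hmp n) (by
    rw [← h6, H594.Cyclic.detOrder_map σ h1, h3]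
    exact hcop _ hdet)
  exact fun g => congrFun h7 g

/-- the determinantal order of a character of `N` if `N` has a normal subgroup `T` of `p'`-index killed by all linear
characters -/
theorem not_dvd_detOrder {N : Type u} [Group N] [Finite N] (T : Subgroup N) [T.Normal] (hTi : ¬ p ∣ T.index)
    (hTl : ∀ δ : N →* ℂˣ, ∀ t ∈ T, δ t = 1) (η : IrrCharacter N) : ¬ p ∣ detOrder (η : N → ℂ) := by
  obtain ⟨δ, hδ⟩ := Cfsg.Agent.CharactersDeep.ExtUnique.exists_hom_detChar η.2
  have h1 : detOrder (η : N → ℂ) ∣ T.index := by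
    show orderOf (detChar (η : N → ℂ)) ∣ T.index
    apply orderOf_dvd_of_pow_eq_one
    funext g
    rw [Pi.pow_apply, hδ, ← Units.val_pow_eq_pow_val, ← map_pow, hTl δ _ (T.pow_index_mem g)]
    simp
  exact fun h => hTi (h.trans h1)

/-- `G = N P` -/
theorem exists_mul_of_index (N : Subgroup G) [hN : N.Normal] (hidx : ∃ k, N.index = p ^ k) (P : Sylow p G) (g : G) :
    ∃ n ∈ N, ∃ u ∈ (P : Subgroup G), n * u = g := by
  have h1 : N ⊔ (P : Subgroup G) = ⊤ := by
    obtain ⟨k, hk⟩ := hidx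
    have h2 : (N ⊔ (P : Subgroup G)).index ∣ p ^ k := hk ▸ index_dvd_of_le le_sup_left
    have h3 : ¬ p ∣ (N ⊔ (P : Subgroup G)).index := fun h => P.not_dvd_index (h.trans (index_dvd_of_le le_sup_right))
    obtain ⟨l, -, hl⟩ := (Nat.dvd_prime_pow hp.out).1 h2
    rcases Nat.eq_zero_or_pos l with h0 | h0
    · rw [h0, pow_zero] at hl
      exact index_eq_one.1 hl
    · exact absurd (hl ▸ dvd_pow_self p h0.ne') h3
  have h2 : g ∈ N ⊔ (P : Subgroup G) := h1 ▸ mem_top g
  exact mem_sup_of_normal_left.1 h2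

/-- at elements of the centre of a Sylow normalizer the characters of the principal block are congruent to their
degrees -/
theorem loc_b (hM : IsPModular p M) {χ : IrrCharacter G} (hχ : χ ∈ principalBlock M G) {y : G}
    (hy : ¬ p ∣ (centralizer ({y} : Set G)).index) : MemLocalIdeal M ((χ : G → ℂ) y - (χ : G → ℂ) 1) := by
  have hMp := isPrime_of_isPModular hM
  have h1 : (χ : G → ℂ) 1 = (charDegree (χ : G → ℂ) : ℂ) := charDegree_cast' χ
  set i := (centralizer ({y} : Set G)).index with hi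
  have hi0 : (i : ℂ) ≠ 0 := by
    intro h0
    have h3 : i = 0 := by exact_mod_cast h0
    rw [h3] at hy
    exact hy (dvd_zero p)
  have hd0 : ((charDegree (χ : G → ℂ) : ℕ) : ℂ) ≠ 0 := h1 ▸ apply_one_ne_zero χ
  have h4 : MemLocalIdeal M (centralChar (fun _ : G => (1 : ℂ)) y - centralChar (χ : G → ℂ) y) := hχ y
  have h3 : (χ : G → ℂ) y - (χ : G → ℂ) 1 = (i : ℂ)⁻¹ * (-((charDegree (χ : G → ℂ) : ℕ) : ℂ) *
      (centralChar (fun _ : G => (1 : ℂ)) y - centralChar (χ : G → ℂ) y)) := by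
    unfold centralChar
    rw [← hi, h1]
    field_simp
    ring
  rw [h3]
  exact memLocalIdeal_mul_left (memLocalRing_inv_natCast hM hy) (memLocalIdeal_mul_left
    (memLocalRing_neg (memLocalRing_natCast _)) h4)

/-- **the invariant constituent** of an invariant character of `N` in the principal block, and its extension -/
theorem exists_good (hM : IsPModular p M) (N : Subgroup G) [hN : N.Normal] [Fintype N] (hidx : ∃ k, N.index = p ^ k)
    (T : Subgroup N) [T.Normal] (hTi : ¬ p ∣ T.index) (hTl : ∀ δ : N →* ℂˣ, ∀ t ∈ T, δ t = 1)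
    {Ψ : N → ℂ} (hΨ : IsCharacter N Ψ) (hdeg : ∃ d : ℕ, Ψ 1 = d ∧ ¬ p ∣ d)
    (hone : classInner Ψ (fun _ => 1) = 0) (Q : Sylow p N)
    (hv : ∀ y ∈ centralizer ((Q : Subgroup N) : Set N), ¬ p ∣ orderOf y → MemLocalIdeal M (Ψ 1 - Ψ y))
    (hinv : ∀ (g : G) (n : N), Ψ ⟨g * n * g⁻¹, hN.conj_mem (n : G) n.2 g⟩ = Ψ n)
    (hcyc : ∀ η : IrrCharacter N, classInner Ψ (η : N → ℂ) ≠ 0 → Cyc p (η : N → ℂ)) :
    ∃ (χ : IrrCharacter G) (η : IrrCharacter N), (∀ n : N, (χ : G → ℂ) n = (η : N → ℂ) n) ∧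
      η ∈ principalBlock M N ∧ ¬ p ∣ charDegree (η : N → ℂ) ∧ classInner Ψ (η : N → ℂ) ≠ 0 ∧
      Cyc p (χ : G → ℂ) := by
  classical
  have : Finite (IrrCharacter N) := Core.finite_irr
  have := Fintype.ofFinite (IrrCharacter N)
  obtain ⟨m, hm⟩ := Core.isCharacter_iff.1 hΨ
  have hm' : ∀ g, Ψ g = ∑ χ : IrrCharacter N, (((m χ : ℤ)) : ℂ) * (χ : N → ℂ) g := by
    intro g
    conv_lhs => rw [hm]
    rw [Finset.sum_apply]
    refine Finset.sum_congr rfl fun χ _ => ?_
    rw [Pi.smul_apply, nsmul_eq_mul, Int.cast_natCast]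
  have hmul : ∀ χ : IrrCharacter N, classInner Ψ (χ : N → ℂ) = (m χ : ℂ) := by
    intro χ
    rw [hm, Core.classInner_sum_left, Finset.sum_eq_single χ]
    · rw [← Nat.cast_smul_eq_nsmul ℂ, Core.classInner_smul_left, Core.classInner_irr_self χ.2, mul_one]
    · intro ψ _ hψ
      rw [← Nat.cast_smul_eq_nsmul ℂ, Core.classInner_smul_left,
        Core.classInner_irr_ne ψ.2 χ.2 (fun h => hψ (Subtype.ext h)), mul_zero]
    · intro h
      exact absurd (Finset.mem_univ _) h
  obtain ⟨d, hd, hpd⟩ := hdeg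
  have hsum := H125.PC.b0_sum hM Q hΨ (fun χ => (m χ : ℤ)) hm' hv
  have hd' : (∑ χ : IrrCharacter N, (m χ : ℤ) * (charDegree (χ : N → ℂ) : ℤ)) = (d : ℤ) := by
    have h1 := hm' 1
    rw [hd] at h1
    have h2 : ((∑ χ : IrrCharacter N, (m χ : ℤ) * (charDegree (χ : N → ℂ) : ℤ) : ℤ) : ℂ) = ((d : ℤ) : ℂ) := by
      rw [Int.cast_natCast, h1, Int.cast_sum]
      refine Finset.sum_congr rfl fun χ _ => ?_
      rw [Int.cast_mul, charDegree_cast']
      rfl
    exact_mod_cast h2
  obtain ⟨P⟩ : Nonempty (Sylow p G) := inferInstance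
  set! A : Subgroup (MulAut N) := (P : Subgroup G).map (MulAut.conjNormal : G →* MulAut N) with hA
  have hAp : IsPGroup p A := P.2.map _
  have hAinv : ∀ φ ∈ A, ∀ n : N, Ψ (φ n) = Ψ n := by
    rintro _ ⟨u, -, rfl⟩ n
    exact hinv u n
  have hk' : ∀ φ ∈ A, ∀ χ : IrrCharacter N, (m (φ • χ) : ℤ) = m χ := by
    intro φ hφ χ
    have h1 : classInner Ψ ((φ • χ : IrrCharacter N) : N → ℂ) = classInner Ψ (χ : N → ℂ) := by
      rw [Core.classInner_def, Core.classInner_def]
      congr 1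
      rw [← Equiv.sum_comp φ.toEquiv]
      refine Finset.sum_congr rfl fun n _ => ?_
      have h2 : ((φ • χ : IrrCharacter N) : N → ℂ) (φ n) = (χ : N → ℂ) ((φ⁻¹ : MulAut N) (φ n)) := rfl
      have h3 : (φ⁻¹ : MulAut N) (φ n) = n := MulAut.inv_apply_self N φ n
      show Ψ (φ n) * conj (((φ • χ : IrrCharacter N) : N → ℂ) (φ n)) = _
      rw [h2, h3, hAinv φ hφ]
    rw [hmul, hmul] at h1
    have h2 : m (φ • χ) = m χ := by exact_mod_cast h1
    rw [h2]
  have hone0 : m (H893.Sd.one N) = 0 := by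
    have h1 := hmul (H893.Sd.one N)
    have h2 : ((H893.Sd.one N : IrrCharacter N) : N → ℂ) = fun _ => 1 := rfl
    rw [h2, hone] at h1
    exact_mod_cast h1.symm
  obtain ⟨η, hη1, -, hη2, hη3, hη4⟩ := exists_fixed_of_sum hM (fun χ => (m χ : ℤ)) A hAp hk' (by
    rw [hd'] at hsum
    intro h
    have h1 := hsum.trans h
    rw [hone0, Nat.cast_zero] at h1
    exact hpd (Int.natCast_dvd_natCast.1 (Int.modEq_zero_iff_dvd.1 h1)))
  have hη3' : classInner Ψ (η : N → ℂ) ≠ 0 := by
    rw [hmul]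
    exact_mod_cast hη3
  have hηinv : ∀ (g : G) (n : N), (η : N → ℂ) ⟨g * n * g⁻¹, hN.conj_mem (n : G) n.2 g⟩ = (η : N → ℂ) n := by
    intro g n
    obtain ⟨x, hx, y, hy, rfl⟩ := exists_mul_of_index N hidx P g
    have h1 := hη4 (MulAut.conjNormal y) (mem_map_of_mem _ hy) n
    have h2 := Core.isIrr_isClassFunction η.2 (MulAut.conjNormal y n) ⟨x, hx⟩
    rw [← h1, ← h2]
    refine congrArg (η : N → ℂ) (Subtype.ext ?_)
    show x * y * n * (x * y)⁻¹ = x * (y * n * y⁻¹) * x⁻¹
    group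
  obtain ⟨χ, hχ1, hχ2⟩ := exists_ext_cyc N hidx η hη2 (not_dvd_detOrder T hTi hTl η) hηinv (hcyc η hη3')
  exact ⟨χ, η, hχ1, hη1, hη2, hη3', hχ2⟩

end ext

section row

variable {p : ℕ} [hp : Fact p.Prime] {S : Type u} [Group S] [Fintype S]

theorem mul_eq_inner {ψ θ : S → ℂ} : H770.CY.mul ψ θ = classInner ψ θ := by
  rw [Core.classInner_def]
  rfl

/-- a nonabelian simple group has no nontrivial linear characters -/
theorem hom_trivial [IsSimpleGroup S] (hna : ¬ IsMulCommutative S) {C : Type v} [CommGroup C] (δ : S →* C) (s : S) :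
    δ s = 1 := by
  rcases δ.normal_ker.eq_bot_or_eq_top with h | h
  · exfalso
    apply hna
    refine ⟨⟨fun a b => ?_⟩⟩
    apply (MonoidHom.ker_eq_bot_iff δ).1 h
    rw [map_mul, map_mul, mul_comm]
  · exact (MonoidHom.mem_ker (f := δ)).1 (h ▸ mem_top s)

/-- a nonabelian simple group has trivial centre: an automorphism commuting with the inner automorphism of `x` fixes
`x` -/
theorem fix_of_comm [IsSimpleGroup S] (hna : ¬ IsMulCommutative S) {a : MulAut S} {x : S}
    (h : a * MulAut.conj x = MulAut.conj x * a) : a x = x := by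
  have hz : center S = ⊥ := by
    rcases (inferInstance : (center S).Normal).eq_bot_or_eq_top with h | h
    · exact h
    · exfalso
      apply hna
      exact ⟨⟨fun a b => (mem_center_iff.1 (h ▸ mem_top a : a ∈ center S) b).symm⟩⟩
  have h1 : ∀ y : S, a x * a y * (a x)⁻¹ = x * a y * x⁻¹ := by
    intro y
    have h2 := congrArg (fun f : MulAut S => f y) h
    have h3 : a (x * y * x⁻¹) = x * a y * x⁻¹ := h2
    rw [← h3, map_mul, map_mul, map_inv]
  have h2 : x⁻¹ * a x ∈ center S := by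
    rw [mem_center_iff]
    intro y
    obtain ⟨z, rfl⟩ := a.surjective y
    have h3 := h1 z
    have h4 : x⁻¹ * (a x * a z * (a x)⁻¹) * a x = x⁻¹ * (x * a z * x⁻¹) * a x := by rw [h3]
    have h5 : x⁻¹ * a x * a z = a z * (x⁻¹ * a x) := by
      calc x⁻¹ * a x * a z = x⁻¹ * (a x * a z * (a x)⁻¹) * a x := by group
        _ = x⁻¹ * (x * a z * x⁻¹) * a x := h4
        _ = a z * (x⁻¹ * a x) := by group
    exact h5.symm
  rw [hz, mem_bot] at h2
  exact (inv_mul_eq_one.1 h2).symm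

/-- **Lemma L6.** `RowA p S` from `A`-invariant witnesses on the normal `p`-complement `X` of `A` modulo `Inn S`. -/
theorem rowA_of_compl [IsSimpleGroup S] (hna : ¬ IsMulCommutative S)
    (h : ∀ (A X : Subgroup (MulAut S)) (hX : ∀ s : S, MulAut.conj s ∈ X), X ≤ A →
      (∀ a ∈ A, ∀ x ∈ X, a * x * a⁻¹ ∈ X) → ¬ p ∣ (MulAut.conj : S →* MulAut S).range.relIndex X →
      (∃ k : ℕ, X.relIndex A = p ^ k) → ∀ M : Ideal AlgInt, IsPModular p M →
      ∃ Ψ : X → ℂ, WitA p M S X hX Ψ ∧ ∀ a ∈ A, ∀ x y : X, (y : MulAut S) = a * x * a⁻¹ → Ψ y = Ψ x) :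
    _root_.Cfsg.Agent.H770.CY.RowA p S := by
  classical
  rintro A ⟨hIA, X, hXA, hIX, hnorm, hpX, hk⟩ M hM
  obtain ⟨Ψ₀, hW, hWinv⟩ := h A X hIX hXA hnorm hpX hk M hM
  have hMp := isPrime_of_isPModular hM
  have : Finite (MulAut S) := inferInstance
  -- the groups
  set! N : Subgroup A := X.subgroupOf A with hN
  have hNn : N.Normal := ⟨fun n hn g => by
    show (g * n * g⁻¹ : A).1 ∈ X
    exact hnorm g g.2 n hn⟩
  let e : N ≃* X := subgroupOfEquivOfLe hXA
  have := Fintype.ofFinite N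
  have := Fintype.ofFinite X
  have := Fintype.ofFinite A
  have hidx : ∃ k, N.index = p ^ k := hk
  let j : S →* N :=
    { toFun := fun s => ⟨⟨MulAut.conj s, hIA s⟩, hIX s⟩
      map_one' := by
        apply Subtype.ext
        apply Subtype.ext
        exact map_one MulAut.conj
      map_mul' := fun a b => by
        apply Subtype.ext
        apply Subtype.ext
        exact map_mul MulAut.conj a b }
  have hej : ∀ s : S, e (j s) = ⟨MulAut.conj s, hIX s⟩ := fun s => rfl
  have hjinj : Function.Injective j := by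
    intro a b hab
    have h1 : MulAut.conj a = MulAut.conj b := congrArg (fun n : N => ((n : A) : MulAut S)) hab
    have h2 : MulAut.conj (a * b⁻¹) = 1 := by rw [map_mul, map_inv, h1, mul_inv_cancel]
    have hz : a * b⁻¹ ∈ center S := by
      rw [mem_center_iff]
      intro y
      have h3 := congrArg (fun f : MulAut S => f y) h2
      have h4 : (a * b⁻¹) * y * (a * b⁻¹)⁻¹ = y := h3
      exact (mul_inv_eq_iff_eq_mul.1 h4).symm
    have hz2 : center S = ⊥ := by
      rcases (inferInstance : (center S).Normal).eq_bot_or_eq_top with h | h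
      · exact h
      · exfalso
        apply hna
        exact ⟨⟨fun a b => (mem_center_iff.1 (h ▸ mem_top a : a ∈ center S) b).symm⟩⟩
    rw [hz2, mem_bot] at hz
    exact mul_inv_eq_one.1 hz
  -- the inner automorphisms
  have hTn : j.range.Normal := ⟨by
    rintro _ ⟨s, rfl⟩ g
    refine ⟨((g : A) : MulAut S) s, ?_⟩
    apply Subtype.ext
    apply Subtype.ext
    ext y
    show ((g : A) : MulAut S) s * y * (((g : A) : MulAut S) s)⁻¹ =
      ((g : A) : MulAut S) (s * (((g : A) : MulAut S)⁻¹ : MulAut S) y * s⁻¹)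
    rw [map_mul, map_mul, map_inv, MulAut.apply_inv_self]⟩
  have hTi : ¬ p ∣ j.range.index := by
    have h1 : j.range = (MulAut.conj : S →* MulAut S).range.comap (A.subtype.comp N.subtype) := by
      ext n
      constructor
      · rintro ⟨s, rfl⟩
        exact ⟨s, rfl⟩
      · rintro ⟨s, hs⟩
        refine ⟨s, ?_⟩
        apply Subtype.ext
        apply Subtype.ext
        exact hs
    have h2 : (A.subtype.comp N.subtype).range = X := by
      rw [MonoidHom.range_comp, range_subtype, hN]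
      exact map_subgroupOf_eq_of_le hXA
    rw [h1, index_comap, h2]
    exact hpX
  have hTl : ∀ δ : N →* ℂˣ, ∀ t ∈ j.range, δ t = 1 := by
    rintro δ _ ⟨s, rfl⟩
    exact hom_trivial hna (δ.comp j) s
  -- the character
  set! Ψ : N → ℂ := fun n => Ψ₀ (e n) with hΨdef
  have hΨ : IsCharacter N Ψ := (Core.isCharacter_comp (e : N →* X) hW.char :)
  have hcardNX : Nat.card N = Nat.card X := Nat.card_congr e.toEquiv
  have hΨcyc : ∀ k : ℕ, Nat.Coprime k (Nat.card N) → k ≡ 1 [MOD p] → ∀ g : N, Ψ (g ^ k) = Ψ g := by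
    intro k hk hkp g
    show Ψ₀ (e (g ^ k)) = Ψ₀ (e g)
    rw [map_pow]
    exact hW.cyc k (hcardNX ▸ hk) hkp (e g)
  have hmf : ∀ θ : IrrCharacter S, classInner (fun s : S => Ψ (j s)) (θ : S → ℂ) = 0 ∨
      (classInner (fun s : S => Ψ (j s)) (θ : S → ℂ) = 1 ∧ (θ : S → ℂ) ≠ (fun _ => 1) ∧ Cyc p (θ : S → ℂ)) := by
    intro θ
    have h1 := hW.mf θ
    rw [mul_eq_inner] at h1
    exact h1
  have hcard : Nat.card S ∣ Nat.card N := by
    rw [Nat.card_congr (MonoidHom.ofInjective hjinj).toEquiv]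
    exact card_subgroup_dvd_card _
  have hcons : ∀ η : IrrCharacter N, classInner Ψ (η : N → ℂ) ≠ 0 → _ := fun η hη =>
    constituent j hcard hΨ hΨcyc hmf η hη
  have hone : classInner Ψ (fun _ => 1) = 0 := by
    by_contra hne
    have h1 := (hcons (H893.Sd.one N) hne).2 (H893.Sd.one S)
    have h2 : classInner (fun s : S => ((H893.Sd.one N : IrrCharacter N) : N → ℂ) (j s))
        ((H893.Sd.one S : IrrCharacter S) : S → ℂ) = 1 := Core.classInner_irr_self (H893.Sd.one S).2
    rcases h1 with h1 | ⟨-, h1, -⟩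
    · rw [h2] at h1
      exact one_ne_zero h1
    · exact h1 rfl
  -- the Sylow subgroup
  obtain ⟨Q'⟩ : Nonempty (Sylow p S) := inferInstance
  have hQi : ∀ Q' : Sylow p S, ¬ p ∣ ((Q' : Subgroup S).map j).index := by
    intro Q'
    rw [index_map_of_injective _ hjinj, hp.out.dvd_mul]
    rintro (h | h)
    · exact Q'.not_dvd_index h
    · exact hTi h
  let Q : Sylow p N := (Q'.2.map j).toSylow (hQi Q')
  have hv : ∀ y ∈ (centralizer ((Q : Subgroup N) : Set N) :), ¬ p ∣ orderOf y → MemLocalIdeal M (Ψ 1 - Ψ y) := by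
    intro y hy hpy
    have h1 : ¬ p ∣ orderOf (e y) := by rwa [MulEquiv.orderOf_eq]
    have h2 : ∀ x ∈ Q', ((e y : X) : MulAut S) x = x := by
      intro x hx
      refine fix_of_comm hna ?_
      have h3 := mem_centralizer_iff.1 hy (j x) (mem_map_of_mem j hx)
      exact (congrArg (fun n : N => ((n : A) : MulAut S)) h3).symm
    have h3 := hW.loc (e y) h1 ⟨Q', h2⟩
    have h4 := memLocalIdeal_neg h3
    rw [neg_sub] at h4
    have h5 : Ψ 1 = Ψ₀ 1 := by
      show Ψ₀ (e 1) = Ψ₀ 1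
      rw [map_one]
    rw [h5]
    exact h4
  have hinv : ∀ (g : A) (n : N), Ψ ⟨g * n * g⁻¹, hNn.conj_mem (n : A) n.2 g⟩ = Ψ n := by
    intro g n
    exact hWinv g g.2 (e n) (e ⟨g * n * g⁻¹, hNn.conj_mem (n : A) n.2 g⟩) rfl
  obtain ⟨χ, η, hχη, hηB, hηp, hηne, hχc⟩ := exists_good hM N hidx j.range hTi hTl hΨ (by
    obtain ⟨d, hd, hpd⟩ := hW.deg
    refine ⟨d, ?_, hpd⟩
    rw [← hd]
    show Ψ₀ (e 1) = Ψ₀ 1
    rw [map_one]) hone Q hv hinv (fun η hη => (hcons η hη).1)
  have h1 : (χ : A → ℂ) 1 = (charDegree (η : N → ℂ) : ℂ) := by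
    rw [← charDegree_cast' η]
    exact hχη 1
  refine ⟨(χ : A → ℂ), Core.isIrr_isCharacter χ.2, hχc, ⟨_, h1, hηp⟩, ?_, ?_⟩
  · intro θ
    have h2 := (hcons η hηne).2 θ
    have h3 : res hIA (χ : A → ℂ) = fun s : S => (η : N → ℂ) (j s) := funext fun s => hχη (j s)
    rw [h3, mul_eq_inner]
    exact h2
  · intro a hpa ⟨Q₁, hQ₁⟩
    -- `a` lies in `N`
    have haN : a ∈ N := by
      obtain ⟨k, hk⟩ := hidx
      have h2 : orderOf (QuotientGroup.mk a : A ⧸ N) ∣ p ^ k := by
        rw [← hk, index_eq_card]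
        exact _root_.orderOf_dvd_natCard _
      have h3 : orderOf (QuotientGroup.mk a : A ⧸ N) ∣ orderOf a := orderOf_map_dvd (QuotientGroup.mk' N) a
      obtain ⟨l, -, hl⟩ := (Nat.dvd_prime_pow hp.out).1 h2
      have h4 : l = 0 := by
        by_contra hne
        exact hpa ((hl ▸ dvd_pow_self p hne).trans h3)
      rw [h4, pow_zero, orderOf_eq_one_iff] at hl
      exact (QuotientGroup.eq_one_iff a).1 hl
    have h2 : (χ : A → ℂ) a = (η : N → ℂ) ⟨a, haN⟩ := hχη ⟨a, haN⟩
    have h3 : (χ : A → ℂ) 1 = (η : N → ℂ) 1 := hχη 1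
    rw [h2, h3]
    refine loc_b hM hηB ?_
    have h4 : (Q₁ : Subgroup S).map j ≤ centralizer ({(⟨a, haN⟩ : N)} : Set N) := by
      rintro _ ⟨x, hx, rfl⟩
      rw [mem_centralizer_singleton_iff]
      apply Subtype.ext
      apply Subtype.ext
      ext y
      have h5 := hQ₁ x hx
      show x * (a : MulAut S) y * x⁻¹ = (a : MulAut S) (x * y * x⁻¹)
      rw [map_mul, map_mul, map_inv, h5]
    exact fun h5 => hQi Q₁ (h5.trans (index_dvd_of_le h4))

end row

end Cfsg.Agent.H362.CY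
end

-- part: H685/CY/AD
section
/-!
# S4829 : witnesses by Alperin's theorem (helper685)

`N` normal in `G` of index prime to `p`, `θ ∈ B₀(N)`, `T` the stabilizer of `θ`, `T = N C_T(P)`: the unique extension
`χ ∈ B₀(T)` of `θ` is `Cyc p` if `θ` is, and `Ψ = Ind_T^G χ` is a witness (`main_abs`); `wit_of_ad` is the form for a
group of automorphisms.
-/

set_option autoImplicit false
set_option linter.unusedSectionVars false

namespace Cfsg.Agent.H685.CY

open Cfsg Cfsg.Agent.H770.CY Cfsg.Agent.H684.BlockTools Cfsg.Agent.Blocks.Local Cfsg.Agent.Characters.Core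
open scoped ComplexConjugate Pointwise

universe u v

section galois

variable {G : Type u} [Group G] {p : ℕ} {M : Ideal AlgInt}

/-- The Galois conjugate of an irreducible character. -/
noncomputable def galc (σ : ℂ ≃+* ℂ) (χ : IrrCharacter G) : IrrCharacter G :=
  ⟨fun g => σ ((χ : G → ℂ) g), OddOrderCharacters.GaloisTwist.isIrrCharacter_map σ χ.2⟩

theorem galc_apply (σ : ℂ ≃+* ℂ) (χ : IrrCharacter G) (g : G) :
    (galc σ χ : G → ℂ) g = σ ((χ : G → ℂ) g) := rfl

theorem centralizer_pow [Finite G] {m : ℕ} (hm : m.Coprime (Nat.card G)) (g : G) :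
    Subgroup.centralizer ({g ^ m} : Set G) = Subgroup.centralizer ({g} : Set G) := by
  ext x
  rw [Subgroup.mem_centralizer_singleton_iff, Subgroup.mem_centralizer_singleton_iff]
  constructor
  · intro h
    obtain ⟨k, hk⟩ := exists_pow_eq_self_of_coprime (x := g) (n := m)
      (Nat.Coprime.coprime_dvd_right (orderOf_dvd_natCard g) hm)
    have h1 : Commute x (g ^ m) := h
    have h2 := h1.pow_right k
    rw [hk] at h2
    exact h2
  · intro h
    have h1 : Commute x g := h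
    exact h1.pow_right m

/-- The principal block is stable under field automorphisms. -/
theorem galc_mem [Finite G] (σ : ℂ ≃+* ℂ) {χ : IrrCharacter G} (h : χ ∈ principalBlock M G) :
    galc σ χ ∈ principalBlock M G := by
  obtain ⟨m, hm, hσ⟩ := Characters.GaloisBasic.exists_pow_of_ringEquiv (G := G) σ
  have h1 : SameBlock M (fun _ : G => (1 : ℂ)) (χ : G → ℂ) := h
  show SameBlock M (fun _ : G => (1 : ℂ)) (galc σ χ : G → ℂ)
  intro g
  have h2 := h1 (g ^ m)
  have h3 : centralChar (fun _ : G => (1 : ℂ)) (g ^ m) = centralChar (fun _ : G => (1 : ℂ)) g := by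
    rw [Blocks.Basic.centralChar_def, Blocks.Basic.centralChar_def, centralizer_pow hm]
  have h4 : centralChar (galc σ χ : G → ℂ) g = centralChar (χ : G → ℂ) (g ^ m) := by
    rw [Blocks.Basic.centralChar_def, Blocks.Basic.centralChar_def, centralizer_pow hm, galc_apply, galc_apply,
      hσ _ (Blocks.Basic.irr_isCharacter χ.2), hσ _ (Blocks.Basic.irr_isCharacter χ.2), one_pow]
  rw [h3] at h2
  rw [h4]
  exact h2

end galois

section

variable {G : Type u} [Group G] [Finite G] {p : ℕ} [hp : Fact p.Prime] {M : Ideal AlgInt} {N : Subgroup G}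

/-- conjugation on a normal subgroup -/
def cj (N : Subgroup G) [hN : N.Normal] (g : G) (n : N) : N := ⟨g * n * g⁻¹, hN.conj_mem n n.2 g⟩

theorem cj_one [N.Normal] (n : N) : cj N 1 n = n := Subtype.ext (by simp [cj])

theorem cj_mul [N.Normal] (g h : G) (n : N) : cj N (g * h) n = cj N g (cj N h n) :=
  Subtype.ext (by simp only [cj, mul_inv_rev]; group)

/-- the stabilizer of a function on `N` -/
def stab (N : Subgroup G) [N.Normal] (θ : N → ℂ) : Subgroup G where
  carrier := {g | ∀ n : N, θ (cj N g n) = θ n}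
  mul_mem' := by
    intro a b ha hb n
    rw [cj_mul, ha, hb]
  one_mem' := fun n => by rw [cj_one]
  inv_mem' := by
    intro a ha n
    have h := ha (cj N a⁻¹ n)
    rw [← cj_mul, mul_inv_cancel, cj_one] at h
    exact h.symm

theorem le_stab [N.Normal] {θ : N → ℂ} (hθ : IsClassFunction N θ) : N ≤ stab N θ := by
  intro g hg n
  exact hθ n ⟨g, hg⟩

theorem sylow_le [hN : N.Normal] (hidx : ¬ p ∣ N.index) (P : Sylow p G) : (P : Subgroup G) ≤ N := by
  intro x hx
  obtain ⟨k, hk⟩ := P.isPGroup' ⟨x, hx⟩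
  have h1 : x ^ p ^ k = 1 := congrArg Subtype.val hk
  have h2 : orderOf (QuotientGroup.mk' N x) ∣ p ^ k := by
    rw [orderOf_dvd_iff_pow_eq_one, ← map_pow, h1, map_one]
  have h3 : orderOf (QuotientGroup.mk' N x) ∣ N.index := by
    rw [Subgroup.index_eq_card]
    exact orderOf_dvd_natCard _
  have h4 : Nat.Coprime (p ^ k) N.index := Nat.Coprime.pow_left _ ((Nat.Prime.coprime_iff_not_dvd hp.out).2 hidx)
  have h5 : orderOf (QuotientGroup.mk' N x) = 1 := Nat.eq_one_of_dvd_coprimes h4 h2 h3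
  rw [orderOf_eq_one_iff] at h5
  exact (QuotientGroup.eq_one_iff x).1 h5

/-- **existence of the extension in the principal block**, and its uniqueness -/
theorem exists_ext [hN : N.Normal] (hM : IsPModular p M) (hidx : ¬ p ∣ N.index) (P : Sylow p G) (T : Subgroup G)
    (hNT : N ≤ T) (hTC : ∀ t ∈ T, ∃ n ∈ N, n * t ∈ Subgroup.centralizer ((P : Subgroup G) : Set G))
    (θ : IrrCharacter N) (hθ : θ ∈ principalBlock M N) :
    ∃ χ : IrrCharacter T, χ ∈ principalBlock M T ∧ (∀ n : N, (χ : T → ℂ) ⟨n, hNT n.2⟩ = (θ : N → ℂ) n) ∧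
      ∀ χ' : IrrCharacter T, χ' ∈ principalBlock M T → (∀ n : N, (χ' : T → ℂ) ⟨n, hNT n.2⟩ = (θ : N → ℂ) n) →
        χ' = χ := by
  classical
  have hNN : (N.subgroupOf T).Normal := inferInstance
  have := Fintype.ofFinite (N.subgroupOf T)
  let e : N.subgroupOf T ≃* N := Subgroup.subgroupOfEquivOfLe hNT
  have he : ∀ x : N.subgroupOf T, ((e x : N) : G) = ((x : T) : G) := fun x => rfl
  let θ' : IrrCharacter (N.subgroupOf T) := infl e.toMonoidHom e.surjective θ
  have hθ' : θ' ∈ principalBlock M (N.subgroupOf T) := infl_mem hM _ _ hθ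
  have hidx' : ¬ p ∣ (N.subgroupOf T).index := by
    intro h
    apply hidx
    have h1 : N.relIndex T * T.index = N.index := Subgroup.relIndex_mul_index hNT
    rw [← h1]
    exact dvd_mul_of_dvd_left h _
  have hPT : (P : Subgroup G) ≤ T := (sylow_le hidx P).trans hNT
  let P' : Sylow p T := P.subtype hPT
  have hP' : ∀ x : T, x ∈ P' ↔ (x : G) ∈ P := fun x => Iff.rfl
  have hsup : N.subgroupOf T ⊔ Subgroup.centralizer ((P' : Subgroup T) : Set T) = ⊤ := by
    rw [eq_top_iff]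
    intro t _
    obtain ⟨n, hn, hc⟩ := hTC t t.2
    have h1 : (⟨n, hNT hn⟩ * t : T) ∈ Subgroup.centralizer ((P' : Subgroup T) : Set T) := by
      rw [Subgroup.mem_centralizer_iff]
      intro y hy
      rw [Subgroup.mem_centralizer_iff] at hc
      exact Subtype.ext (hc y hy)
    have h2 : t = (⟨n, hNT hn⟩⁻¹ : T) * (⟨n, hNT hn⟩ * t) := by group
    rw [h2]
    exact Subgroup.mul_mem_sup (Subgroup.inv_mem _ (Subgroup.mem_subgroupOf.2 hn)) h1
  obtain ⟨χ, hχ, hover⟩ := Cfsg.Agent.H685.Alperin.exists_over hM hidx' P' hsup hθ'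
  have hirr := Cfsg.Agent.H685.Alperin.isIrr_restrict hM P' hsup hχ
  have h1 : (θ' : N.subgroupOf T → ℂ) = (fun n : N.subgroupOf T => (χ : T → ℂ) n) := by
    by_contra hne
    exact hover (classInner_irr_ne θ'.2 hirr hne)
  have h2 : ∀ n : N, (χ : T → ℂ) ⟨n, hNT n.2⟩ = (θ : N → ℂ) n := by
    intro n
    exact (congrFun h1 ⟨⟨n, hNT n.2⟩, Subgroup.mem_subgroupOf.2 n.2⟩).symm
  refine ⟨χ, hχ, h2, fun χ' hχ' h' => ?_⟩
  refine Cfsg.Agent.H685.Alperin.unique hM hidx' P' hsup hχ hχ' fun n => ?_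
  have h3 := h' ⟨(n : T), Subgroup.mem_subgroupOf.1 n.2⟩
  have h4 := h2 ⟨(n : T), Subgroup.mem_subgroupOf.1 n.2⟩
  exact h3.trans h4.symm

/-- a character of `B₀(N)` is invariant under the centralizer of a Sylow subgroup -/
theorem centralizer_le_stab [hN : N.Normal] (hM : IsPModular p M) (hidx : ¬ p ∣ N.index) (P : Sylow p G)
    (θ : IrrCharacter N) (hθ : θ ∈ principalBlock M N) :
    Subgroup.centralizer ((P : Subgroup G) : Set G) ≤ stab N (θ : N → ℂ) := by
  intro c hc n
  obtain ⟨χ, -, h1, -⟩ := exists_ext hM hidx P (N ⊔ Subgroup.centralizer ((P : Subgroup G) : Set G)) le_sup_left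
    (fun t ht => by
      rw [← SetLike.mem_coe, Subgroup.normal_mul] at ht
      obtain ⟨n, hn, c, hc, rfl⟩ := Set.mem_mul.1 ht
      exact ⟨n⁻¹, N.inv_mem hn, by simpa using hc⟩) θ hθ
  rw [← h1, ← h1]
  exact isIrr_isClassFunction χ.2 ⟨n, _⟩ ⟨c, Subgroup.mem_sup_right hc⟩

/-- uniqueness makes the extension `Cyc p` -/
theorem cyc_ext {T : Subgroup G} (hNT : N ≤ T) {θ : IrrCharacter N}
    (hc : ∀ k : ℕ, Nat.Coprime k (Nat.card T) → k ≡ 1 [MOD p] → ∀ n : N, (θ : N → ℂ) (n ^ k) = (θ : N → ℂ) n)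
    {χ : IrrCharacter T} (hχ : χ ∈ principalBlock M T) (h1 : ∀ n : N, (χ : T → ℂ) ⟨n, hNT n.2⟩ = (θ : N → ℂ) n)
    (hu : ∀ χ' : IrrCharacter T, χ' ∈ principalBlock M T → (∀ n : N, (χ' : T → ℂ) ⟨n, hNT n.2⟩ = (θ : N → ℂ) n) →
        χ' = χ) : Cyc p (χ : T → ℂ) := by
  intro k hk hk1 g
  obtain ⟨σ, hσ⟩ := Characters.GaloisBasic.exists_ringEquiv_of_coprime (G := T) hk
  have h2 := hu (galc σ χ) (galc_mem σ hχ) fun n => by
    rw [galc_apply, hσ _ (isIrr_isCharacter χ.2)]
    have h3 := h1 (n ^ k)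
    rw [hc k hk hk1 n] at h3
    exact h3
  rw [← hσ _ (isIrr_isCharacter χ.2), ← galc_apply, h2]


/-- restriction of the induced character to `N` -/
theorem indFun_apply_N [hN : N.Normal] [Fintype G] {T : Subgroup G} (hNT : N ≤ T) {θ : N → ℂ} {χ : T → ℂ}
    (h1 : ∀ n : N, χ ⟨n, hNT n.2⟩ = θ n) (n : N) :
    indFun T χ n = (Nat.card T : ℂ)⁻¹ * ∑ x : G, θ (cj N x⁻¹ n) := by
  rw [CharactersDeep.IndFun.indFun_def]
  congr 1
  refine Finset.sum_congr rfl fun x _ => ?_
  have h2 : x⁻¹ * (n : G) * x = (cj N x⁻¹ n : N) := by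
    change _ = x⁻¹ * (n : G) * x⁻¹⁻¹
    rw [inv_inv]
  rw [h2, CharactersDeep.IndFun.extendByZero_mem T χ (hNT (cj N x⁻¹ n).2), h1]

theorem isIrr_cj [hN : N.Normal] (g : G) (θ : IrrCharacter N) :
    IsIrrCharacter N (fun n => (θ : N → ℂ) (cj N g n)) := by
  let f : N →* N := { toFun := cj N g, map_one' := Subtype.ext (by simp only [cj, _root_.OneMemClass.coe_one, _root_.mul_one, _root_.mul_inv_cancel]), map_mul' := fun a b => Subtype.ext (by
    simp only [cj, Subgroup.coe_mul]; group) }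
  have hf : Function.Surjective f := fun n => ⟨cj N g⁻¹ n, by
    change cj N g (cj N g⁻¹ n) = n
    rw [← cj_mul, mul_inv_cancel, cj_one]⟩
  exact isIrr_comp f hf θ.2

/-- **the witness for `G`** -/
theorem main_abs [hN : N.Normal] [Fintype G] [Fintype N] (hM : IsPModular p M) (hidx : ¬ p ∣ N.index) (P : Sylow p G)
    (θ : IrrCharacter N) (hθ : θ ∈ principalBlock M N)
    (hTC : ∀ t ∈ stab N (θ : N → ℂ), ∃ n ∈ N, n * t ∈ Subgroup.centralizer ((P : Subgroup G) : Set G))
    {d : ℕ} (hd : (θ : N → ℂ) 1 = d) (hdp : ¬ p ∣ d)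
    (hc : ∀ k : ℕ, Nat.Coprime k (Nat.card N) → k ≡ 1 [MOD p] → ∀ n : N, (θ : N → ℂ) (n ^ k) = (θ : N → ℂ) n) :
    ∃ Ψ : G → ℂ, IsCharacter G Ψ ∧ Cyc p Ψ ∧ (∃ n : ℕ, Ψ 1 = n ∧ ¬ p ∣ n) ∧
      (∀ η : IrrCharacter N, classInner (fun n : N => Ψ n) (η : N → ℂ) = 0 ∨
        (classInner (fun n : N => Ψ n) (η : N → ℂ) = 1 ∧ ∃ g : G, ∀ n, (η : N → ℂ) n = (θ : N → ℂ) (cj N g n))) ∧
      (∀ a : G, (∃ P' : Sylow p G, a ∈ Subgroup.centralizer ((P' : Subgroup G) : Set G)) → MemLocalIdeal M (Ψ a - Ψ 1)) ∧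
      ∀ c : G ≃* G, (∀ x, c x ∈ N ↔ x ∈ N) → (∀ (n : N) (h : c n ∈ N), (θ : N → ℂ) ⟨c n, h⟩ = (θ : N → ℂ) n) →
        ∀ x, Ψ (c x) = Ψ x := by
  classical
  have hMp := isPrime_of_isPModular hM
  set T := stab N (θ : N → ℂ) with hTdef
  have hNT : N ≤ T := le_stab (isIrr_isClassFunction θ.2)
  obtain ⟨χ, hχ, h1, hu⟩ := exists_ext hM hidx P T hNT hTC θ hθ
  have hcard : ∀ {H : Subgroup G}, Nat.card H ∣ Nat.card G := fun {H} => Subgroup.card_subgroup_dvd_card H
  have hcT : Cyc p (χ : T → ℂ) := cyc_ext hNT (fun k hk hk1 => hc k (Nat.Coprime.coprime_dvd_right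
    (Subgroup.card_dvd_of_le hNT) hk) hk1) hχ h1 hu
  have hχ1 : (χ : T → ℂ) 1 = d := by
    have h2 := h1 1
    rw [hd] at h2
    exact h2
  have hT0 : (Nat.card T : ℂ) ≠ 0 := Nat.cast_ne_zero.2 Nat.card_pos.ne'
  have _ := Fintype.ofFinite (G ⧸ T)
  have hsum : ∀ g, indFun T (χ : T → ℂ) g = ∑ q : G ⧸ T, extendByZero T (χ : T → ℂ) (q.out⁻¹ * g * q.out) :=
    fun g => Characters.MonomialVec.indFun_eq_sum_quotient T _ (fun h k => isIrr_isClassFunction χ.2 k h) g
  have hext1 : extendByZero T (χ : T → ℂ) 1 = d := by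
    rw [CharactersDeep.IndFun.extendByZero_mem T _ T.one_mem]
    exact hχ1
  have hone : indFun T (χ : T → ℂ) 1 = (T.index * d : ℕ) := by
    rw [hsum]
    simp only [mul_one, inv_mul_cancel, hext1]
    rw [Finset.sum_const, Finset.card_univ, ← Nat.card_eq_fintype_card, ← Subgroup.index_eq_card, nsmul_eq_mul]
    push_cast
    rfl
  refine ⟨indFun T (χ : T → ℂ), CharactersDeep.IndFun.isCharacter_indFun T (isIrr_isCharacter χ.2), ?_,
    ⟨T.index * d, hone, ?_⟩, ?_, ?_, ?_⟩
  · -- Cyc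
    intro k hk hk1 g
    rw [CharactersDeep.IndFun.indFun_def, CharactersDeep.IndFun.indFun_def]
    congr 1
    refine Finset.sum_congr rfl fun x _ => ?_
    have h2 : x⁻¹ * g ^ k * x = (x⁻¹ * g * x) ^ k := by
      have := conj_pow (i := k) (a := x⁻¹) (b := g)
      rw [inv_inv] at this
      exact this.symm
    rw [h2]
    by_cases h3 : x⁻¹ * g * x ∈ T
    · rw [CharactersDeep.IndFun.extendByZero_mem T _ h3, CharactersDeep.IndFun.extendByZero_mem T _ (T.pow_mem h3 k)]
      exact hcT k (Nat.Coprime.coprime_dvd_right hcard hk) hk1 ⟨_, h3⟩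
    · rw [CharactersDeep.IndFun.extendByZero_notMem T _ h3, CharactersDeep.IndFun.extendByZero_notMem]
      intro h4
      apply h3
      obtain ⟨j, hj⟩ := exists_pow_eq_self_of_coprime (x := x⁻¹ * g * x) (n := k)
        (Nat.Coprime.coprime_dvd_right (orderOf_dvd_natCard _) hk)
      rw [← hj]
      exact T.pow_mem h4 j
  · -- degree
    rw [hp.out.dvd_mul]
    rintro (h2 | h2)
    · exact hidx (h2.trans (Subgroup.index_dvd_of_le hNT))
    · exact hdp h2
  · -- restriction to N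
    intro η
    have h2 : (fun n : N => indFun T (χ : T → ℂ) n) =
        (Nat.card T : ℂ)⁻¹ • ∑ x : G, (fun n : N => (θ : N → ℂ) (cj N x⁻¹ n)) := by
      funext n
      rw [indFun_apply_N hNT h1 n, Pi.smul_apply, Finset.sum_apply, smul_eq_mul]
    have h3 : ∀ x : G, classInner (fun n : N => (θ : N → ℂ) (cj N x⁻¹ n)) (η : N → ℂ) =
        if (η : N → ℂ) = (fun n : N => (θ : N → ℂ) (cj N x⁻¹ n)) then 1 else 0 := by
      intro x
      split_ifs with h4
      · rw [h4]
        exact classInner_irr_self (isIrr_cj x⁻¹ θ)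
      · exact classInner_irr_ne (isIrr_cj x⁻¹ θ) η.2 (fun h => h4 h.symm)
    rw [h2, classInner_smul_left, classInner_sum_left]
    simp only [h3]
    by_cases h4 : ∃ x₀ : G, (η : N → ℂ) = (fun n : N => (θ : N → ℂ) (cj N x₀⁻¹ n))
    · right
      obtain ⟨x₀, hx₀⟩ := h4
      refine ⟨?_, x₀⁻¹, fun n => congrFun hx₀ n⟩
      rw [Finset.sum_boole]
      have h5 : (Finset.univ.filter fun x : G => (η : N → ℂ) = (fun n : N => (θ : N → ℂ) (cj N x⁻¹ n))).card =
          Nat.card T := by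
        rw [← Fintype.card_subtype, ← Nat.card_eq_fintype_card]
        refine Nat.card_congr
          { toFun := fun x => ⟨x₀⁻¹ * x.1, ?_⟩
            invFun := fun t => ⟨x₀ * t.1, ?_⟩
            left_inv := fun x => Subtype.ext (by simp)
            right_inv := fun t => Subtype.ext (by simp) }
        · intro n
          have h6 := hx₀.symm.trans x.2
          have h7 := congrFun h6 (cj N x.1 n)
          rw [← cj_mul, ← cj_mul, inv_mul_cancel, cj_one] at h7
          exact h7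
        · rw [hx₀]
          funext n
          have h6 := t.2 (cj N (x₀ * t.1)⁻¹ n)
          rw [← cj_mul, mul_inv_rev, mul_inv_cancel_left] at h6
          rw [h6, mul_inv_rev]
      rw [h5, inv_mul_cancel₀ hT0]
    · left
      push Not at h4
      rw [Finset.sum_eq_zero fun x _ => if_neg (h4 x), mul_zero]
  · -- local
    rintro a ⟨P', ha⟩
    rw [hsum, hsum, ← Finset.sum_sub_distrib]
    refine memLocalIdeal_sum fun q _ => ?_
    set x := q.out
    have hP'N : (P' : Subgroup G) ≤ N := sylow_le hidx P'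
    let Q : Sylow p G := (MulAut.conj x⁻¹) • P'
    have hQ : x⁻¹ * a * x ∈ Subgroup.centralizer ((Q : Subgroup G) : Set G) := by
      rw [Subgroup.mem_centralizer_iff] at ha ⊢
      intro y hy
      have h2 : x * y * x⁻¹ ∈ (P' : Subgroup G) := by
        have h3 : y ∈ (MulAut.conj x⁻¹) • (P' : Subgroup G) := hy
        rw [Subgroup.mem_pointwise_smul_iff_inv_smul_mem] at h3
        simpa only [MulAut.smul_def, _root_.map_inv, _root_.inv_inv, _root_.MulAut.conj_apply] using h3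
      have h4 := ha _ h2
      calc y * (x⁻¹ * a * x) = x⁻¹ * ((x * y * x⁻¹) * a) * x := by group
        _ = x⁻¹ * (a * (x * y * x⁻¹)) * x := by rw [h4]
        _ = _ := by group
    have hT : x⁻¹ * a * x ∈ T := centralizer_le_stab hM hidx Q θ hθ hQ
    have h5 : q.out⁻¹ * 1 * q.out = 1 := by group
    rw [h5, hext1, CharactersDeep.IndFun.extendByZero_mem T _ hT]
    let Q' : Sylow p T := Q.subtype ((sylow_le hidx Q).trans hNT)
    have h6 : (⟨x⁻¹ * a * x, hT⟩ : T) ∈ Subgroup.centralizer ((Q' : Subgroup T) : Set T) := by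
      rw [Subgroup.mem_centralizer_iff]
      intro y hy
      rw [Subgroup.mem_centralizer_iff] at hQ
      exact Subtype.ext (hQ y hy)
    have h7 := Cfsg.Agent.H685.Alperin.ratio_sub_one_of_centralizer hM Q' hχ h6
    have h8 := memLocalIdeal_mul_left (memLocalRing_natCast (M := M) d) h7
    have hd0 : (d : ℂ) ≠ 0 := by
      intro h
      have : d = 0 := by exact_mod_cast h
      exact hdp (this ▸ dvd_zero p)
    rw [hχ1] at h8
    convert h8 using 1
    field_simp
  · -- automorphisms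
    intro c hcN hcθ x
    have hcT' : ∀ t : G, c t ∈ T ↔ t ∈ T := by
      have key : ∀ (t : G) (n : N) (h : c n ∈ N), (θ : N → ℂ) (cj N (c t) ⟨c n, h⟩) = (θ : N → ℂ) (cj N t n) := by
        intro t n h
        have h2 : c ((cj N t n : N) : G) ∈ N := (hcN _).2 (cj N t n).2
        rw [← hcθ (cj N t n) h2]
        refine congrArg (θ : N → ℂ) (Subtype.ext ?_)
        change c t * c n * (c t)⁻¹ = c (t * n * t⁻¹)
        rw [map_mul, map_mul, map_inv]
      intro t
      constructor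
      · intro h n
        have h2 : c n ∈ N := (hcN _).2 n.2
        rw [← key t n h2, h ⟨c n, h2⟩, hcθ]
      · intro h n
        have h2 : c.symm n ∈ N := (hcN _).1 (by rw [MulEquiv.apply_symm_apply]; exact n.2)
        have h3 : c ((⟨c.symm n, h2⟩ : N) : G) ∈ N := by
          change c (c.symm n) ∈ N
          rw [MulEquiv.apply_symm_apply]; exact n.2
        have h4 : (⟨c ((⟨c.symm n, h2⟩ : N) : G), h3⟩ : N) = n := Subtype.ext (MulEquiv.apply_symm_apply c (n : G))
        have h5 := key t ⟨c.symm n, h2⟩ h3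
        rw [h4] at h5
        have h6 := hcθ ⟨c.symm n, h2⟩ h3
        rw [h4] at h6
        rw [h5, h ⟨c.symm n, h2⟩, h6]
    -- the automorphism of `T`
    let cT : T ≃* T :=
      { toFun := fun t => ⟨c t, (hcT' _).2 t.2⟩
        invFun := fun t => ⟨c.symm t, (hcT' _).1 (by rw [MulEquiv.apply_symm_apply]; exact t.2)⟩
        left_inv := fun t => Subtype.ext (by simp)
        right_inv := fun t => Subtype.ext (by simp)
        map_mul' := fun a b => Subtype.ext (by simp only [_root_.Subgroup.coe_mul, _root_.map_mul, _root_.MulMemClass.mk_mul_mk]) }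
    have h2 := hu (infl cT.toMonoidHom cT.surjective χ) (infl_mem hM _ _ hχ) fun n => by
      have h3 : c n ∈ N := (hcN _).2 n.2
      have h4 : (infl cT.toMonoidHom cT.surjective χ : T → ℂ) ⟨n, hNT n.2⟩ = (χ : T → ℂ) ⟨c n, hNT h3⟩ := rfl
      rw [h4]
      have h5 := h1 ⟨c n, h3⟩
      rw [hcθ] at h5
      exact h5
    have h3 : ∀ t : T, (χ : T → ℂ) (cT t) = (χ : T → ℂ) t := fun t => congrFun (congrArg Subtype.val h2) t
    have h4 : ∀ g : G, extendByZero T (χ : T → ℂ) (c g) = extendByZero T (χ : T → ℂ) g := by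
      intro g
      by_cases h5 : g ∈ T
      · rw [CharactersDeep.IndFun.extendByZero_mem T _ h5, CharactersDeep.IndFun.extendByZero_mem T _ ((hcT' g).2 h5)]
        exact h3 ⟨g, h5⟩
      · rw [CharactersDeep.IndFun.extendByZero_notMem T _ h5,
          CharactersDeep.IndFun.extendByZero_notMem T _ (fun h => h5 ((hcT' g).1 h))]
    rw [CharactersDeep.IndFun.indFun_def, CharactersDeep.IndFun.indFun_def]
    congr 1
    rw [← Equiv.sum_comp c.toEquiv]
    refine Finset.sum_congr rfl fun y _ => ?_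
    have h5 : (c.toEquiv y)⁻¹ * c x * c.toEquiv y = c (y⁻¹ * x * y) := by
      change (c y)⁻¹ * c x * c y = _
      rw [map_mul, map_mul, map_inv]
    rw [h5, h4]

end

section aut

variable {S : Type u} [Group S]

theorem conj_apply_aut (x : MulAut S) (s : S) : x * MulAut.conj s * x⁻¹ = MulAut.conj (x s) := by
  ext y
  simp only [MulAut.mul_apply, MulAut.conj_apply, map_mul, MulAut.apply_inv_self, map_inv]

variable [Fintype S] {p : ℕ} [hp : Fact p.Prime] {M : Ideal AlgInt}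

/-- the Sylow subgroup of `X` from the one of `S` -/
theorem exists_sylow (hinj : Function.Injective (MulAut.conj : S → MulAut S)) (X : Subgroup (MulAut S))
    (hX : ∀ s : S, MulAut.conj s ∈ X) (hpX : ¬ p ∣ (MulAut.conj : S →* MulAut S).range.relIndex X) (Q : Sylow p S) :
    ∃ P : Sylow p X, ∀ x : X, x ∈ (P : Subgroup X) ↔ ∃ y ∈ (Q : Subgroup S), (x : MulAut S) = MulAut.conj y := by
  let f : S →* X := (MulAut.conj : S →* MulAut S).codRestrict X hX
  have hf : Function.Injective f := fun a b h => hinj (congrArg Subtype.val h)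
  have h1 : IsPGroup p ((Q : Subgroup S).map f) := Q.isPGroup'.map f
  have hr : (MulAut.conj : S →* MulAut S).range.subgroupOf X = f.range := by
    ext x
    rw [Subgroup.mem_subgroupOf, MonoidHom.mem_range, MonoidHom.mem_range]
    exact ⟨fun ⟨s, hs⟩ => ⟨s, Subtype.ext hs⟩, fun ⟨s, hs⟩ => ⟨s, congrArg Subtype.val hs⟩⟩
  have h2 : ¬ p ∣ ((Q : Subgroup S).map f).index := by
    have h3 : (Q : Subgroup S).map f ≤ f.range := by
      rw [MonoidHom.range_eq_map]
      exact Subgroup.map_mono le_top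
    have h4 : ((Q : Subgroup S).map f).relIndex f.range * f.range.index = ((Q : Subgroup S).map f).index :=
      Subgroup.relIndex_mul_index h3
    have h5 : ((Q : Subgroup S).map f).relIndex f.range = (Q : Subgroup S).index := by
      rw [MonoidHom.range_eq_map, Subgroup.relIndex_map_map_of_injective _ _ hf, Subgroup.relIndex_top_right]
    have h6 : f.range.index = (MulAut.conj : S →* MulAut S).range.relIndex X := by
      rw [← hr]
      rfl
    rw [← h4, h5, h6, hp.out.dvd_mul]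
    rintro (h | h)
    · exact Q.not_dvd_index h
    · exact hpX h
  refine ⟨h1.toSylow h2, fun x => ?_⟩
  have h7 : ((h1.toSylow h2 : Sylow p X) : Subgroup X) = (Q : Subgroup S).map f := rfl
  rw [h7, Subgroup.mem_map]
  exact ⟨fun ⟨y, hy, h⟩ => ⟨y, hy, (congrArg Subtype.val h).symm⟩, fun ⟨y, hy, h⟩ => ⟨y, hy, Subtype.ext h.symm⟩⟩

/-- **the witness for a group `X` of automorphisms, `X / Inn S` a `p'`-group** -/
theorem wit_of_ad' (hM : IsPModular p M) (hinj : Function.Injective (MulAut.conj : S → MulAut S))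
    (X : Subgroup (MulAut S)) (hX : ∀ s : S, MulAut.conj s ∈ X)
    (hpX : ¬ p ∣ (MulAut.conj : S →* MulAut S).range.relIndex X) (Q : Sylow p S) (θ : IrrCharacter S)
    (hθ : θ ∈ principalBlock M S) (hθ1 : (θ : S → ℂ) ≠ fun _ => 1) (hdeg : ¬ p ∣ charDegree (θ : S → ℂ))
    (hcyc : Cyc p (θ : S → ℂ))
    (hTC : ∀ t ∈ X, (∀ s, (θ : S → ℂ) (t s) = (θ : S → ℂ) s) → ∃ s : S, ∀ y ∈ (Q : Subgroup S), (MulAut.conj s * t) y = y) :
    ∃ Ψ : X → ℂ, WitA p M S X hX Ψ ∧ ∀ b : MulAut S, (∀ x ∈ X, b * x * b⁻¹ ∈ X) →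
      (∃ x ∈ X, ∀ s, (θ : S → ℂ) (b s) = (θ : S → ℂ) (x s)) →
        ∀ x y : X, (y : MulAut S) = b * x * b⁻¹ → Ψ y = Ψ x := by
  classical
  have hfin : Finite (MulAut S) := inferInstance
  have _ := Fintype.ofFinite X
  let N : Subgroup X := (MulAut.conj : S →* MulAut S).range.subgroupOf X
  have _ := Fintype.ofFinite N
  have hN : N.Normal := by
    constructor
    rintro ⟨n, hnX⟩ ⟨s, hs⟩ g
    exact ⟨(g : MulAut S) s, by
      rw [← conj_apply_aut, hs]
      rfl⟩
  let e₀ : S →* N := { toFun := fun s => ⟨⟨MulAut.conj s, hX s⟩, ⟨s, rfl⟩⟩, map_one' := Subtype.ext (Subtype.ext (map_one _)),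
                       map_mul' := fun a b => Subtype.ext (Subtype.ext (map_mul _ _ _)) }
  have he₀ : Function.Bijective e₀ := by
    constructor
    · intro a b h
      exact hinj (congrArg Subtype.val (congrArg Subtype.val h))
    · rintro ⟨⟨n, hnX⟩, ⟨s, hs⟩⟩
      exact ⟨s, Subtype.ext (Subtype.ext hs)⟩
  let e : S ≃* N := MulEquiv.ofBijective e₀ he₀
  have hecoe : ∀ s, (((e s : N) : X) : MulAut S) = MulAut.conj s := fun s => rfl
  have hecj : ∀ (g : X) (s : S), cj N g (e s) = e ((g : MulAut S) s) := fun g s =>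
    Subtype.ext (Subtype.ext (conj_apply_aut (g : MulAut S) s))
  let θN : IrrCharacter N := infl e.symm.toMonoidHom e.symm.surjective θ
  have hθNe : ∀ s, (θN : N → ℂ) (e s) = (θ : S → ℂ) s := fun s => by
    change (θ : S → ℂ) (e.symm (e s)) = _
    rw [MulEquiv.symm_apply_apply]
  have hθN : θN ∈ principalBlock M N := infl_mem hM _ _ hθ
  obtain ⟨P, hP⟩ := exists_sylow hinj X hX hpX Q
  obtain ⟨d, hd⟩ : ∃ d : ℕ, (θ : S → ℂ) 1 = d := ⟨_, Cfsg.Agent.Blocks.Basic.irr_one_eq_charDegree θ.2⟩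
  have hdp : ¬ p ∣ d := by
    have h2 := Cfsg.Agent.Blocks.Basic.irr_one_eq_charDegree θ.2
    rw [hd] at h2
    have h3 : d = charDegree (θ : S → ℂ) := by exact_mod_cast h2
    rwa [h3]
  have hstab : ∀ t : X, t ∈ stab N (θN : N → ℂ) → ∀ s, (θ : S → ℂ) ((t : MulAut S) s) = (θ : S → ℂ) s := by
    intro t ht s
    have h2 := ht (e s)
    rw [hecj, hθNe, hθNe] at h2
    exact h2
  obtain ⟨Ψ, h1, h2, h3, h4, h5, h6⟩ := main_abs (G := X) (N := N) hM hpX P θN hθN (fun t ht => by
      obtain ⟨s, hs⟩ := hTC t t.2 (hstab t ht)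
      refine ⟨(e s : X), (e s).2, ?_⟩
      rw [Subgroup.mem_centralizer_iff]
      intro h hh
      obtain ⟨y, hy, hy'⟩ := (hP h).1 hh
      apply Subtype.ext
      change (h : MulAut S) * (MulAut.conj s * (t : MulAut S)) = MulAut.conj s * (t : MulAut S) * (h : MulAut S)
      have h7 := conj_apply_aut (MulAut.conj s * (t : MulAut S)) y
      rw [hs y hy] at h7
      rw [hy', ← mul_inv_eq_iff_eq_mul.1 h7]) (d := d) (by
      have h2 := hθNe 1
      rw [map_one] at h2
      rw [h2, hd]) hdp (fun k hk hk1 n => by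
      obtain ⟨s, rfl⟩ := e.surjective n
      rw [← map_pow, hθNe, hθNe]
      exact hcyc k (by rwa [Nat.card_congr e.toEquiv]) hk1 s)
  have hmul : ∀ θ' : IrrCharacter S, mul (res hX Ψ) (θ' : S → ℂ) =
      classInner (fun n : N => Ψ n) (infl e.symm.toMonoidHom e.symm.surjective θ' : N → ℂ) := by
    intro θ'
    rw [classInner_def]
    unfold mul
    rw [Nat.card_congr e.toEquiv]
    congr 1
    refine Fintype.sum_equiv e.toEquiv _ _ fun s => ?_
    have h7 : (infl e.symm.toMonoidHom e.symm.surjective θ' : N → ℂ) (e.toEquiv s) = (θ' : S → ℂ) s := by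
      change (θ' : S → ℂ) (e.symm (e s)) = _
      rw [MulEquiv.symm_apply_apply]
    rw [h7]
    rfl
  refine ⟨Ψ, ⟨h1, h2, h3, ?_, ?_⟩, ?_⟩
  · intro θ'
    rcases h4 (infl e.symm.toMonoidHom e.symm.surjective θ') with h7 | ⟨h7, g, hg⟩
    · left
      rw [hmul, h7]
    · right
      have h8 : ∀ s, (θ' : S → ℂ) s = (θ : S → ℂ) ((g : MulAut S) s) := by
        intro s
        have h9 := hg (e s)
        rw [hecj, hθNe] at h9
        rw [← h9]
        change _ = (θ' : S → ℂ) (e.symm (e s))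
        rw [MulEquiv.symm_apply_apply]
      refine ⟨by rw [hmul, h7], fun h9 => hθ1 ?_, ?_⟩
      · funext s
        have h10 := h8 ((g : MulAut S)⁻¹ s)
        rw [MulAut.apply_inv_self, h9] at h10
        exact h10.symm
      · intro k hk hk1 s
        rw [h8, h8, map_pow]
        exact hcyc k hk hk1 _
  · rintro a - ⟨Q', hQ'⟩
    obtain ⟨P', hP'⟩ := exists_sylow hinj X hX hpX Q'
    refine h5 a ⟨P', ?_⟩
    rw [Subgroup.mem_centralizer_iff]
    intro h hh
    obtain ⟨y, hy, hy'⟩ := (hP' h).1 hh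
    apply Subtype.ext
    change (h : MulAut S) * (a : MulAut S) = (a : MulAut S) * (h : MulAut S)
    have h7 := conj_apply_aut (a : MulAut S) y
    rw [hQ' y hy] at h7
    rw [hy', ← mul_inv_eq_iff_eq_mul.1 h7]
  · rintro b hb ⟨x₀, hx₀, hbx⟩ x y hy
    set! b' : MulAut S := b * x₀⁻¹ with hb'
    have hb'X : ∀ x ∈ X, b' * x * b'⁻¹ ∈ X := by
      intro x hx
      have h7 := hb _ (X.mul_mem (X.mul_mem (X.inv_mem hx₀) hx) hx₀)
      have h8 : b' * x * b'⁻¹ = b * (x₀⁻¹ * x * x₀) * b⁻¹ := by rw [hb']; group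
      rw [h8]
      exact h7
    have hb'θ : ∀ s, (θ : S → ℂ) (b' s) = (θ : S → ℂ) s := by
      intro s
      rw [hb', MulAut.mul_apply, hbx, MulAut.apply_inv_self]
    let c₀ : X →* X := { toFun := fun x => ⟨b' * x * b'⁻¹, hb'X x x.2⟩, map_one' := Subtype.ext (by simp),
                         map_mul' := fun u v => Subtype.ext (by simp only [mul_assoc, _root_.Subgroup.coe_mul, _root_.MulMemClass.mk_mul_mk, _root_.inv_mul_cancel_left]) }
    have hc₀ : Function.Injective c₀ := by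
      intro u v h
      have h7 := congrArg Subtype.val h
      change b' * (u : MulAut S) * b'⁻¹ = b' * (v : MulAut S) * b'⁻¹ at h7
      exact Subtype.ext (mul_left_cancel (mul_right_cancel h7))
    let c : X ≃* X := MulEquiv.ofBijective c₀ ⟨hc₀, Finite.surjective_of_injective hc₀⟩
    have hc : ∀ u : X, ((c u : X) : MulAut S) = b' * u * b'⁻¹ := fun u => rfl
    have hce : ∀ s : S, c ((e s : N) : X) = ((e (b' s) : N) : X) := fun s => Subtype.ext (conj_apply_aut b' s)
    have h7 := h6 c (fun u => by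
      constructor
      · rintro ⟨s, hs⟩
        refine ⟨b'⁻¹ s, ?_⟩
        change MulAut.conj (b'⁻¹ s) = (u : MulAut S)
        have h8 : (MulAut.conj s : MulAut S) = b' * (u : MulAut S) * b'⁻¹ := hs
        rw [← conj_apply_aut, h8]
        group
      · intro hu
        obtain ⟨s, hs⟩ := e.surjective ⟨u, hu⟩
        have h8 : u = ((e s : N) : X) := by rw [hs]
        rw [h8, hce]
        exact (e (b' s)).2) (fun n h => by
      obtain ⟨s, rfl⟩ := e.surjective n
      have h8 : (⟨c ((e s : N) : X), h⟩ : N) = e (b' s) := Subtype.ext (hce s)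
      rw [h8, hθNe, hθNe, hb'θ])
    have hx₀' : x₀ ∈ X := hx₀
    have h8 : y = c (⟨x₀, hx₀'⟩ * x * (⟨x₀, hx₀'⟩ : X)⁻¹) := by
      apply Subtype.ext
      rw [hy, hc]
      change b * (x : MulAut S) * b⁻¹ = b' * (x₀ * (x : MulAut S) * x₀⁻¹) * b'⁻¹
      rw [hb']
      group
    rw [h8, h7]
    exact isCharacter_isClassFunction h1 _ _

/-- the form with the stabilizer `T` -/
theorem wit_of_ad (hM : IsPModular p M) (hinj : Function.Injective (MulAut.conj : S → MulAut S))
    (X T : Subgroup (MulAut S)) (hX : ∀ s : S, MulAut.conj s ∈ X)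
    (hpX : ¬ p ∣ (MulAut.conj : S →* MulAut S).range.relIndex X) (Q : Sylow p S) (θ : IrrCharacter S)
    (hT : ∀ x ∈ X, x ∈ T ↔ ∀ s, (θ : S → ℂ) (x s) = (θ : S → ℂ) s)
    (hTC : ∀ t ∈ T, ∃ s : S, ∀ y ∈ (Q : Subgroup S), (MulAut.conj s * t) y = y)
    (hθ : θ ∈ principalBlock M S) (hθ1 : (θ : S → ℂ) ≠ fun _ => 1) (hdeg : ¬ p ∣ charDegree (θ : S → ℂ))
    (hcyc : Cyc p (θ : S → ℂ)) :
    ∃ Ψ : X → ℂ, WitA p M S X hX Ψ ∧ ∀ b : MulAut S, (∀ x ∈ X, b * x * b⁻¹ ∈ X) →
      (∃ x ∈ X, ∀ s, (θ : S → ℂ) (b s) = (θ : S → ℂ) (x s)) →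
        ∀ x y : X, (y : MulAut S) = b * x * b⁻¹ → Ψ y = Ψ x :=
  wit_of_ad' hM hinj X hX hpX Q θ hθ hθ1 hdeg hcyc fun t ht h => hTC t ((hT t ht).2 h)

/-- `MulAut.conj` is injective on a nonabelian simple group -/
theorem conj_injective {S : Type u} [Group S] [IsSimpleGroup S] (hna : ¬ IsMulCommutative S) :
    Function.Injective (MulAut.conj : S → MulAut S) := by
  have h1 : (MulAut.conj : S →* MulAut S).ker = ⊥ := by
    rcases (inferInstance : ((MulAut.conj : S →* MulAut S).ker).Normal).eq_bot_or_eq_top with h | h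
    · exact h
    · exfalso
      apply hna
      refine ⟨⟨fun a b => ?_⟩⟩
      have h2 : a ∈ (MulAut.conj : S →* MulAut S).ker := by rw [h]; trivial
      have h3 := DFunLike.congr_fun (MonoidHom.mem_ker.1 h2) b
      rw [MulAut.conj_apply, MulAut.one_apply] at h3
      exact mul_inv_eq_iff_eq_mul.1 h3
  exact (MonoidHom.ker_eq_bot_iff _).1 h1

end aut

end Cfsg.Agent.H685.CY
end

private theorem dce_84b4e5dc834c : _root_.True := by
  try have : _root_.True := by simp only [_root_.Cfsg.Agent.H685.CY.cj.eq_1]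
  try have : _root_.True := by simp only [_root_.Cfsg.Agent.H685.CY.cj.congr_simp]
  exact _root_.True.intro
end

-- part: H226/R2/SpCC
section
prune_inst 0x8000000000000000000000000000014010000
set_option linter.all false
open scoped Cfsg.Agent.FastGrp

/-!
# The CC-torus of order `q² + 1` of `Sp₄(q)`, `q` even (helper226)

* `exists_cc_sp` : `Matrix.symplecticGroup (Fin 2) F`;
* `exists_cc_psp` : `PSp 2 F`.

A cyclic CC-subgroup `A` of order `q² + 1` and, when `5 ∣ q² + 1`, an element of order five of `A` conjugate to its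
nontrivial powers; also `y` of order four with `y x y⁻¹ = x ^ q` for the generator `x` of `A`.
-/

set_option autoImplicit false

namespace Cfsg.Agent.H226.R2

open Module Subgroup Cfsg Cfsg.Agent.H183.NF4 Cfsg.Agent.H129.CycT Cfsg.Agent.H649.VanSp4
open Cfsg.Agent.Characters.CCBasic Cfsg.Agent.H129.TorAct

universe u v w

section

variable {F : Type u} [Field F] [Fintype F] {V : Type v} [AddCommGroup V] [Module F V] [FiniteDimensional F V]
  {Y : Type w} [Group Y] [Finite Y] (D : Dat F V Y)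

include D

/-- the centralizers (the proof of helper649's `cycExact_dat`) -/
theorem cc_dat (h2 : 2 ∣ Fintype.card F) {y0 : Y} (h0 : orderOf y0 = Fintype.card F ^ 2 + 1)
    (hcyc : ∀ r : ℕ, r.Prime → orderOf ((Fintype.card F : ℕ) : ZMod r) = 4 → ∀ R : Subgroup Y, IsPGroup r R →
      IsCyclic R) : IsCC (zpowers y0) := by
  refine ⟨?_, ?_⟩
  · rw [Ne, zpowers_eq_bot]
    rintro rfl
    rw [orderOf_one] at h0
    have : 0 < Fintype.card F := Fintype.card_pos
    have : 0 < Fintype.card F ^ 2 := by positivity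
    omega
  intro z hz hz1
  refine le_antisymm (cent_le_of_prime (T := zpowers y0) ?_ hz hz1) (le_centralizer_of_cyclic inferInstance hz)
  intro r hr y hy hyr
  have hrd : r ∣ Fintype.card F ^ 2 + 1 := by
    rw [← h0, ← hyr]
    exact orderOf_dvd_of_mem_zpowers hy
  have ho := order_four hr h2 hrd
  have hirr := D.irr_of_order hr ho hyr
  have hyq : y ^ (Fintype.card F ^ 2 + 1) = 1 := by
    rw [← orderOf_dvd_iff_pow_eq_one, hyr]
    exact hrd
  have hle : zpowers y0 ≤ centralizer ({y} : Set Y) := by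
    rw [zpowers_le, mem_centralizer_singleton_iff]
    obtain ⟨k, rfl⟩ := mem_zpowers_iff.1 hy
    rw [← zpow_one_add, ← zpow_add_one, add_comm]
  have hexp : ∀ c ∈ centralizer ({y} : Set Y), c ^ (Fintype.card F ^ 2 + 1) = 1 := by
    intro c hc
    rw [mem_centralizer_singleton_iff] at hc
    exact D.pow_eq_one_of_comm hirr hyq hc.symm
  have hdvd : Nat.card (centralizer ({y} : Set Y)) ∣ Fintype.card F ^ 2 + 1 := by
    rw [Nat.dvd_iff_prime_pow_dvd_dvd]
    intro s k hs hk
    have := Fact.mk hs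
    rcases Nat.eq_zero_or_pos k with rfl | hk0
    · rw [pow_zero]
      exact one_dvd _
    obtain ⟨K, hK⟩ := Sylow.exists_subgroup_card_pow_prime s hk
    have hKp : IsPGroup s K := IsPGroup.of_card hK
    have hsd : s ∣ Fintype.card F ^ 2 + 1 := by
      obtain ⟨c, hc⟩ := exists_prime_orderOf_dvd_card' (G := K) s (by rw [hK]; exact dvd_pow_self s hk0.ne')
      have h3 := hexp _ c.1.2
      rw [← orderOf_dvd_iff_pow_eq_one, Subgroup.orderOf_coe, Subgroup.orderOf_coe, hc] at h3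
      exact h3
    have hc1 := hcyc s hs (order_four hs h2 hsd) (K.map (centralizer ({y} : Set Y)).subtype) (hKp.map _)
    have hc2 : IsCyclic K :=
      isCyclic_of_injective (K.equivMapOfInjective (centralizer ({y} : Set Y)).subtype
        (Subgroup.subtype_injective _)).toMonoidHom (MulEquiv.injective _)
    obtain ⟨g, hg⟩ := IsCyclic.exists_ofOrder_eq_natCard (α := K)
    have h3 := hexp _ g.1.2
    rw [← orderOf_dvd_iff_pow_eq_one, Subgroup.orderOf_coe, Subgroup.orderOf_coe, hg, hK] at h3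
    exact h3
  have heq : zpowers y0 = centralizer ({y} : Set Y) := by
    refine Subgroup.eq_of_le_of_card_ge hle ?_
    rw [Nat.card_zpowers, h0]
    exact Nat.le_of_dvd (Nat.succ_pos _) hdvd
  exact heq.ge

end

/-- transport of a CC-subgroup -/
theorem isCC_zpowers_map {G : Type u} {H : Type v} [Group G] [Group H] (e : G ≃* H) {x : G}
    (h : IsCC (zpowers x)) : IsCC (zpowers (e x)) := by
  refine ⟨?_, ?_⟩
  · rw [Ne, zpowers_eq_bot]
    intro h1
    apply h.ne_bot
    rw [zpowers_eq_bot]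
    exact e.injective (h1.trans (map_one e).symm)
  · intro z hz hz1
    obtain ⟨k, rfl⟩ := mem_zpowers_iff.1 hz
    have h1 : x ^ k ≠ 1 := by
      intro h2
      apply hz1
      rw [← map_zpow, h2, map_one]
    have h2 := h.cent _ (zpow_mem (mem_zpowers x) k) h1
    ext c
    obtain ⟨c, rfl⟩ := e.surjective c
    rw [mem_centralizer_singleton_iff, ← map_zpow, ← map_mul, ← map_mul, e.injective.eq_iff,
      ← mem_centralizer_singleton_iff, h2]
    constructor
    · intro h3
      obtain ⟨j, rfl⟩ := mem_zpowers_iff.1 h3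
      rw [map_zpow]
      exact zpow_mem (mem_zpowers _) j
    · intro h3
      obtain ⟨j, hj⟩ := mem_zpowers_iff.1 h3
      rw [← map_zpow, e.injective.eq_iff] at hj
      rw [← hj]
      exact zpow_mem (mem_zpowers _) j

/-- the element of order five -/
theorem isConj_pow_five {G : Type u} [Group G] [Finite G] {x y : G} {q : ℕ} (hx : orderOf x = q ^ 2 + 1) (h5 : 5 ∣ q ^ 2 + 1)
    (hyx : y * x = x ^ q * y) : orderOf (x ^ ((q ^ 2 + 1) / 5)) = 5 ∧
      ∀ k : ℕ, ¬ 5 ∣ k → IsConj (x ^ ((q ^ 2 + 1) / 5)) ((x ^ ((q ^ 2 + 1) / 5)) ^ k) := by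
  obtain ⟨c, hc⟩ := h5
  have hdiv : (q ^ 2 + 1) / 5 = c := by rw [hc]; exact Nat.mul_div_cancel_left c (by norm_num)
  rw [hdiv]
  have hc0 : c ≠ 0 := by
    rintro rfl
    omega
  have ho : orderOf (x ^ c) = 5 := by
    rw [orderOf_pow, hx, hc, Nat.gcd_mul_left_left, Nat.mul_div_cancel _ (Nat.pos_of_ne_zero hc0)]
  refine ⟨ho, ?_⟩
  obtain ⟨z, hz⟩ : ∃ z, z = x ^ c := ⟨_, rfl⟩
  rw [← hz] at ho ⊢
  have h1 : y * z * y⁻¹ = z ^ q := by
    have h2 : y * x * y⁻¹ = x ^ q := by rw [hyx, mul_inv_cancel_right]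
    rw [hz, ← conj_pow, h2, ← pow_mul, ← pow_mul, mul_comm]
  have hq : q % 5 = 2 ∨ q % 5 = 3 := by
    have h3 : (q ^ 2 + 1) % 5 = 0 := by rw [hc]; exact Nat.mul_mod_right 5 c
    have h4 : q % 5 = 0 ∨ q % 5 = 1 ∨ q % 5 = 2 ∨ q % 5 = 3 ∨ q % 5 = 4 := by omega
    rcases h4 with h4 | h4 | h4 | h4 | h4 <;> rw [Nat.add_mod, Nat.pow_mod, h4] at h3 <;> simp at h3 <;> omega
  have hmod : ∀ a b : ℕ, a % 5 = b % 5 → z ^ a = z ^ b := by
    intro a b hab
    rw [← pow_mod_orderOf, ho, hab, ← ho, pow_mod_orderOf]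
  have hstep : ∀ a b : ℕ, (q * a) % 5 = b % 5 → IsConj (z ^ a) (z ^ b) := by
    intro a b hab
    rw [isConj_iff]
    refine ⟨y, ?_⟩
    rw [← conj_pow, h1, ← pow_mul]
    exact hmod _ _ hab
  have hone : z = z ^ 1 := (pow_one z).symm
  intro k hk
  have hk4 : k % 5 = 1 ∨ k % 5 = 2 ∨ k % 5 = 3 ∨ k % 5 = 4 := by omega
  have hmul : ∀ a b : ℕ, (q * a) % 5 = ((q % 5) * (a % 5)) % 5 := fun a _ => Nat.mul_mod q a 5
  rw [hmod k (k % 5) (Nat.mod_mod k 5).symm]
  nth_rw 1 [hone]
  rcases hq with hq | hq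
  · have s1 : IsConj (z ^ 1) (z ^ 2) := hstep 1 2 (by rw [hmul 1 0, hq])
    have s2 : IsConj (z ^ 2) (z ^ 4) := hstep 2 4 (by rw [hmul 2 0, hq])
    have s3 : IsConj (z ^ 4) (z ^ 3) := hstep 4 3 (by rw [hmul 4 0, hq])
    rcases hk4 with h | h | h | h <;> rw [h]
    · exact s1
    · exact (s1.trans s2).trans s3
    · exact s1.trans s2
  · have s1 : IsConj (z ^ 1) (z ^ 3) := hstep 1 3 (by rw [hmul 1 0, hq])
    have s2 : IsConj (z ^ 3) (z ^ 4) := hstep 3 4 (by rw [hmul 3 0, hq])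
    have s3 : IsConj (z ^ 4) (z ^ 2) := hstep 4 2 (by rw [hmul 4 0, hq])
    rcases hk4 with h | h | h | h <;> rw [h]
    · exact (s1.trans s2).trans s3
    · exact s1
    · exact s1.trans s2

section

variable (F : Type) [Field F] [Fintype F] [CharP F 2]

/-- **the torus with its normalizer element**: `x` of order `q² + 1`, `⟨x⟩` a CC-subgroup, `y x = x ^ q y` -/
theorem exists_frob_cc : ∃ x y : Matrix.symplecticGroup (Fin 2) F, orderOf x = Fintype.card F ^ 2 + 1 ∧
    y ^ 4 = 1 ∧ y ^ 2 ≠ 1 ∧ y * x = x ^ Fintype.card F * y ∧ IsCC (zpowers x) := by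
  obtain ⟨x, y, h1, h2, h3, h4⟩ := H379.P4.TwoElt.exists_frob (F := F)
  rw [Nat.card_eq_fintype_card] at h1 h4
  refine ⟨x, y, h1, h2, h3, h4, cc_dat (spDat F) two_dvd_card h1 ?_⟩
  intro r hr ho R hR
  exact r_cyclic (F := F) rfl hr ho R hR

end

end Cfsg.Agent.H226.R2
end

-- part: H226/R2/SpCent
section
set_option linter.all false
open scoped Cfsg.Agent.FastGrp

/-!
# The CC-torus of the centralizer of an involutory field automorphism of `PSp₄(q)`, `q` even (helper226)

`exists_cc_cent` : the piece (P-C) of helper48's plan (S4829, `p = 2`, `Sp₄(2^f)`, `f ≡ 2 (mod 4)`).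
-/

set_option autoImplicit false

namespace Cfsg.Agent.H226.R2

open Subgroup Cfsg Cfsg.Agent.Characters.CCBasic Cfsg.Agent.H206.PspBal Cfsg.Agent.H206.PspFix

universe u v

/-- the torus over the small field, transported by an isomorphism -/
theorem exists_cc_of_equiv {F₀ : Type} [Field F₀] [Fintype F₀] [CharP F₀ 2] {C : Type v} [Group C] [Finite C]
    (e : Matrix.symplecticGroup (Fin 2) F₀ ≃* C) {m : ℕ} (hm : Fintype.card F₀ ^ 2 + 1 = m) (h5 : 5 ∣ m) :
    ∃ T : Subgroup C, IsCC T ∧ IsCyclic T ∧ Nat.card T = m ∧ ∃ x ∈ T, orderOf x = 5 ∧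
      ∀ k : ℕ, ¬ 5 ∣ k → IsConj x (x ^ k) := by
  subst hm
  obtain ⟨x, y, h1, -, -, h4, h6⟩ := exists_frob_cc F₀
  have h1' : orderOf (e x) = Fintype.card F₀ ^ 2 + 1 := by rw [MulEquiv.orderOf_eq, h1]
  have h4' : e y * e x = e x ^ Fintype.card F₀ * e y := by rw [← map_mul, h4, map_mul, map_pow]
  obtain ⟨h7, h8⟩ := isConj_pow_five h1' h5 h4'
  exact ⟨zpowers (e x), isCC_zpowers_map _ h6, inferInstance, by rw [Nat.card_zpowers, h1'], _,
    pow_mem (mem_zpowers _) _, h7, h8⟩

section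

variable {F : Type} [Field F] [Fintype F] [CharP F 2]

theorem center_bot (m : ℕ) : Subgroup.center ↥(Matrix.symplecticGroup (Fin m) F) = ⊥ := H292.SpCen.center_eq_bot m

theorem mk_injective {m : ℕ} {s t : Matrix.symplecticGroup (Fin m) F}
    (h : (QuotientGroup.mk s : PSp m F) = QuotientGroup.mk t) : s = t := by
  rw [QuotientGroup.eq, center_bot, mem_bot] at h
  exact inv_mul_eq_one.1 h

/-- the isomorphism of `Sp_m(F₀)` with the fixed points -/
theorem exists_equiv_fix (m : ℕ) (sigma : F ≃+* F) (C : Subgroup (PSp m F))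
    (hC : ∀ s, s ∈ C ↔ phi m F sigma s = s) :
    Nonempty (Matrix.symplecticGroup (Fin m) (H966.Frob.fix sigma) ≃* C) := by
  have hj : ∀ a, sigma a = a ↔ ∃ b, (H966.Frob.fix sigma).subtype b = a := by
    intro a
    constructor
    · intro h
      exact ⟨⟨a, h⟩, rfl⟩
    · rintro ⟨b, rfl⟩
      exact b.2
  have hmem : ∀ A, psi m (H966.Frob.fix sigma).subtype A ∈ C := by
    intro A
    rw [hC, psi_apply, phi_mk, (mem_range_mapSp hj).1 ⟨A, rfl⟩]
  refine ⟨MulEquiv.ofBijective ((psi m (H966.Frob.fix sigma).subtype).codRestrict C hmem) ⟨?_, ?_⟩⟩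
  · intro A B h
    have h1 : psi m (H966.Frob.fix sigma).subtype A = psi m (H966.Frob.fix sigma).subtype B := congrArg Subtype.val h
    rw [psi_apply, psi_apply] at h1
    exact mapSp_injective _ (mk_injective h1)
  · rintro ⟨c, hc⟩
    obtain ⟨s, rfl⟩ := QuotientGroup.mk_surjective c
    rw [hC, phi_mk] at hc
    obtain ⟨B, hB⟩ := (mem_range_mapSp hj (s := s)).2 (mk_injective hc)
    refine ⟨B, Subtype.ext ?_⟩
    show psi m (H966.Frob.fix sigma).subtype B = _
    rw [psi_apply, hB]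

/-- **(P-C)** the centralizer of the involutory field automorphism has a CC-torus of order `q₀² + 1 = |F| + 1` -/
theorem exists_cc_cent {sigma : F ≃+* F} (h2 : sigma * sigma = 1) (h1 : sigma ≠ 1) (h5 : 5 ∣ Fintype.card F + 1)
    (C : Subgroup (PSp 2 F)) (hC : ∀ s, s ∈ C ↔ phi 2 F sigma s = s) :
    ∃ T : Subgroup C, IsCC T ∧ IsCyclic T ∧ Nat.card T = Fintype.card F + 1 ∧
      ∃ x ∈ T, orderOf x = 5 ∧ ∀ k : ℕ, ¬ 5 ∣ k → IsConj x (x ^ k) := by
  classical
  have ho : orderOf sigma = 2 := by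
    have : Fact (Nat.Prime 2) := ⟨Nat.prime_two⟩
    exact orderOf_eq_prime (by rw [pow_two, h2]) h1
  have hcard := H202.Descent.card_fixed (F := F) ho
  let _ : Fintype (H966.Frob.fix sigma) := Fintype.ofFinite _
  have hcard' : Fintype.card (H966.Frob.fix sigma) ^ 2 = Fintype.card F := by
    rw [← Nat.card_eq_fintype_card, ← Nat.card_eq_fintype_card]
    exact hcard.symm
  have hch : CharP (H966.Frob.fix sigma) 2 :=
    ((H966.Frob.fix sigma).subtype.charP_iff (H966.Frob.fix sigma).subtype.injective 2).2 inferInstance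
  have hfin : Finite (PSp 2 F) := inferInstance
  obtain ⟨e⟩ := exists_equiv_fix 2 sigma C hC
  exact exists_cc_of_equiv e (by rw [hcard']) h5

end

end Cfsg.Agent.H226.R2
end
end
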