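import Cfsg.Agent.H145.BR.Table_m3
import Cfsg.Agent.H776.CY.Noncyc_m3
import Cfsg.Agent.H107.JFourCol.Main_m3
import Cfsg.Agent.S2119
import Cfsg.Agent.H641.Gow.Real_m3
import Cfsg.Agent.S0145
import Cfsg.Agent.H199.PslAut
import Cfsg.Agent.S2580
import Cfsg.Agent.Lib.FieldAutCard
import Cfsg.Agent.FastGrp
import Cfsg.Agent.Prune
set_option linter.all false
prune_inst 0x7f00000000000000000000000000000000000000000000000000000000000000000000000000000000000000000000000000000000000000000000000000000000000000000000000000000000000000003ffff7ffffffffffffffffffffffbeffbdefffffff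
open scoped Cfsg.Agent.FastGrp

-- part: H776/CY/All
section
/-!
# S4829: the dispatch (helper776)

`rowA_known` : from the rows, `RowA p G` for every known nonabelian simple group `G` with `p ∣ |G|`; `rowA_all` : for all
nonabelian simple groups, given the classification.  `Rows2`, `row2_all` : the same for `p = 2`.
-/

set_option autoImplicit false

open Subgroup

namespace Cfsg.Agent.H776.CY

open Cfsg Cfsg.Agent.H770.CY Cfsg.Agent.H145.BR

universe u

/-- **the rows for `p = 2`** -/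
structure Rows2 : Prop where
  alt : RowFor2 (fun X _ => IsAlternating X)
  lie : RowFor2 (fun X _ => IsLieTypeChar 2 X)
  psl : RowFor2 (fun X _ => ∃ (F : Type) (_ : Field F) (_ : Fintype F) (n : ℕ), ((2 : ℕ) : F) ≠ 0 ∧ 2 ≤ n ∧
    Nonempty (X ≃* Matrix.ProjectiveSpecialLinearGroup (Fin n) F))
  psp : RowFor2 (fun X _ => ∃ (F : Type) (_ : Field F) (_ : Fintype F) (m : ℕ), ((2 : ℕ) : F) ≠ 0 ∧ 2 ≤ m ∧
    Nonempty (X ≃* PSp m F))
  psu : RowFor2 (fun X _ => ∃ (F : Type) (_ : Field F) (_ : Fintype F) (n q : ℕ), ((2 : ℕ) : F) ≠ 0 ∧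
    Fintype.card F = q ^ 2 ∧ 3 ≤ n ∧ Nonempty (X ≃* PSU n F q))
  oodd : RowFor2 (fun X _ => ∃ (F : Type) (_ : Field F) (_ : Fintype F) (m : ℕ), ((2 : ℕ) : F) ≠ 0 ∧
    3 ≤ m ∧ Odd (Fintype.card F) ∧ Nonempty (X ≃* POmega F (quadFormOdd m F)))
  oplus : RowFor2 (fun X _ => ∃ (F : Type) (_ : Field F) (_ : Fintype F) (m : ℕ), ((2 : ℕ) : F) ≠ 0 ∧
    4 ≤ m ∧ Nonempty (X ≃* POmega F (quadFormPlus m F)))
  ominus : RowFor2 (fun X _ => ∃ (F : Type) (_ : Field F) (_ : Fintype F) (m : ℕ) (a b : F), ((2 : ℕ) : F) ≠ 0 ∧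
    4 ≤ m ∧ (∀ z₁ z₂ : F, z₁ ^ 2 + a * z₁ * z₂ + b * z₂ ^ 2 = 0 → z₁ = 0 ∧ z₂ = 0) ∧
    Nonempty (X ≃* POmega F (quadFormMinus (m - 1) F a b)))
  g2 : RowFor2 (fun X _ => ∃ (F : Type) (_ : Field F) (_ : Fintype F), ((2 : ℕ) : F) ≠ 0 ∧ 3 ≤ Fintype.card F ∧
    Nonempty (X ≃* Lie.chevG2.group F))
  f4 : RowFor2 (fun X _ => ∃ (F : Type) (_ : Field F) (_ : Fintype F), ((2 : ℕ) : F) ≠ 0 ∧
    Nonempty (X ≃* Lie.chevF4.group F))
  e6 : RowFor2 (fun X _ => ∃ (F : Type) (_ : Field F) (_ : Fintype F), ((2 : ℕ) : F) ≠ 0 ∧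
    Nonempty (X ≃* Lie.chevE6.group F))
  e7 : RowFor2 (fun X _ => ∃ (F : Type) (_ : Field F) (_ : Fintype F), ((2 : ℕ) : F) ≠ 0 ∧
    Nonempty (X ≃* Lie.chevE7.group F))
  e8 : RowFor2 (fun X _ => ∃ (F : Type) (_ : Field F) (_ : Fintype F), ((2 : ℕ) : F) ≠ 0 ∧
    Nonempty (X ≃* Lie.chevE8.group F))
  te6 : RowFor2 (fun X _ => ∃ (K : Type) (_ : Field K) (_ : Fintype K) (q : ℕ), ((2 : ℕ) : K) ≠ 0 ∧ IsPrimePow q ∧
    Fintype.card K = q ^ 2 ∧ Nonempty (X ≃* Lie.twistedE6 K q))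
  td4 : RowFor2 (fun X _ => ∃ (K : Type) (_ : Field K) (_ : Fintype K) (q : ℕ), ((2 : ℕ) : K) ≠ 0 ∧ IsPrimePow q ∧
    Fintype.card K = q ^ 3 ∧ Nonempty (X ≃* Lie.twistedD4 K q))
  sz : RowFor2 (fun X _ => Lie.IsoSuzuki X)
  ree : RowFor2 (fun X _ => Lie.IsoRee X)
  tf4 : RowFor2 (fun X _ => Lie.Iso2F4 X)
  tits : RowFor2 (fun X _ => Lie.IsoTits X)
  spor : RowFor2 (fun X _ => IsSporadicGroup X)

namespace RA

section

variable {p : ℕ} [hp : Fact p.Prime] {X : Type} [Group X] [Fintype X] [IsSimpleGroup X]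

theorem of_T {C : ∀ (X : Type) [Group X], Prop} (hC : RowForA p C) (hna : ¬ IsMulCommutative X)
    (hd : p ∣ Nat.card X) (h : C X) : H770.CY.RowA p X := hC X hna hd h

theorem rpsl (R : RowsA p) (hna : ¬ IsMulCommutative X) (hd : p ∣ Nat.card X) (h : IsPSL X) : H770.CY.RowA p X := by
  obtain ⟨F, iF, iN, n, hn, hn2, ⟨e⟩⟩ := h
  by_cases hF : ((p : ℕ) : F) = 0
  · have h1 : IsPSLChar p X := ⟨F, iF, iN, charP_of (p := p) hF, n, hn, hn2, ⟨e⟩⟩
    exact of_T R.lie hna hd (Or.inl h1)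
  · exact of_T R.psl hna hd ⟨F, iF, iN, n, hF, hn, ⟨e⟩⟩

theorem rpsp (R : RowsA p) (hna : ¬ IsMulCommutative X) (hd : p ∣ Nat.card X) (h : IsPSp X) : H770.CY.RowA p X := by
  obtain ⟨F, iF, iN, n, hn, hn2, ⟨e⟩⟩ := h
  by_cases hF : ((p : ℕ) : F) = 0
  · have h1 : IsPSpChar p X := ⟨F, iF, iN, charP_of (p := p) hF, n, hn, hn2, ⟨e⟩⟩
    exact of_T R.lie hna hd (Or.inr (Or.inl h1))
  · exact of_T R.psp hna hd ⟨F, iF, iN, n, hF, hn, ⟨e⟩⟩

theorem rpsu (R : RowsA p) (hna : ¬ IsMulCommutative X) (hd : p ∣ Nat.card X) (h : IsPSU X) : H770.CY.RowA p X := by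
  obtain ⟨F, iF, iN, n, q, hq, hn, hn2, ⟨e⟩⟩ := h
  by_cases hF : ((p : ℕ) : F) = 0
  · have h1 : IsPSUChar p X := ⟨F, iF, iN, charP_of (p := p) hF, n, q, hq, hn, hn2, ⟨e⟩⟩
    exact of_T R.lie hna hd (Or.inr (Or.inr (Or.inl h1)))
  · exact of_T R.psu hna hd ⟨F, iF, iN, n, q, hF, hq, hn, ⟨e⟩⟩

theorem rpodd (R : RowsA p) (hna : ¬ IsMulCommutative X) (hd : p ∣ Nat.card X) (h : IsPOmegaOdd X) : H770.CY.RowA p X := by
  obtain ⟨F, iF, iN, m, hm, hodd, ⟨e⟩⟩ := h
  by_cases hF : ((p : ℕ) : F) = 0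
  · have h1 : IsPOmegaOddChar p X := ⟨F, iF, iN, charP_of (p := p) hF, m, hm, hodd, ⟨e⟩⟩
    exact of_T R.lie hna hd (Or.inr (Or.inr (Or.inr (Or.inl h1))))
  · exact of_T R.oodd hna hd ⟨F, iF, iN, m, hF, hm, hodd, ⟨e⟩⟩

theorem rpplus (R : RowsA p) (hna : ¬ IsMulCommutative X) (hd : p ∣ Nat.card X) (h : IsPOmegaPlus X) : H770.CY.RowA p X := by
  obtain ⟨F, iF, iN, m, hm, ⟨e⟩⟩ := h
  by_cases hF : ((p : ℕ) : F) = 0
  · have h1 : IsPOmegaPlusChar p X := ⟨F, iF, iN, charP_of (p := p) hF, m, hm, ⟨e⟩⟩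
    exact of_T R.lie hna hd (Or.inr (Or.inr (Or.inr (Or.inr (Or.inl h1)))))
  · exact of_T R.oplus hna hd ⟨F, iF, iN, m, hF, hm, ⟨e⟩⟩

theorem rpminus (R : RowsA p) (hna : ¬ IsMulCommutative X) (hd : p ∣ Nat.card X) (h : IsPOmegaMinus X) : H770.CY.RowA p X := by
  obtain ⟨F, iF, iN, m, a, b, hm, hab, ⟨e⟩⟩ := h
  by_cases hF : ((p : ℕ) : F) = 0
  · have h1 : IsPOmegaMinusChar p X := ⟨F, iF, iN, charP_of (p := p) hF, m, a, b, hm, hab, ⟨e⟩⟩
    exact of_T R.lie hna hd (Or.inr (Or.inr (Or.inr (Or.inr (Or.inr (Or.inl h1))))))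
  · exact of_T R.ominus hna hd ⟨F, iF, iN, m, a, b, hF, hm, hab, ⟨e⟩⟩

theorem lie_exc (R : RowsA p) (hna : ¬ IsMulCommutative X) (hd : p ∣ Nat.card X) (h : IsExceptionalChevChar p X) : H770.CY.RowA p X :=
  of_T R.lie hna hd (Or.inr (Or.inr (Or.inr (Or.inr (Or.inr (Or.inr (Or.inl h)))))))

theorem lie_tw (R : RowsA p) (hna : ¬ IsMulCommutative X) (hd : p ∣ Nat.card X) (h : IsTwistedE6D4Char p X) : H770.CY.RowA p X :=
  of_T R.lie hna hd (Or.inr (Or.inr (Or.inr (Or.inr (Or.inr (Or.inr (Or.inr (Or.inl h))))))))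

theorem rexc (R : RowsA p) (hna : ¬ IsMulCommutative X) (hd : p ∣ Nat.card X) (h : IsExceptionalLieType X) : H770.CY.RowA p X := by
  rcases h with h | h | h | h | h | h | h | h | h | h | h
  · obtain ⟨F, iF, iN, h3, ⟨e⟩⟩ := h
    by_cases hF : ((p : ℕ) : F) = 0
    · exact lie_exc R hna hd ⟨F, iF, iN, charP_of (p := p) hF, Or.inl ⟨h3, ⟨e⟩⟩⟩
    · exact of_T R.g2 hna hd ⟨F, iF, iN, hF, h3, ⟨e⟩⟩
  · obtain ⟨F, iF, iN, ⟨e⟩⟩ := h
    by_cases hF : ((p : ℕ) : F) = 0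
    · exact lie_exc R hna hd ⟨F, iF, iN, charP_of (p := p) hF, Or.inr (Or.inl ⟨e⟩)⟩
    · exact of_T R.f4 hna hd ⟨F, iF, iN, hF, ⟨e⟩⟩
  · obtain ⟨F, iF, iN, ⟨e⟩⟩ := h
    by_cases hF : ((p : ℕ) : F) = 0
    · exact lie_exc R hna hd ⟨F, iF, iN, charP_of (p := p) hF, Or.inr (Or.inr (Or.inl ⟨e⟩))⟩
    · exact of_T R.e6 hna hd ⟨F, iF, iN, hF, ⟨e⟩⟩
  · obtain ⟨F, iF, iN, ⟨e⟩⟩ := h
    by_cases hF : ((p : ℕ) : F) = 0
    · exact lie_exc R hna hd ⟨F, iF, iN, charP_of (p := p) hF, Or.inr (Or.inr (Or.inr (Or.inl ⟨e⟩)))⟩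
    · exact of_T R.e7 hna hd ⟨F, iF, iN, hF, ⟨e⟩⟩
  · obtain ⟨F, iF, iN, ⟨e⟩⟩ := h
    by_cases hF : ((p : ℕ) : F) = 0
    · exact lie_exc R hna hd ⟨F, iF, iN, charP_of (p := p) hF, Or.inr (Or.inr (Or.inr (Or.inr ⟨e⟩)))⟩
    · exact of_T R.e8 hna hd ⟨F, iF, iN, hF, ⟨e⟩⟩
  · obtain ⟨K, iF, iN, q, hq, hK, ⟨e⟩⟩ := h
    by_cases hF : ((p : ℕ) : K) = 0
    · exact lie_tw R hna hd ⟨K, iF, iN, charP_of (p := p) hF, q, hq, Or.inl ⟨hK, ⟨e⟩⟩⟩
    · exact of_T R.te6 hna hd ⟨K, iF, iN, q, hF, hq, hK, ⟨e⟩⟩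
  · obtain ⟨K, iF, iN, q, hq, hK, ⟨e⟩⟩ := h
    by_cases hF : ((p : ℕ) : K) = 0
    · exact lie_tw R hna hd ⟨K, iF, iN, charP_of (p := p) hF, q, hq, Or.inr ⟨hK, ⟨e⟩⟩⟩
    · exact of_T R.td4 hna hd ⟨K, iF, iN, q, hF, hq, hK, ⟨e⟩⟩
  · exact of_T R.sz hna hd h
  · by_cases hp3 : p = 3
    · exact of_T R.lie hna hd (Or.inr (Or.inr (Or.inr (Or.inr (Or.inr (Or.inr (Or.inr (Or.inr (Or.inr (Or.inr
        ⟨hp3, h⟩))))))))))
    · exact of_T (R.ree hp3) hna hd h
  · exact of_T R.tf4 hna hd h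
  · exact of_T R.tits hna hd h

end

end RA

/-- **the dispatch** -/
theorem rowA_known {p : ℕ} [Fact p.Prime] (R : RowsA p) {G : Type u} [Group G] [Fintype G] [IsSimpleGroup G]
    (hna : ¬ IsMulCommutative G) (hd : p ∣ Nat.card G) (hk : IsKnownSimple' G) : H770.CY.RowA p G := by
  have e : G ≃* Shrink.{0} G := (Shrink.mulEquiv.{0}).symm
  have hf : Finite (Shrink.{0} G) := Finite.of_equiv _ e.toEquiv
  have hf' : Fintype (Shrink.{0} G) := Fintype.ofFinite _
  have hs : IsSimpleGroup (Shrink.{0} G) := e.symm.isSimpleGroup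
  have h1 := nonab_congr e hna
  have h2 : p ∣ Nat.card (Shrink.{0} G) := by rwa [← Nat.card_congr e.toEquiv]
  refine RowA.congr e ?_
  rcases OddHalf.Known.isKnownSimple'_congr e hna hk with h | h | h | h | h | h | h | h | h | h
  · exfalso
    have h3 : (Nat.card (Shrink.{0} G)).Prime := h
    have : Fact (Nat.card (Shrink.{0} G)).Prime := ⟨h3⟩
    have hc : IsCyclic (Shrink.{0} G) := isCyclic_of_prime_card rfl
    exact h1 ⟨⟨fun a b => by
      let _ : CommGroup (Shrink.{0} G) := IsCyclic.commGroup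
      exact mul_comm a b⟩⟩
  · exact RA.of_T R.alt h1 h2 h
  · exact RA.rpsl R h1 h2 h
  · exact RA.rpsp R h1 h2 h
  · exact RA.rpsu R h1 h2 h
  · exact RA.rpodd R h1 h2 h
  · exact RA.rpplus R h1 h2 h
  · exact RA.rpminus R h1 h2 h
  · exact RA.rexc R h1 h2 h
  · exact RA.of_T R.spor h1 h2 h

namespace RB

section

variable {X : Type} [Group X] [Finite X] [IsSimpleGroup X]

theorem of_T {C : ∀ (X : Type) [Group X], Prop} (hC : RowFor2 C) (hna : ¬ IsMulCommutative X)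
    (h : C X) : Row2 X := hC X hna h

theorem rpsl (R : Rows2) (hna : ¬ IsMulCommutative X) (h : IsPSL X) : Row2 X := by
  obtain ⟨F, iF, iN, n, hn, hn2, ⟨e⟩⟩ := h
  by_cases hF : ((2 : ℕ) : F) = 0
  · have h1 : IsPSLChar 2 X := ⟨F, iF, iN, charP_of (p := 2) hF, n, hn, hn2, ⟨e⟩⟩
    exact of_T R.lie hna (Or.inl h1)
  · exact of_T R.psl hna ⟨F, iF, iN, n, hF, hn, ⟨e⟩⟩

theorem rpsp (R : Rows2) (hna : ¬ IsMulCommutative X) (h : IsPSp X) : Row2 X := by
  obtain ⟨F, iF, iN, n, hn, hn2, ⟨e⟩⟩ := h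
  by_cases hF : ((2 : ℕ) : F) = 0
  · have h1 : IsPSpChar 2 X := ⟨F, iF, iN, charP_of (p := 2) hF, n, hn, hn2, ⟨e⟩⟩
    exact of_T R.lie hna (Or.inr (Or.inl h1))
  · exact of_T R.psp hna ⟨F, iF, iN, n, hF, hn, ⟨e⟩⟩

theorem rpsu (R : Rows2) (hna : ¬ IsMulCommutative X) (h : IsPSU X) : Row2 X := by
  obtain ⟨F, iF, iN, n, q, hq, hn, hn2, ⟨e⟩⟩ := h
  by_cases hF : ((2 : ℕ) : F) = 0
  · have h1 : IsPSUChar 2 X := ⟨F, iF, iN, charP_of (p := 2) hF, n, q, hq, hn, hn2, ⟨e⟩⟩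
    exact of_T R.lie hna (Or.inr (Or.inr (Or.inl h1)))
  · exact of_T R.psu hna ⟨F, iF, iN, n, q, hF, hq, hn, ⟨e⟩⟩

theorem rpodd (R : Rows2) (hna : ¬ IsMulCommutative X) (h : IsPOmegaOdd X) : Row2 X := by
  obtain ⟨F, iF, iN, m, hm, hodd, ⟨e⟩⟩ := h
  by_cases hF : ((2 : ℕ) : F) = 0
  · have h1 : IsPOmegaOddChar 2 X := ⟨F, iF, iN, charP_of (p := 2) hF, m, hm, hodd, ⟨e⟩⟩
    exact of_T R.lie hna (Or.inr (Or.inr (Or.inr (Or.inl h1))))
  · exact of_T R.oodd hna ⟨F, iF, iN, m, hF, hm, hodd, ⟨e⟩⟩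

theorem rpplus (R : Rows2) (hna : ¬ IsMulCommutative X) (h : IsPOmegaPlus X) : Row2 X := by
  obtain ⟨F, iF, iN, m, hm, ⟨e⟩⟩ := h
  by_cases hF : ((2 : ℕ) : F) = 0
  · have h1 : IsPOmegaPlusChar 2 X := ⟨F, iF, iN, charP_of (p := 2) hF, m, hm, ⟨e⟩⟩
    exact of_T R.lie hna (Or.inr (Or.inr (Or.inr (Or.inr (Or.inl h1)))))
  · exact of_T R.oplus hna ⟨F, iF, iN, m, hF, hm, ⟨e⟩⟩

theorem rpminus (R : Rows2) (hna : ¬ IsMulCommutative X) (h : IsPOmegaMinus X) : Row2 X := by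
  obtain ⟨F, iF, iN, m, a, b, hm, hab, ⟨e⟩⟩ := h
  by_cases hF : ((2 : ℕ) : F) = 0
  · have h1 : IsPOmegaMinusChar 2 X := ⟨F, iF, iN, charP_of (p := 2) hF, m, a, b, hm, hab, ⟨e⟩⟩
    exact of_T R.lie hna (Or.inr (Or.inr (Or.inr (Or.inr (Or.inr (Or.inl h1))))))
  · exact of_T R.ominus hna ⟨F, iF, iN, m, a, b, hF, hm, hab, ⟨e⟩⟩

theorem lie_exc (R : Rows2) (hna : ¬ IsMulCommutative X) (h : IsExceptionalChevChar 2 X) : Row2 X :=
  of_T R.lie hna (Or.inr (Or.inr (Or.inr (Or.inr (Or.inr (Or.inr (Or.inl h)))))))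

theorem lie_tw (R : Rows2) (hna : ¬ IsMulCommutative X) (h : IsTwistedE6D4Char 2 X) : Row2 X :=
  of_T R.lie hna (Or.inr (Or.inr (Or.inr (Or.inr (Or.inr (Or.inr (Or.inr (Or.inl h))))))))

theorem rexc (R : Rows2) (hna : ¬ IsMulCommutative X) (h : IsExceptionalLieType X) : Row2 X := by
  rcases h with h | h | h | h | h | h | h | h | h | h | h
  · obtain ⟨F, iF, iN, h3, ⟨e⟩⟩ := h
    by_cases hF : ((2 : ℕ) : F) = 0
    · exact lie_exc R hna ⟨F, iF, iN, charP_of (p := 2) hF, Or.inl ⟨h3, ⟨e⟩⟩⟩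
    · exact of_T R.g2 hna ⟨F, iF, iN, hF, h3, ⟨e⟩⟩
  · obtain ⟨F, iF, iN, ⟨e⟩⟩ := h
    by_cases hF : ((2 : ℕ) : F) = 0
    · exact lie_exc R hna ⟨F, iF, iN, charP_of (p := 2) hF, Or.inr (Or.inl ⟨e⟩)⟩
    · exact of_T R.f4 hna ⟨F, iF, iN, hF, ⟨e⟩⟩
  · obtain ⟨F, iF, iN, ⟨e⟩⟩ := h
    by_cases hF : ((2 : ℕ) : F) = 0
    · exact lie_exc R hna ⟨F, iF, iN, charP_of (p := 2) hF, Or.inr (Or.inr (Or.inl ⟨e⟩))⟩
    · exact of_T R.e6 hna ⟨F, iF, iN, hF, ⟨e⟩⟩
  · obtain ⟨F, iF, iN, ⟨e⟩⟩ := h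
    by_cases hF : ((2 : ℕ) : F) = 0
    · exact lie_exc R hna ⟨F, iF, iN, charP_of (p := 2) hF, Or.inr (Or.inr (Or.inr (Or.inl ⟨e⟩)))⟩
    · exact of_T R.e7 hna ⟨F, iF, iN, hF, ⟨e⟩⟩
  · obtain ⟨F, iF, iN, ⟨e⟩⟩ := h
    by_cases hF : ((2 : ℕ) : F) = 0
    · exact lie_exc R hna ⟨F, iF, iN, charP_of (p := 2) hF, Or.inr (Or.inr (Or.inr (Or.inr ⟨e⟩)))⟩
    · exact of_T R.e8 hna ⟨F, iF, iN, hF, ⟨e⟩⟩
  · obtain ⟨K, iF, iN, q, hq, hK, ⟨e⟩⟩ := h
    by_cases hF : ((2 : ℕ) : K) = 0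
    · exact lie_tw R hna ⟨K, iF, iN, charP_of (p := 2) hF, q, hq, Or.inl ⟨hK, ⟨e⟩⟩⟩
    · exact of_T R.te6 hna ⟨K, iF, iN, q, hF, hq, hK, ⟨e⟩⟩
  · obtain ⟨K, iF, iN, q, hq, hK, ⟨e⟩⟩ := h
    by_cases hF : ((2 : ℕ) : K) = 0
    · exact lie_tw R hna ⟨K, iF, iN, charP_of (p := 2) hF, q, hq, Or.inr ⟨hK, ⟨e⟩⟩⟩
    · exact of_T R.td4 hna ⟨K, iF, iN, q, hF, hq, hK, ⟨e⟩⟩
  · exact of_T R.sz hna h
  · exact of_T R.ree hna h
  · exact of_T R.tf4 hna h
  · exact of_T R.tits hna h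

end

end RB

/-- **the dispatch** -/
theorem row2_known (R : Rows2) {G : Type u} [Group G] [Finite G] [IsSimpleGroup G]
    (hna : ¬ IsMulCommutative G) (hk : IsKnownSimple' G) : Row2 G := by
  have e : G ≃* Shrink.{0} G := (Shrink.mulEquiv.{0}).symm
  have hf : Finite (Shrink.{0} G) := Finite.of_equiv _ e.toEquiv
  have hs : IsSimpleGroup (Shrink.{0} G) := e.symm.isSimpleGroup
  have h1 := nonab_congr e hna
  refine Row2.congr e ?_
  rcases OddHalf.Known.isKnownSimple'_congr e hna hk with h | h | h | h | h | h | h | h | h | h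
  · exfalso
    have h3 : (Nat.card (Shrink.{0} G)).Prime := h
    have : Fact (Nat.card (Shrink.{0} G)).Prime := ⟨h3⟩
    have hc : IsCyclic (Shrink.{0} G) := isCyclic_of_prime_card rfl
    exact h1 ⟨⟨fun a b => by
      let _ : CommGroup (Shrink.{0} G) := IsCyclic.commGroup
      exact mul_comm a b⟩⟩
  · exact RB.of_T R.alt h1 h
  · exact RB.rpsl R h1 h
  · exact RB.rpsp R h1 h
  · exact RB.rpsu R h1 h
  · exact RB.rpodd R h1 h
  · exact RB.rpplus R h1 h
  · exact RB.rpminus R h1 h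
  · exact RB.rexc R h1 h
  · exact RB.of_T R.spor h1 h

/-- **all simple groups**, from the rows and the classification -/
theorem rowA_all {p : ℕ} [Fact p.Prime] (R : RowsA p)
    (hcfsg : ∀ (G : Type u) [Group G] [Finite G] [IsSimpleGroup G], IsKnownSimple' G)
    (S : Type u) [Group S] [Fintype S] [IsSimpleGroup S] (hna : ¬ IsMulCommutative S)
    (hd : p ∣ Nat.card S) : H770.CY.RowA p S :=
  rowA_known R hna hd (hcfsg S)

end Cfsg.Agent.H776.CY
end

-- part: H637/CY/Alt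
section
/-!
# S4829, `p = 2`: the alternating groups of degree at least 7 (helper637)

The characters `(n-1,1)`, `(n-2,2)`, `(n-2,1,1)` of `S_n` for `n` even, `n ≡ 1`, `n ≡ 3` modulo 4.
-/

set_option autoImplicit false

namespace Cfsg.Agent.H637.CY

open Cfsg Cfsg.Agent.H601.R2 Cfsg.Agent.H770.CY Cfsg.Agent.H621.AltChar MulAction
open Cfsg.Agent.Characters.Core Cfsg.Agent.Characters

universe u v

/-- transport of the witness -/
theorem RatInv.congr {X : Type u} {Y : Type v} [Group X] [Group Y] (e : X ≃* Y) {B : Subgroup (MulAut X)}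
    (h : RatInv Y (B.map (MulAut.congr e).toMonoidHom)) : RatInv X B := by
  obtain ⟨χ, h1, h2, ⟨d, hd, hd1⟩, h3, h4⟩ := h
  refine ⟨χ ∘ e, isIrr_comp (e : X →* Y) e.surjective h1, ?_, ⟨d, hd, ?_⟩, fun g => h3 (e g), ?_⟩
  · intro h5
    apply h2
    funext y
    have := congrFun h5 (e.symm y)
    simpa using this
  · rw [Function.comp_apply, map_one, hd1]
  · intro b hb x
    have h5 := h4 (MulAut.congr e b) (Subgroup.mem_map_of_mem _ hb) (e x)
    have h6 : (MulAut.congr e b) (e x) = e (b x) := by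
      show e (b (e.symm (e x))) = _
      rw [e.symm_apply_apply]
    rw [h6] at h5
    exact h5

/-- the forms of the three characters -/
theorem inv_of_form {n : ℕ} (hn : 7 ≤ n) (f : ℕ → ℕ → ℂ) (a : MulAut (alternatingGroup (Fin n)))
    (x : alternatingGroup (Fin n)) :
    f (nf (Fin n) (a x)) (nu (Fin n) (a x)) = f (nf (Fin n) x) (nu (Fin n) x) := by
  obtain ⟨σ, rfl⟩ := (S2119.result n (by omega) (by omega)).2 a
  have h1 : ((MulAut.conjNormal σ x : alternatingGroup (Fin n)) : Equiv.Perm (Fin n)) = σ * x * σ⁻¹ :=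
    MulAut.conjNormal_apply σ x
  have h2 : ∀ j : Fin n, (MulAut.conjNormal σ x : alternatingGroup (Fin n)) • j = σ ((x : Equiv.Perm (Fin n)) (σ⁻¹ j)) := by
    intro j
    show ((MulAut.conjNormal σ x : alternatingGroup (Fin n)) : Equiv.Perm (Fin n)) j = _
    rw [h1]
    rfl
  have h3 : ∀ j : Fin n, x • j = (x : Equiv.Perm (Fin n)) j := fun j => rfl
  have hf : nf (Fin n) (MulAut.conjNormal σ x : alternatingGroup (Fin n)) = nf (Fin n) x := by
    unfold nf
    refine Nat.card_congr (Equiv.subtypeEquiv σ⁻¹ fun j => ?_)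
    rw [h2, h3]
    constructor
    · intro h
      exact (Equiv.Perm.eq_inv_iff_eq).2 h
    · intro h
      rw [h]
      exact σ.apply_symm_apply j
  have hu : nu (Fin n) (MulAut.conjNormal σ x : alternatingGroup (Fin n)) = nu (Fin n) x := by
    unfold nu
    refine Nat.card_congr (Equiv.subtypeEquiv σ⁻¹ fun j => ?_)
    have h4 : σ⁻¹ (σ ((x : Equiv.Perm (Fin n)) (σ⁻¹ j))) = (x : Equiv.Perm (Fin n)) (σ⁻¹ j) :=
      σ.symm_apply_apply _
    rw [h2, h2]
    simp only [h3]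
    rw [h4]
    constructor
    · rintro ⟨h, h'⟩
      exact ⟨fun h5 => h ((Equiv.Perm.eq_inv_iff_eq).1 h5), (Equiv.Perm.eq_inv_iff_eq).2 h'⟩
    · rintro ⟨h, h'⟩
      exact ⟨fun h5 => h ((Equiv.Perm.eq_inv_iff_eq).2 h5), (Equiv.Perm.eq_inv_iff_eq).1 h'⟩
  rw [hf, hu]

theorem ratInv_alt {n : ℕ} (hn : 7 ≤ n) (B : Subgroup (MulAut (alternatingGroup (Fin n)))) :
    RatInv (alternatingGroup (Fin n)) B := by
  classical
  have h1 : IsMultiplyPretransitive (alternatingGroup (Fin n)) (Fin n) (Nat.card (Fin n) - 2) :=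
    alternatingGroup.isMultiplyPretransitive (Fin n)
  have h2 : IsMultiplyPretransitive (alternatingGroup (Fin n)) (Fin n) 4 :=
    isMultiplyPretransitive_of_le (n := Nat.card (Fin n) - 2) (by rw [Nat.card_fin]; omega)
      (Nat.sub_le _ _)
  rcases Nat.even_or_odd n with he | ho
  · -- `n` even
    have h3 := irr_one (G := alternatingGroup (Fin n)) (Ω := Fin n) (by rw [Nat.card_fin]; omega) h2
    have hone : (fun g : alternatingGroup (Fin n) => (nf (Fin n) g : ℂ) - 1) 1 = ((n - 1 : ℕ) : ℂ) := by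
      simp only
      rw [nf_one, Nat.card_fin, Nat.cast_sub (by omega)]
      norm_num
    refine ⟨_, h3, ?_, ⟨_, ?_, hone⟩, fun g => ⟨(nf (Fin n) g : ℚ) - 1, by push_cast; rfl⟩, ?_⟩
    · intro h5
      have h6 := hone.symm.trans (congrFun h5 1)
      rw [Pi.one_apply] at h6
      have h7 : n - 1 = 1 := by exact_mod_cast h6
      omega
    · obtain ⟨r, hr⟩ := he
      exact ⟨r - 1, by omega⟩
    · intro b _ x
      exact inv_of_form hn (fun i _ => (i : ℂ) - 1) b x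
  · rw [Nat.odd_iff] at ho
    by_cases h4 : n % 4 = 1
    · have h3 := irr_a (alternatingGroup (Fin n)) (Fin n) (by rw [Nat.card_fin]; omega) h2
      have hone : ((fun g : alternatingGroup (Fin n) => ((nf (Fin n) g : ℂ) ^ 2 - 3 * nf (Fin n) g + nu (Fin n) g) / 2)) 1
          = ((n * ((n - 3) / 2) : ℕ) : ℂ) := by
        simp only
        rw [nf_one, nu_one, Nat.card_fin]
        have h5 : ((n : ℕ) : ℂ) = 2 * ((n - 3) / 2 : ℕ) + 3 := by
          have : n = 2 * ((n - 3) / 2) + 3 := by (clear * - hn h4; omega)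
          exact_mod_cast this
        push_cast
        generalize (((n - 3) / 2 : ℕ) : ℂ) = t at h5
        rw [h5]
        ring
      refine ⟨_, h3, ?_, ⟨_, ?_, hone⟩, fun g => ⟨(((nf (Fin n) g : ℚ)) ^ 2 - 3 * nf (Fin n) g + nu (Fin n) g) / 2, by
        push_cast; rfl⟩, ?_⟩
      · intro h5
        have h6 := hone.symm.trans (congrFun h5 1)
        rw [Pi.one_apply] at h6
        have h7 : n * ((n - 3) / 2) = 1 := by exact_mod_cast h6
        have h8 := Nat.eq_one_of_mul_eq_one_right h7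
        omega
      · rw [Nat.odd_mul]
        constructor
        · rw [Nat.odd_iff]; omega
        · rw [Nat.odd_iff]; (clear * - hn h4; omega)
      · intro b _ x
        exact inv_of_form hn (fun i j => ((i : ℂ) ^ 2 - 3 * i + j) / 2) b x
    · have h3 := irr_b (alternatingGroup (Fin n)) (Fin n) (by rw [Nat.card_fin]; omega) h2
      have hone : ((fun g : alternatingGroup (Fin n) =>
          ((nf (Fin n) g : ℂ) ^ 2 - 3 * nf (Fin n) g + 2 - nu (Fin n) g) / 2)) 1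
          = (((n - 2) * ((n - 1) / 2) : ℕ) : ℂ) := by
        simp only
        rw [nf_one, nu_one, Nat.card_fin]
        have h5 : ((n : ℕ) : ℂ) = 2 * ((n - 1) / 2 : ℕ) + 1 := by
          have : n = 2 * ((n - 1) / 2) + 1 := by omega
          exact_mod_cast this
        have h6 : ((n - 2 : ℕ) : ℂ) = (n : ℂ) - 2 := by
          rw [Nat.cast_sub (by omega)]
          norm_num
        push_cast
        rw [h6]
        generalize (((n - 1) / 2 : ℕ) : ℂ) = t at h5
        rw [h5]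
        ring
      refine ⟨_, h3, ?_, ⟨_, ?_, hone⟩, fun g => ⟨(((nf (Fin n) g : ℚ)) ^ 2 - 3 * nf (Fin n) g + 2 - nu (Fin n) g) / 2, by
        push_cast; rfl⟩, ?_⟩
      · intro h5
        have h6 := hone.symm.trans (congrFun h5 1)
        rw [Pi.one_apply] at h6
        have h7 : (n - 2) * ((n - 1) / 2) = 1 := by exact_mod_cast h6
        have h8 := Nat.eq_one_of_mul_eq_one_right h7
        omega
      · rw [Nat.odd_mul]
        constructor
        · rw [Nat.odd_iff]; omega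
        · rw [Nat.odd_iff]; omega
      · intro b _ x
        exact inv_of_form hn (fun i j => ((i : ℂ) ^ 2 - 3 * i + 2 - j) / 2) b x

/-- **`Row2` for the alternating groups of degree at least 7** -/
theorem row2_alt {n : ℕ} (hn : 7 ≤ n) {K : Type u} [Group K] [Finite K]
    (h : Nonempty (K ≃* alternatingGroup (Fin n))) : Row2 K := by
  obtain ⟨e⟩ := h
  exact row2_of fun B _ => RatInv.congr e (ratInv_alt hn _)

end Cfsg.Agent.H637.CY
end

-- part: H637/CY/Pow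
section
/-!
# S4829, `p = 2`: the power map lemma (T1) (helper637)

* `ratInv_of_pow` : if the power maps of odd order fix all nontrivial irreducible characters of odd degree then every
  `2`-group of automorphisms fixes a rational valued one;
* `row2_of_isConj` : in particular if `x ^ k` is conjugate to `x` for all `k` of odd order modulo `|S|`.
-/

set_option autoImplicit false

namespace Cfsg.Agent.H637.CY

open Cfsg Cfsg.Agent.H601.R2 Cfsg.Agent.H770.CY Cfsg.Agent.H636.Gow Cfsg.Agent.H707.OddLift MulAction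
open Cfsg.Agent.Characters.Core Cfsg.Agent.Characters

universe u

section

variable {S : Type u} [Group S] [Finite S]

theorem deg_of (χ : IrrCharacter S) : ∃ d : ℕ, (χ : S → ℂ) 1 = d := by
  obtain ⟨d, -, hd⟩ := isIrr_apply_one χ.2
  exact ⟨d, hd⟩

/-- the number of nontrivial irreducible characters of odd degree is odd -/
theorem odd_card_odd (heven : Even (Nat.card S)) :
    Odd (Nat.card {χ : IrrCharacter S // (χ : S → ℂ) ≠ 1 ∧ OddDeg (χ : S → ℂ)}) := by
  classical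
  have := Fintype.ofFinite S
  have := finite_irr (G := S)
  have := Fintype.ofFinite (IrrCharacter S)
  choose d hd using deg_of (S := S)
  have hsum : ∑ χ : IrrCharacter S, (d χ : ℤ) ^ 2 = Nat.card S := by
    have h := S0145.sum_irr_mul_conj (G := S) 1 1
    rw [if_pos (IsConj.refl 1)] at h
    have h2 : Nat.card (Subgroup.centralizer ({1} : Set S)) = Nat.card S := by
      have : Subgroup.centralizer ({1} : Set S) = ⊤ := by
        rw [eq_top_iff]
        intro g _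
        rw [Subgroup.mem_centralizer_iff]
        rintro _ rfl
        simp
      rw [this, Nat.card_congr Subgroup.topEquiv.toEquiv]
    rw [h2] at h
    have h3 : ((∑ χ : IrrCharacter S, (d χ : ℤ) ^ 2 : ℤ) : ℂ) = ((Nat.card S : ℤ) : ℂ) := by
      push_cast
      rw [← h]
      refine Finset.sum_congr rfl fun χ _ => ?_
      rw [hd]
      simp [sq]
    exact_mod_cast h3
  have h4 : ¬ Odd (∑ χ : IrrCharacter S, (d χ : ℤ) ^ 2) := by
    rw [hsum, Int.not_odd_iff_even]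
    exact_mod_cast heven
  rw [odd_int_sum, Nat.not_odd_iff_even] at h4
  have hU : ∀ χ : IrrCharacter S, OddDeg (χ : S → ℂ) ↔ Odd ((d χ : ℤ) ^ 2) := by
    intro χ
    rw [Int.odd_pow' two_ne_zero, Int.odd_coe_nat]
    constructor
    · rintro ⟨e, he, h⟩
      rw [hd] at h
      have : d χ = e := by exact_mod_cast h
      rwa [this]
    · exact fun h => ⟨d χ, h, hd χ⟩
  obtain ⟨t, ht⟩ : ∃ t : IrrCharacter S, t = ⟨1, isIrr_one⟩ := ⟨_, rfl⟩
  have htU : t ∈ Finset.univ.filter (fun χ : IrrCharacter S => Odd ((d χ : ℤ) ^ 2)) := by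
    rw [Finset.mem_filter]
    refine ⟨Finset.mem_univ _, (hU t).1 ⟨1, odd_one, ?_⟩⟩
    rw [ht]
    simp
  have hcard : Nat.card {χ : IrrCharacter S // (χ : S → ℂ) ≠ 1 ∧ OddDeg (χ : S → ℂ)} =
      ((Finset.univ.filter (fun χ : IrrCharacter S => Odd ((d χ : ℤ) ^ 2))).erase t).card := by
    rw [Nat.card_eq_fintype_card, Fintype.card_subtype]
    congr 1
    ext χ
    rw [Finset.mem_filter, Finset.mem_erase, Finset.mem_filter, hU]
    constructor
    · rintro ⟨-, h1, h2⟩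
      exact ⟨fun h => h1 (by rw [h, ht]), Finset.mem_univ _, h2⟩
    · rintro ⟨h1, -, h2⟩
      refine ⟨Finset.mem_univ _, fun h => h1 ?_, h2⟩
      rw [ht]
      exact Subtype.ext h
  rw [hcard, Finset.card_erase_of_mem htU]
  obtain ⟨r, hr⟩ := h4
  have hpos : 0 < (Finset.univ.filter (fun χ : IrrCharacter S => Odd ((d χ : ℤ) ^ 2))).card :=
    Finset.card_pos.2 ⟨t, htU⟩
  exact ⟨r - 1, by omega⟩

/-- the characters fixed by `B` -/
def TB (B : Subgroup (MulAut S)) : Type u :=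
  {χ : IrrCharacter S // ((χ : S → ℂ) ≠ 1 ∧ OddDeg (χ : S → ℂ)) ∧ ∀ b ∈ B, ∀ x : S, (χ : S → ℂ) (b x) = (χ : S → ℂ) x}

theorem odd_card_TB (heven : Even (Nat.card S)) {B : Subgroup (MulAut S)} (hB : IsPGroup 2 B) :
    Odd (Nat.card (TB B)) := by
  classical
  have := finite_irr (G := S)
  have hst : ∀ (a : MulAut S) (χ : {χ : IrrCharacter S // (χ : S → ℂ) ≠ 1 ∧ OddDeg (χ : S → ℂ)}),
      ((fun x => (χ.1 : S → ℂ) (a⁻¹ x)) : S → ℂ) ≠ 1 ∧ OddDeg ((fun x => (χ.1 : S → ℂ) (a⁻¹ x)) : S → ℂ) := by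
    intro a χ
    constructor
    · intro h
      apply χ.2.1
      funext y
      have h1 := congrFun h (a y)
      simp only [MulAut.inv_apply_self] at h1
      exact h1
    · obtain ⟨d, hd, h1⟩ := χ.2.2
      exact ⟨d, hd, by simp only [map_one]; exact h1⟩
  let act : MulAction ↥B {χ : IrrCharacter S // (χ : S → ℂ) ≠ 1 ∧ OddDeg (χ : S → ℂ)} :=
    { smul := fun b χ => ⟨⟨fun x => (χ.1 : S → ℂ) ((b : MulAut S)⁻¹ x),
        isIrr_comp ((b : MulAut S)⁻¹ : MulAut S).toMonoidHom ((b : MulAut S)⁻¹ : MulAut S).surjective χ.1.2⟩, hst b χ⟩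
      one_smul := by
        intro χ
        apply Subtype.ext
        apply Subtype.ext
        funext x
        show (χ.1 : S → ℂ) ((((1 : B) : MulAut S)⁻¹ : MulAut S) x) = (χ.1 : S → ℂ) x
        simp only [_root_.ne_eq, _root_.OneMemClass.coe_one, _root_.inv_one, _root_.MulAut.one_apply]
      mul_smul := by
        intro a b χ
        apply Subtype.ext
        apply Subtype.ext
        funext x
        show (χ.1 : S → ℂ) ((((a * b : B) : MulAut S)⁻¹ : MulAut S) x) =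
          (χ.1 : S → ℂ) (((b : MulAut S)⁻¹ : MulAut S) (((a : MulAut S)⁻¹ : MulAut S) x))
        rw [Subgroup.coe_mul, mul_inv_rev, MulAut.mul_apply] }
  have h1 := hB.card_modEq_card_fixedPoints {χ : IrrCharacter S // (χ : S → ℂ) ≠ 1 ∧ OddDeg (χ : S → ℂ)}
  have h2 : Nat.card (TB B) =
      Nat.card (fixedPoints ↥B {χ : IrrCharacter S // (χ : S → ℂ) ≠ 1 ∧ OddDeg (χ : S → ℂ)}) := by
    refine Nat.card_congr ⟨fun χ => ⟨⟨χ.1, χ.2.1⟩, ?_⟩, fun χ => ⟨χ.1.1, χ.1.2, ?_⟩, fun _ => rfl, fun _ => rfl⟩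
    · intro b
      apply Subtype.ext
      apply Subtype.ext
      funext x
      exact χ.2.2 _ (B.inv_mem b.2) x
    · intro b hb x
      have h3 := χ.2 ⟨b⁻¹, B.inv_mem hb⟩
      have h4 := congrFun (congrArg (fun y : {χ : IrrCharacter S // (χ : S → ℂ) ≠ 1 ∧ OddDeg (χ : S → ℂ)} =>
        (y.1 : S → ℂ)) h3) x
      have h5 : (χ.1.1 : S → ℂ) (((b⁻¹)⁻¹ : MulAut S) x) = (χ.1.1 : S → ℂ) x := h4
      rwa [inv_inv] at h5
  rw [h2, Nat.odd_iff]
  have h3 := Nat.odd_iff.1 (odd_card_odd heven)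
  rw [← h3]
  exact h1.symm

/-- **Power maps of odd order.** -/
theorem ratInv_of_pow (heven : Even (Nat.card S)) {B : Subgroup (MulAut S)} (hB : IsPGroup 2 B)
    (hpow : ∀ χ : IrrCharacter S, (χ : S → ℂ) ≠ 1 → OddDeg (χ : S → ℂ) →
      ∀ k : ℕ, k.Coprime (Nat.card S) → (∃ m : ℕ, Odd m ∧ k ^ m ≡ 1 [MOD Nat.card S]) →
        ∀ g : S, (χ : S → ℂ) (g ^ k) = (χ : S → ℂ) g) : RatInv S B := by
  classical
  have := finite_irr (G := S)
  have hfT : Finite (TB B) := Subtype.finite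
  let _ := H707.Block.powAct (G := S)
  have hst : ∀ (u : (ZMod (Nat.card S))ˣ) (χ : TB B),
      ((((u • χ.1 : IrrCharacter S) : S → ℂ) ≠ 1 ∧ OddDeg ((u • χ.1 : IrrCharacter S) : S → ℂ)) ∧
        ∀ b ∈ B, ∀ x : S, ((u • χ.1 : IrrCharacter S) : S → ℂ) (b x) = ((u • χ.1 : IrrCharacter S) : S → ℂ) x) := by
    intro u χ
    obtain ⟨⟨h1, d, hd, hd1⟩, h2⟩ := χ.2
    refine ⟨⟨fun h => h1 ?_, d, hd, ?_⟩, fun b hb x => ?_⟩
    · have h3 : (u⁻¹ • (u • χ.1) : IrrCharacter S) = χ.1 := inv_smul_smul u χ.1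
      rw [← h3]
      funext g
      rw [H707.Block.pow_smul_apply, congrFun h]
      rfl
    · rw [H707.Block.pow_smul_apply, one_pow, hd1]
    · rw [H707.Block.pow_smul_apply, H707.Block.pow_smul_apply, ← map_pow]
      exact h2 b hb _
  let _ : MulAction (ZMod (Nat.card S))ˣ (TB B) :=
    { smul := fun u χ => ⟨u • χ.1, hst u χ⟩
      one_smul := fun χ => Subtype.ext (one_smul _ _)
      mul_smul := fun u v χ => Subtype.ext (mul_smul _ _ _) }
  obtain ⟨P⟩ : Nonempty (Sylow 2 (ZMod (Nat.card S))ˣ) := inferInstance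
  have hnz : NeZero (Nat.card S) := ⟨Nat.card_pos.ne'⟩
  obtain ⟨a, ha⟩ := P.2.nonempty_fixed_point_of_prime_not_dvd_card (α := TB B)
    (fun h => (Nat.not_even_iff_odd.2 (odd_card_TB heven hB)) (even_iff_two_dvd.2 h))
  obtain ⟨⟨h2, h3⟩, hinv⟩ := a.2
  -- elements of odd order
  have hoddfix : ∀ u : (ZMod (Nat.card S))ˣ, Odd (orderOf u) → u • a.1 = a.1 := by
    intro u hu
    apply Subtype.ext
    funext g
    rw [H707.Block.pow_smul_apply]
    refine hpow a.1 h2 h3 _ (ZMod.val_coe_unit_coprime u) ⟨orderOf u, hu, ?_⟩ g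
    rw [← ZMod.natCast_eq_natCast_iff]
    push_cast
    rw [ZMod.natCast_zmod_val, ← Units.val_pow_eq_pow_val, pow_orderOf_eq_one, Units.val_one]
  have htwofix : ∀ u : (ZMod (Nat.card S))ˣ, (∃ t : ℕ, orderOf u = 2 ^ t) → u • a.1 = a.1 := by
    rintro u ⟨t, ht⟩
    have hu : u ∈ (P : Subgroup (ZMod (Nat.card S))ˣ) := by
      have h4 : IsPGroup 2 (Subgroup.zpowers u) := IsPGroup.of_card (by rw [Nat.card_zpowers, ht])
      obtain ⟨Q, hQ⟩ := h4.exists_le_sylow
      have h5 : Q = P := by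
        obtain ⟨c, hc⟩ := MulAction.exists_smul_eq (ZMod (Nat.card S))ˣ Q P
        rw [← hc]
        apply Sylow.ext
        rw [Sylow.coe_subgroup_smul]
        exact (Subgroup.Normal.conj_smul_eq_self c _).symm
      rw [← h5]
      exact hQ (Subgroup.mem_zpowers u)
    exact congrArg Subtype.val (ha ⟨u, hu⟩)
  have hfixall : ∀ m : ℕ, m.Coprime (Nat.card S) → ∀ g : S, (a.1 : S → ℂ) (g ^ m) = (a.1 : S → ℂ) g := by
    intro m hm g
    obtain ⟨u, hu⟩ : ∃ u : (ZMod (Nat.card S))ˣ, u = ZMod.unitOfCoprime m hm := ⟨_, rfl⟩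
    have hfix : u • a.1 = a.1 := by
      obtain ⟨t, r, hr, hn⟩ : ∃ t r : ℕ, Odd r ∧ orderOf u = 2 ^ t * r := by
        obtain ⟨t, r, hr, hn⟩ := Nat.exists_eq_two_pow_mul_odd (orderOf_pos u).ne'
        exact ⟨t, r, hr, hn⟩
      have hcop : (2 ^ t).Coprime r := Nat.Coprime.pow_left _ (Nat.coprime_two_left.2 hr)
      have hA : u ^ (2 ^ t) • a.1 = a.1 := by
        apply hoddfix
        rw [orderOf_pow, hn, Nat.gcd_eq_right (Dvd.intro _ rfl), Nat.mul_div_cancel_left _ (by positivity)]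
        exact hr
      have hB : u ^ r • a.1 = a.1 := by
        apply htwofix
        refine ⟨t, ?_⟩
        rw [orderOf_pow, hn, Nat.gcd_eq_right (Dvd.intro_left _ rfl), Nat.mul_div_cancel _ hr.pos]
      have h6 : u ^ (2 ^ t) ∈ MulAction.stabilizer (ZMod (Nat.card S))ˣ a.1 := hA
      have h7 : u ^ r ∈ MulAction.stabilizer (ZMod (Nat.card S))ˣ a.1 := hB
      have h8 : u ∈ MulAction.stabilizer (ZMod (Nat.card S))ˣ a.1 := by
        have h9 := Nat.gcd_eq_gcd_ab (2 ^ t) r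
        rw [Nat.coprime_iff_gcd_eq_one.1 hcop] at h9
        have h10 : u = (u ^ (2 ^ t)) ^ (Nat.gcdA (2 ^ t) r) * (u ^ r) ^ (Nat.gcdB (2 ^ t) r) := by
          rw [← zpow_natCast, ← zpow_natCast, ← zpow_mul, ← zpow_mul, ← zpow_add, ← h9]
          simp
        rw [h10]
        exact mul_mem (zpow_mem h6 _) (zpow_mem h7 _)
      exact h8
    have h11 := congrFun (congrArg Subtype.val hfix) g
    rw [H707.Block.pow_smul_apply, hu, ZMod.coe_unitOfCoprime, ZMod.val_natCast, pow_mod_natCard] at h11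
    exact h11
  refine ⟨a.1, a.1.2, h2, h3, fun g => ?_, hinv⟩
  rw [GaloisBasic.exists_rat_iff (isIrr_isCharacter a.1.2) g]
  exact fun m hm => hfixall m hm g

theorem row2_of_pow (heven : Even (Nat.card S))
    (hpow : ∀ χ : IrrCharacter S, (χ : S → ℂ) ≠ 1 → OddDeg (χ : S → ℂ) →
      ∀ k : ℕ, k.Coprime (Nat.card S) → (∃ m : ℕ, Odd m ∧ k ^ m ≡ 1 [MOD Nat.card S]) →
        ∀ g : S, (χ : S → ℂ) (g ^ k) = (χ : S → ℂ) g) : Row2 S :=
  row2_of fun _ hB => ratInv_of_pow heven hB hpow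

/-- **(T1)** `x ^ k` conjugate to `x` for all `k` of odd order modulo `|S|` -/
theorem row2_of_isConj (heven : Even (Nat.card S))
    (h : ∀ (x : S) (k : ℕ), k.Coprime (Nat.card S) → (∃ m : ℕ, Odd m ∧ k ^ m ≡ 1 [MOD Nat.card S]) →
      IsConj x (x ^ k)) : Row2 S := by
  refine row2_of_pow heven fun χ _ _ k hk hm g => ?_
  exact (classFunction_apply_eq (isIrr_isClassFunction χ.2) (h g k hk hm)).symm

end

end Cfsg.Agent.H637.CY
end

-- part: H637/CY/OP
section
/-!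
# S4829, `p = 2`: elements conjugate to their powers of odd multiplicative order (helper637)

`OP x` : `x` is conjugate to `x ^ k` for all `k` of odd order modulo `|S|`.

* `OP.of_240` : `x ^ 240 = 1`;
* `OP.of_conj` : `x ^ n = 1`, `n ∣ |S|`, `x` conjugate to `x ^ j`, `j` generates the odd part of `(ℤ / n)ˣ` (a check);
* `row2_of_OP`.
-/

set_option autoImplicit false

namespace Cfsg.Agent.H637.CY

open Cfsg Cfsg.Agent.H770.CY

universe u v

/-- `x` is conjugate to its powers of odd multiplicative order -/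
def OP {S : Type u} [Group S] (x : S) : Prop :=
  ∀ k : ℕ, k.Coprime (Nat.card S) → (∃ m : ℕ, Odd m ∧ k ^ m ≡ 1 [MOD Nat.card S]) → IsConj x (x ^ k)

theorem isConj_pow {S : Type u} [Group S] {x y : S} (h : IsConj x y) (n : ℕ) : IsConj (x ^ n) (y ^ n) := by
  obtain ⟨c, rfl⟩ := isConj_iff.1 h
  exact isConj_iff.2 ⟨c, by rw [conj_pow]⟩

theorem OP.conj {S : Type u} [Group S] {x y : S} (h : OP x) (hc : IsConj x y) : OP y := fun k hk hm =>
  hc.symm.trans ((h k hk hm).trans (isConj_pow hc k))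

theorem OP.one {S : Type u} [Group S] : OP (1 : S) := fun k _ _ => by
  rw [one_pow]

theorem OP.pow {S : Type u} [Group S] {x : S} (h : OP x) (n : ℕ) : OP (x ^ n) := fun k hk hm => by
  rw [← pow_mul, mul_comm n k, pow_mul]
  exact isConj_pow (h k hk hm) n

theorem OP.congr {S : Type u} {T : Type v} [Group S] [Group T] (e : S ≃* T) {x : S} (h : OP x) : OP (e x) :=
  fun k hk hm => by
    rw [← Nat.card_congr e.toEquiv] at hk hm
    obtain ⟨c, hc⟩ := isConj_iff.1 (h k hk hm)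
    refine isConj_iff.2 ⟨e c, ?_⟩
    rw [← map_pow, ← hc, map_mul, map_mul, map_inv]

/-- all elements `k < n` of the interval prime to `n` satisfy the test -/
def chkOP (n r j : ℕ) : Bool :=
  (List.range n).all fun k => !(Nat.beq (Nat.gcd k n) 1) ||
    (Nat.beq (k ^ (64 * r) % n) (1 % n) &&
      (!(Nat.beq (k ^ r % n) (1 % n)) || (List.range n).any fun i => Nat.beq (j ^ i % n) k))

theorem chkOP_spec {n r j : ℕ} (h : chkOP n r j = true) {k : ℕ} (hk : k < n) (hc : k.Coprime n) :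
    k ^ (64 * r) % n = 1 % n ∧ (k ^ r % n = 1 % n → ∃ i, j ^ i % n = k) := by
  have h1 := List.all_eq_true.1 h k (List.mem_range.2 hk)
  have e : Nat.beq (Nat.gcd k n) 1 = true := by rw [show Nat.gcd k n = 1 from hc]; rfl
  rw [e] at h1
  simp only [Bool.not_true, Bool.false_or, Bool.and_eq_true, Bool.or_eq_true, Bool.not_eq_true'] at h1
  refine ⟨Nat.eq_of_beq_eq_true h1.1, fun h2 => ?_⟩
  rcases h1.2 with h3 | h3
  · rw [h2, Nat.beq_refl] at h3
    exact absurd h3 (by decide)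
  · obtain ⟨i, -, hi⟩ := List.any_eq_true.1 h3
    exact ⟨i, Nat.eq_of_beq_eq_true hi⟩

section

variable {S : Type u} [Group S] {x : S}

theorem isConj_pow_pow {j : ℕ} (hc : IsConj x (x ^ j)) : ∀ i : ℕ, IsConj x (x ^ j ^ i)
  | 0 => by rw [pow_zero, pow_one]
  | i + 1 => by
    rw [pow_succ, mul_comm, pow_mul]
    exact hc.trans (isConj_pow (isConj_pow_pow hc i) j |> fun h => by
      rw [← pow_mul, mul_comm, pow_mul] at h
      exact h)

theorem OP.of_conj {n r j : ℕ} (hn : x ^ n = 1) (hpos : 0 < n) (hd : n ∣ Nat.card S)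
    (hc : IsConj x (x ^ j)) (h : chkOP n r j = true) : OP x := by
  intro k hk ⟨m, hm, hkm⟩
  have hkn : k.Coprime n := Nat.Coprime.coprime_dvd_right hd hk
  have hkm' : k ^ m ≡ 1 [MOD n] := hkm.of_dvd hd
  obtain ⟨h1, h2⟩ := chkOP_spec h (Nat.mod_lt k hpos) (by
    rw [Nat.Coprime, ← Nat.gcd_rec, Nat.gcd_comm]
    exact hkn)
  have h3 : k ^ (64 * r) ≡ 1 [MOD n] := ((Nat.mod_modEq k n).pow (64 * r)).symm.trans h1
  have hnz : NeZero n := ⟨hpos.ne'⟩
  let u : (ZMod n)ˣ := ZMod.unitOfCoprime k hkn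
  have hu : ∀ t : ℕ, k ^ t ≡ 1 [MOD n] ↔ u ^ t = 1 := by
    intro t
    rw [← ZMod.natCast_eq_natCast_iff, Units.ext_iff, Units.val_pow_eq_pow_val, ZMod.coe_unitOfCoprime,
      Units.val_one]
    push_cast
    rfl
  have h4 : orderOf u ∣ m := orderOf_dvd_of_pow_eq_one ((hu m).1 hkm')
  have h5 : orderOf u ∣ 64 * r := orderOf_dvd_of_pow_eq_one ((hu _).1 h3)
  have h6 : (orderOf u).Coprime 64 :=
    Nat.Coprime.pow_right 6 (Nat.coprime_two_right.2 (hm.of_dvd_nat h4) : (orderOf u).Coprime (2))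
  have h7 : k ^ r ≡ 1 [MOD n] := (hu r).2 (orderOf_dvd_iff_pow_eq_one.1 (h6.dvd_of_dvd_mul_left h5))
  obtain ⟨i, hi⟩ := h2 (((Nat.mod_modEq k n).pow r).trans h7)
  have h8 : x ^ k = x ^ j ^ i := by
    rw [← Nat.mod_add_div k n, pow_add, pow_mul, hn, one_pow, mul_one, ← hi]
    conv_rhs => rw [← Nat.mod_add_div (j ^ i) n, pow_add, pow_mul, hn, one_pow, mul_one]
  rw [h8]
  exact isConj_pow_pow hc i

theorem OP.of_240 [Finite S] (h : x ^ 240 = 1) : OP x := by
  have hd : orderOf x ∣ 240 := orderOf_dvd_of_pow_eq_one h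
  have key : ∀ n ∈ Nat.divisors 240, chkOP n 1 1 = true := by decide +kernel
  refine OP.of_conj (n := orderOf x) (r := 1) (j := 1) (pow_orderOf_eq_one x) (orderOf_pos x) (orderOf_dvd_natCard x)
    (by rw [pow_one]) (key _ ?_)
  rw [Nat.mem_divisors]
  exact ⟨hd, by norm_num⟩

end

/-- **(T1)** -/
theorem row2_of_OP {S : Type u} [Group S] [Finite S] (heven : Even (Nat.card S)) (h : ∀ x : S, OP x) : Row2 S :=
  row2_of_isConj heven fun x k hk hm => h x k hk hm

end Cfsg.Agent.H637.CY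
end

-- part: H637/CY/AltRow
section
/-!
# S4829, `p = 2`: the alternating row (helper637)
-/

set_option autoImplicit false

namespace Cfsg.Agent.H637.CY

open Cfsg Cfsg.Agent.H770.CY

universe u

theorem perm6_pow {n : ℕ} (hn : n ≤ 6) (σ : Equiv.Perm (Fin n)) : σ ^ 240 = 1 := by
  rw [← orderOf_dvd_iff_pow_eq_one, ← Equiv.Perm.lcm_cycleType]
  refine Multiset.lcm_dvd.2 fun a ha => ?_
  have h1 : a ≤ 6 := by
    refine (Equiv.Perm.le_card_support_of_mem_cycleType ha).trans ?_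
    refine (Finset.card_le_univ _).trans ?_
    rw [Fintype.card_fin]
    exact hn
  have h2 : 2 ≤ a := Equiv.Perm.two_le_of_mem_cycleType ha
  interval_cases a <;> norm_num

/-- `A_5`, `A_6` -/
theorem row2_alt56 {n : ℕ} (hn : 5 ≤ n) (hn6 : n ≤ 6) {K : Type u} [Group K] [Finite K]
    (h : Nonempty (K ≃* alternatingGroup (Fin n))) : Row2 K := by
  obtain ⟨e⟩ := h
  have h1 : Even (Nat.card K) := by
    rw [Nat.card_congr e.toEquiv]
    have h2 : 2 * Nat.card (alternatingGroup (Fin n)) = Nat.factorial n := by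
      have : Nontrivial (Fin n) := Fin.nontrivial_iff_two_le.2 (by omega)
      rw [Nat.card_eq_fintype_card, two_mul_card_alternatingGroup, Fintype.card_perm, Fintype.card_fin]
    have h3 : n = 5 ∨ n = 6 := by omega
    rcases h3 with rfl | rfl
    · have : Nat.factorial 5 = 120 := rfl
      exact ⟨30, by omega⟩
    · have : Nat.factorial 6 = 720 := rfl
      exact ⟨180, by omega⟩
  refine row2_of_OP h1 fun x => OP.of_240 ?_
  have h2 : (e x) ^ 240 = 1 := by
    ext1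
    rw [Subgroup.coe_pow, perm6_pow hn6]
    rfl
  exact e.injective (by rw [map_pow, h2, map_one])

/-- **the alternating row** -/
theorem row2_alternating : RowFor2 (fun X _ => IsAlternating X) := by
  intro X _ _ _ _ hX
  obtain ⟨n, hn, h⟩ := hX
  by_cases h7 : 7 ≤ n
  · exact row2_alt h7 h
  · exact row2_alt56 hn (by omega) h

end Cfsg.Agent.H637.CY
end

-- part: H226/R2/FC
section
/-!
# The character `FC Ψ` of `GL_n(F)` induced from the stabiliser of a plane and the automorphisms (helper226)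

`FC_conj`, `FC_map` (field automorphisms), `FC_it` (inverse transpose).
-/

set_option autoImplicit false

open Cfsg

namespace Cfsg.Agent.H226.R2

open Cfsg.Agent.Characters Cfsg.Agent.H53.HC Module Cfsg.Agent.H61.GowFlag Cfsg.Agent.H61.GowGlue
  Cfsg.Agent.H61.GowSigma Cfsg.Agent.H61.GowPlane Matrix Cfsg.Agent.H636.Gow Cfsg.Agent.H61.GowPsl
  Cfsg.Agent.H61.GowThree Cfsg.Agent.H199.PslAut

universe u

section

variable {F : Type u} [Field F] {n k : ℕ}

/-- the image of a subspace under a field automorphism -/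
def tws (σ : F ≃+* F) (W : Submodule F (Fin n → F)) : Submodule F (Fin n → F) where
  carrier := {v | (fun i => σ.symm (v i)) ∈ W}
  add_mem' := by
    intro a b ha hb
    have : (fun i => σ.symm ((a + b) i)) = (fun i => σ.symm (a i)) + fun i => σ.symm (b i) := by
      funext i
      simp
    rw [Set.mem_setOf_eq, this]
    exact W.add_mem ha hb
  zero_mem' := by
    have : (fun i => σ.symm ((0 : Fin n → F) i)) = 0 := by
      funext i
      simp
    rw [Set.mem_setOf_eq, this]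
    exact W.zero_mem
  smul_mem' := by
    intro c a ha
    have : (fun i => σ.symm ((c • a) i)) = (σ.symm c) • fun i => σ.symm (a i) := by
      funext i
      simp
    rw [Set.mem_setOf_eq, this]
    exact W.smul_mem _ ha

theorem mem_tws {σ : F ≃+* F} {W : Submodule F (Fin n → F)} {v : Fin n → F} :
    v ∈ tws σ W ↔ (fun i => σ.symm (v i)) ∈ W := Iff.rfl

theorem tws_mem {σ : F ≃+* F} {W : Submodule F (Fin n → F)} {v : Fin n → F} (h : v ∈ W) :
    (fun i => σ (v i)) ∈ tws σ W := by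
  rw [mem_tws]
  simpa using h

theorem tws_symm (σ : F ≃+* F) (W : Submodule F (Fin n → F)) : tws σ.symm (tws σ W) = W := by
  ext v
  rw [mem_tws, mem_tws]
  simp

theorem tws_symm' (σ : F ≃+* F) (W : Submodule F (Fin n → F)) : tws σ (tws σ.symm W) = W := by
  ext v
  rw [mem_tws, mem_tws]
  simp

/-- the coordinates -/
noncomputable def twE (σ : F ≃+* F) {W : Submodule F (Fin n → F)} (b : Basis (Fin k) F W) : tws σ W ≃ₗ[F] (Fin k → F) where
  toFun v := fun i => σ (b.equivFun ⟨fun i => σ.symm (v.1 i), v.2⟩ i)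
  map_add' := by
    intro v w
    funext i
    have : (⟨fun i => σ.symm ((v + w).1 i), (v + w).2⟩ : W) = ⟨fun i => σ.symm (v.1 i), v.2⟩ +
        ⟨fun i => σ.symm (w.1 i), w.2⟩ := by
      apply Subtype.ext
      funext j
      simp
    rw [this, map_add, Pi.add_apply, map_add]
    rfl
  map_smul' := by
    intro c v
    funext i
    have : (⟨fun i => σ.symm ((c • v).1 i), (c • v).2⟩ : W) = σ.symm c • ⟨fun i => σ.symm (v.1 i), v.2⟩ := by
      apply Subtype.ext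
      funext j
      simp only [_root_.SetLike.val_smul, _root_.Pi.smul_apply, _root_.smul_eq_mul, _root_.map_mul]
    rw [this, map_smul, Pi.smul_apply, smul_eq_mul, map_mul, RingEquiv.apply_symm_apply]
    rfl
  invFun x := ⟨fun i => σ ((b.equivFun.symm fun j => σ.symm (x j)).1 i), tws_mem (b.equivFun.symm fun j => σ.symm (x j)).2⟩
  left_inv := by
    intro v
    apply Subtype.ext
    funext i
    have h1 : (fun j => σ.symm (σ (b.equivFun ⟨fun i => σ.symm (v.1 i), v.2⟩ j))) =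
        b.equivFun ⟨fun i => σ.symm (v.1 i), v.2⟩ := by
      funext j
      rw [RingEquiv.symm_apply_apply]
    show σ ((b.equivFun.symm fun j => σ.symm (σ (b.equivFun ⟨fun i => σ.symm (v.1 i), v.2⟩ j))).1 i) = v.1 i
    rw [h1, LinearEquiv.symm_apply_apply, RingEquiv.apply_symm_apply]
  right_inv := by
    intro x
    funext i
    have h1 : (⟨fun i => σ.symm (σ ((b.equivFun.symm fun j => σ.symm (x j)).1 i)),
        tws_mem (σ := σ) (b.equivFun.symm fun j => σ.symm (x j)).2⟩ : W) = b.equivFun.symm fun j => σ.symm (x j) := by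
      apply Subtype.ext
      funext j
      show σ.symm (σ _) = _
      rw [RingEquiv.symm_apply_apply]
    show σ (b.equivFun (⟨fun i => σ.symm (σ ((b.equivFun.symm fun j => σ.symm (x j)).1 i)), _⟩ : W) i) = x i
    rw [h1, LinearEquiv.apply_symm_apply, RingEquiv.apply_symm_apply]

/-- the basis -/
noncomputable def twB (σ : F ≃+* F) {W : Submodule F (Fin n → F)} (b : Basis (Fin k) F W) : Basis (Fin k) F (tws σ W) :=
  Basis.ofEquivFun (twE σ b)

theorem twB_apply (σ : F ≃+* F) {W : Submodule F (Fin n → F)} (b : Basis (Fin k) F W) (j : Fin k) :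
    ((twB σ b j : tws σ W) : Fin n → F) = fun i => σ (((b j : W) : Fin n → F) i) := by
  have h1 : twB σ b j = (twE σ b).symm (Pi.single j 1) := by
    rw [twB, Basis.coe_ofEquivFun]
  have h2 : (fun i => σ.symm ((Pi.single j (1 : F) : Fin k → F) i)) = Pi.single j 1 := by
    funext i
    by_cases h : i = j
    · subst h; simp
    · simp [Pi.single_eq_of_ne h]
  have h3 : b.equivFun.symm (Pi.single j (1 : F)) = b j := by
    rw [LinearEquiv.symm_apply_eq]
    funext i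
    rw [Basis.equivFun_self, Pi.single_apply]
    by_cases h : i = j
    · subst h; simp
    · rw [if_neg h, if_neg (Ne.symm h)]
  rw [h1]
  show (fun i => σ ((b.equivFun.symm fun j' => σ.symm ((Pi.single j (1 : F) : Fin k → F) j')).1 i)) = _
  rw [h2, h3]

theorem twB_repr (σ : F ≃+* F) {W : Submodule F (Fin n → F)} (b : Basis (Fin k) F W) (v : W) (i : Fin k) :
    (twB σ b).repr ⟨fun i => σ (v.1 i), tws_mem v.2⟩ i = σ (b.repr v i) := by
  have h1 : (twB σ b).equivFun = twE σ b := by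
    rw [twB, Basis.equivFun_ofEquivFun]
  have h2 := congrFun (congrArg (fun e : (tws σ W) ≃ₗ[F] (Fin k → F) => e ⟨fun i => σ (v.1 i), tws_mem v.2⟩) h1) i
  rw [Basis.equivFun_apply] at h2
  rw [h2]
  show σ (b.equivFun (⟨fun i => σ.symm (σ (v.1 i)), _⟩ : W) i) = _
  have h3 : (⟨fun i => σ.symm (σ (v.1 i)), tws_mem (σ := σ) v.2⟩ : W) = v := by
    apply Subtype.ext
    funext j
    show σ.symm (σ (v.1 j)) = _
    rw [RingEquiv.symm_apply_apply]
  rw [h3, Basis.equivFun_apply]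

theorem rho_map (σ : F ≃+* F) (g : GL (Fin n) F) (v : Fin n → F) :
    rhoGL F n (mapGL σ g) (fun i => σ (v i)) = fun i => σ (rhoGL F n g v i) := by
  rw [rhoGL_apply, rhoGL_apply, coe_mapGL]
  funext i
  simp only [Matrix.mulVec, dotProduct, Matrix.map_apply, map_sum, map_mul]

theorem map_tws (σ : F ≃+* F) {g : GL (Fin n) F} {W : Submodule F (Fin n → F)}
    (h : W.map (rhoGL F n g : (Fin n → F) →ₗ[F] (Fin n → F)) = W) :
    (tws σ W).map (rhoGL F n (mapGL σ g) : (Fin n → F) →ₗ[F] (Fin n → F)) = tws σ W := by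
  ext v
  constructor
  · rintro ⟨w, hw, rfl⟩
    have h1 : w = fun i => σ ((fun i => σ.symm (w i)) i) := by
      funext i
      simp
    have h2 : rhoGL F n (mapGL σ g) w = fun i => σ (rhoGL F n g (fun i => σ.symm (w i)) i) := by
      conv_lhs => rw [h1]
      exact rho_map σ g _
    show rhoGL F n (mapGL σ g) w ∈ tws σ W
    rw [h2]
    apply tws_mem
    rw [← h]
    exact ⟨_, hw, rfl⟩
  · intro hv
    have h1 : (fun i => σ.symm (v i)) ∈ W.map (rhoGL F n g : (Fin n → F) →ₗ[F] (Fin n → F)) := by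
      rw [h]; exact hv
    obtain ⟨w, hw, hw1⟩ := h1
    refine ⟨fun i => σ (w i), tws_mem hw, ?_⟩
    show rhoGL F n (mapGL σ g) (fun i => σ (w i)) = v
    rw [rho_map]
    have h2 : rhoGL F n g w = fun i => σ.symm (v i) := hw1
    rw [h2]
    funext i
    simp

theorem map_tws_iff (σ : F ≃+* F) {g : GL (Fin n) F} {W : Submodule F (Fin n → F)} :
    (tws σ W).map (rhoGL F n (mapGL σ g) : (Fin n → F) →ₗ[F] (Fin n → F)) = tws σ W ↔
      W.map (rhoGL F n g : (Fin n → F) →ₗ[F] (Fin n → F)) = W := by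
  refine ⟨fun h => ?_, map_tws σ⟩
  have h1 := map_tws σ.symm h
  rw [tws_symm] at h1
  have h2 : mapGL σ.symm (mapGL σ g) = g := by
    apply Units.ext
    rw [coe_mapGL, coe_mapGL, Matrix.map_map]
    ext i j
    simp
  rwa [h2] at h1

/-- the matrices of corresponding automorphisms -/
theorem glE_twB (σ : F ≃+* F) {W : Submodule F (Fin n → F)} (b : Basis (Fin k) F W) (f : W ≃ₗ[F] W)
    (f' : tws σ W ≃ₗ[F] tws σ W)
    (h : ∀ w : W, f' ⟨fun i => σ (w.1 i), tws_mem w.2⟩ = ⟨fun i => σ ((f w).1 i), tws_mem (f w).2⟩) :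
    glE (twB σ b) f' = mapGL σ (glE b f) := by
  apply Units.ext
  rw [coe_mapGL, coe_glE, coe_glE]
  ext i j
  rw [Matrix.map_apply, LinearMap.toMatrix_apply, LinearMap.toMatrix_apply]
  have h1 : twB σ b j = ⟨fun i => σ ((b j).1 i), tws_mem (b j).2⟩ := Subtype.ext (twB_apply σ b j)
  have h2 : (f' : tws σ W →ₗ[F] tws σ W) (twB σ b j) = ⟨fun i => σ ((f (b j)).1 i), tws_mem (f (b j)).2⟩ := by
    rw [h1]
    exact h _
  rw [h2, twB_repr]
  rfl

theorem finrank_tws [Fintype F] (σ : F ≃+* F) (W : Submodule F (Fin n → F)) : finrank F (tws σ W) = finrank F W := by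
  have b : Basis (Fin (finrank F W)) F W := finBasisOfFinrankEq F W rfl
  rw [finrank_eq_card_basis (twB σ b), Fintype.card_fin]

/-- planes -/
def twP [Fintype F] (σ : F ≃+* F) : planes F n ≃ planes F n where
  toFun W := ⟨tws σ W.1, by
    show finrank F (tws σ W.1) = 2
    rw [finrank_tws]
    exact W.2⟩
  invFun W := ⟨tws σ.symm W.1, by
    show finrank F (tws σ.symm W.1) = 2
    rw [finrank_tws]
    exact W.2⟩
  left_inv W := Subtype.ext (tws_symm σ W.1)
  right_inv W := Subtype.ext (tws_symm' σ W.1)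

/-- the induced character -/
noncomputable def FC [Fintype F] (n : ℕ) (Ψ : GL (Fin 2) F → ℂ) : GL (Fin n) F → ℂ :=
  flagChar (rhoGL F n) (planes F n) Ψ

/-- **field automorphisms** -/
theorem FC_map [Fintype F] {Ψ : GL (Fin 2) F → ℂ} (hc : IsClassFunction _ Ψ) (σ : F ≃+* F)
    (hΨ : ∀ A, Ψ (mapGL σ A) = Ψ A) (g : GL (Fin n) F) : FC n Ψ (mapGL σ g) = FC n Ψ g := by
  classical
  unfold FC flagChar
  refine (Fintype.sum_equiv (twP σ) _ _ fun W => ?_).symm
  show flagTerm (rhoGL F n) Ψ g W.1 = flagTerm (rhoGL F n) Ψ (mapGL σ g) (tws σ W.1)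
  by_cases h : W.1.map (rhoGL F n g : (Fin n → F) →ₗ[F] (Fin n → F)) = W.1
  · rw [flagTerm_of _ _ h, flagTerm_of _ _ (map_tws σ h)]
    have b : Basis (Fin 2) F W.1 := finBasisOfFinrankEq F W.1 W.2
    rw [cl_eq hc b, cl_eq hc (twB σ b), glE_twB σ b (res (rhoGL F n g) W.1 h), hΨ]
    intro w
    apply Subtype.ext
    exact rho_map σ g w.1
  · unfold flagTerm
    rw [dif_neg h, dif_neg (fun h1 => h ((map_tws_iff σ).1 h1))]

/-- conjugation -/
theorem FC_conj [Fintype F] {Ψ : GL (Fin 2) F → ℂ} (hc : IsClassFunction _ Ψ) (x g : GL (Fin n) F) :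
    FC n Ψ (x * g * x⁻¹) = FC n Ψ g := by
  classical
  unfold FC flagChar
  have hΩ : ∀ y : GL (Fin n) F, ∀ W ∈ planes F n, W.map (rhoGL F n y : (Fin n → F) →ₗ[F] (Fin n → F)) ∈ planes F n := by
    intro y W hW
    show finrank F _ = 2
    have hW' : finrank F W = 2 := hW
    rw [← hW']
    exact LinearEquiv.finrank_map_eq (rhoGL F n y) W
  let _ := subAct (rhoGL F n) (planes F n) hΩ
  refine (Fintype.sum_equiv (MulAction.toPerm x) _ _ fun W => ?_).symm
  exact (flagTerm_conj (rhoGL F n) hc x g W.1).symm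

/-- **inverse transpose** -/
theorem FC_it [Fintype F] {Ψ : GL (Fin 2) F → ℂ} (hc : IsClassFunction _ Ψ) (g : GL (Fin n) F) :
    FC n Ψ (itGL g) = FC n Ψ g⁻¹ := by
  obtain ⟨c, hc1⟩ := Cfsg.Agent.S2580.result ((g⁻¹ : GL (Fin n) F) : Matrix (Fin n) (Fin n) F)
  have h1 : itGL g = c * g⁻¹ * c⁻¹ := by
    rw [eq_mul_inv_iff_mul_eq]
    apply Units.ext
    rw [Units.val_mul, Units.val_mul, coe_itGL]
    exact hc1.symm
  rw [h1, FC_conj hc]

end

end Cfsg.Agent.H226.R2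
end

-- part: H226/R2/Psl
section
/-!
# `Row2` for `PSL_n(q)`, `q` even, `n ≥ 3` (helper226)
-/

set_option autoImplicit false

open Cfsg

namespace Cfsg.Agent.H226.R2

open scoped ComplexConjugate

open Cfsg.Agent.Characters Cfsg.Agent.H53.HC Module Cfsg.Agent.H61.GowFlag Cfsg.Agent.H61.GowGlue
  Cfsg.Agent.H61.GowSigma Cfsg.Agent.H61.GowPlane Matrix Cfsg.Agent.H636.Gow Cfsg.Agent.H61.GowPsl
  Cfsg.Agent.H61.GowThree Cfsg.Agent.H199.PslAut Cfsg.Agent.H770.CY

open Cfsg.Agent.ClassicalGeometry.AutPSL.Root (pr pr_surjective)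
open Cfsg.Agent.ClassicalGeometry.AutPSL.Auto (cj fld itr coe_cj coe_itr coe_fld_apply)

universe u

/-! ### general facts -/

theorem index_dvd_of_cover {A R : Type*} [Group A] [Finite A] [Group R] (f : R →* A) (Γ : Subgroup A)
    (h : ∀ a : A, ∃ r : R, ∃ s ∈ Γ, a = f r * s) : Γ.index ∣ Nat.card R := by
  let _ : MulAction R (A ⧸ Γ) := MulAction.compHom _ f
  have h1 : MulAction.orbit R (QuotientGroup.mk (1 : A) : A ⧸ Γ) = Set.univ := by
    apply Set.eq_univ_of_forall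
    intro x
    obtain ⟨a, rfl⟩ := QuotientGroup.mk_surjective x
    obtain ⟨r, s, hs, rfl⟩ := h a
    refine ⟨r, ?_⟩
    show (QuotientGroup.mk (f r * 1) : A ⧸ Γ) = QuotientGroup.mk (f r * s)
    rw [QuotientGroup.eq, mul_one, inv_mul_cancel_left]
    exact hs
  have h2 := MulAction.index_stabilizer R (QuotientGroup.mk (1 : A) : A ⧸ Γ)
  rw [h1, Set.ncard_univ] at h2
  have h3 : Γ.index = (MulAction.stabilizer R (QuotientGroup.mk (1 : A) : A ⧸ Γ)).index := h2.symm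
  rw [h3]
  exact Subgroup.index_dvd_card _

section

variable {F : Type u} [Field F] {n k : ℕ}

theorem odd_ringAut [Fintype F] [CharP F 2] (h : 3 ∣ Fintype.card F + 1) : Odd (Nat.card (F ≃+* F)) := by
  have hp : Fact (Nat.Prime 2) := ⟨Nat.prime_two⟩
  obtain ⟨k, -, hk⟩ := FiniteField.card F 2
  have h1 : Nat.card (F ≃+* F) = k := Cfsg.Agent.Lib.FieldAutCard.card_ringAut (p := 2) k.pos
    hk
  rw [h1]
  by_contra h2
  rw [Nat.not_odd_iff_even] at h2
  obtain ⟨j, hj⟩ := h2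
  rw [hk, hj, ← two_mul, pow_mul] at h
  have h3 : (2 ^ 2) ^ j % 3 = 1 := by
    rw [Nat.pow_mod]
    norm_num
  omega

theorem toGL_cj (g : GL (Fin n) F) (s : Matrix.SpecialLinearGroup (Fin n) F) :
    Matrix.SpecialLinearGroup.toGL (cj g s) = g * Matrix.SpecialLinearGroup.toGL s * g⁻¹ := by
  apply Units.ext
  rw [Units.val_mul, Units.val_mul]
  exact coe_cj g s

theorem toGL_fld (σ : F ≃+* F) (s : Matrix.SpecialLinearGroup (Fin n) F) :
    Matrix.SpecialLinearGroup.toGL (fld σ s) = mapGL σ (Matrix.SpecialLinearGroup.toGL s) := by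
  apply Units.ext
  rfl

theorem toGL_itr (s : Matrix.SpecialLinearGroup (Fin n) F) :
    Matrix.SpecialLinearGroup.toGL (itr s) = itGL (Matrix.SpecialLinearGroup.toGL s) := by
  apply Units.ext
  rw [coe_itGL, ← map_inv]
  exact coe_itr s

theorem rho_toGL (s : Matrix.SpecialLinearGroup (Fin n) F) :
    rhoGL F n (Matrix.SpecialLinearGroup.toGL s) = Matrix.SpecialLinearGroup.toLin' s := by
  ext1 v
  rw [rhoGL_apply, Matrix.SpecialLinearGroup.toLin'_apply, Matrix.toLin'_apply]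
  rfl

section stab

variable [Fintype F] {Ψ : GL (Fin 2) F → ℂ} (hc : IsClassFunction _ Ψ)
  {χ : Matrix.ProjectiveSpecialLinearGroup (Fin n) F → ℂ}
  (hval : ∀ s, χ (pr s) = FC n Ψ (Matrix.SpecialLinearGroup.toGL s))

include hc hval

theorem Psi_mem_stab (g : GL (Fin n) F) : Psi n F g ∈ stab χ := by
  intro x
  obtain ⟨s, rfl⟩ := pr_surjective x
  rw [Psi_pr, hval, hval, toGL_cj, FC_conj hc]

theorem phi_mem_stab (σ : F ≃+* F) (hΨ : ∀ A, Ψ (mapGL σ A) = Ψ A) : phi n F σ ∈ stab χ := by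
  intro x
  obtain ⟨s, rfl⟩ := pr_surjective x
  rw [phi_pr, hval, hval, toGL_fld, FC_map hc σ hΨ]

theorem iot_mem_stab (hχ : IsCharacter _ χ) (hrat : ∀ g, ∃ q : ℚ, χ g = q) : iot n F ∈ stab χ := by
  intro x
  have h1 : χ x⁻¹ = χ x := by
    rw [Core.isCharacter_apply_inv hχ]
    obtain ⟨q, hq⟩ := hrat x
    rw [hq]
    exact map_ratCast (starRingEnd ℂ) q
  rw [← h1]
  obtain ⟨s, rfl⟩ := pr_surjective x
  rw [iot_pr, hval, toGL_itr, FC_it hc, ← map_inv, ← map_inv, hval]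

/-- the index of the stabiliser divides the order of the group of field automorphisms -/
theorem index_stab_dvd (hn : 3 ≤ n) (hχ : IsCharacter _ χ) (hrat : ∀ g, ∃ q : ℚ, χ g = q) :
    (stab χ).index ∣ Nat.card (F ≃+* F) := by
  have : Finite (Matrix.ProjectiveSpecialLinearGroup (Fin n) F) := inferInstance
  have : Finite (MulAut (Matrix.ProjectiveSpecialLinearGroup (Fin n) F)) :=
    Finite.of_injective (fun e => (e : _ → _)) DFunLike.coe_injective
  apply index_dvd_of_cover (phi n F)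
  intro α
  rcases _root_.Cfsg.Agent.H199.PslAut.exists_form (by omega) α with ⟨g, σ, rfl⟩ | ⟨-, g, σ, rfl⟩
  · refine ⟨σ, Psi n F (mapGL σ⁻¹ g), Psi_mem_stab hc hval _, ?_⟩
    rw [← phi_conj_Psi]
    rw [map_inv]
    group
  · refine ⟨σ, Psi n F (mapGL σ⁻¹ g) * iot n F, mul_mem (Psi_mem_stab hc hval _) (iot_mem_stab hc hval hχ hrat), ?_⟩
    rw [← phi_conj_Psi]
    rw [map_inv]
    group

theorem stab_eq_top (hn : 3 ≤ n) (hχ : IsCharacter _ χ) (hrat : ∀ g, ∃ q : ℚ, χ g = q)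
    (hΨ : ∀ (σ : F ≃+* F) (A), Ψ (mapGL σ A) = Ψ A) : stab χ = ⊤ := by
  rw [eq_top_iff]
  rintro α -
  rcases _root_.Cfsg.Agent.H199.PslAut.exists_form (by omega) α with ⟨g, σ, rfl⟩ | ⟨-, g, σ, rfl⟩
  · exact mul_mem (Psi_mem_stab hc hval _) (phi_mem_stab hc hval _ (hΨ σ))
  · exact mul_mem (mul_mem (Psi_mem_stab hc hval _) (phi_mem_stab hc hval _ (hΨ σ))) (iot_mem_stab hc hval hχ hrat)

end stab

/-! ### field automorphisms and flag characters, any dimension -/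

theorem flag_map [Fintype F] (Ω : Set (Submodule F (Fin n → F))) [Fintype Ω]
    (hΩ : ∀ W, W ∈ Ω ↔ finrank F W = k) {Ψ Ψ' : GL (Fin k) F → ℂ} (hc : IsClassFunction _ Ψ)
    (hc' : IsClassFunction _ Ψ') (σ : F ≃+* F) (hΨ : ∀ A, Ψ (mapGL σ A) = Ψ' A) (g : GL (Fin n) F) :
    flagChar (rhoGL F n) Ω Ψ (mapGL σ g) = flagChar (rhoGL F n) Ω Ψ' g := by
  classical
  unfold flagChar
  let e : Ω ≃ Ω :=
    { toFun := fun W => ⟨tws σ W.1, by rw [hΩ, finrank_tws]; exact (hΩ _).1 W.2⟩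
      invFun := fun W => ⟨tws σ.symm W.1, by rw [hΩ, finrank_tws]; exact (hΩ _).1 W.2⟩
      left_inv := fun W => Subtype.ext (tws_symm σ W.1)
      right_inv := fun W => Subtype.ext (tws_symm' σ W.1) }
  refine (Fintype.sum_equiv e _ _ fun W => ?_).symm
  show flagTerm (rhoGL F n) Ψ' g W.1 = flagTerm (rhoGL F n) Ψ (mapGL σ g) (tws σ W.1)
  by_cases h : W.1.map (rhoGL F n g : (Fin n → F) →ₗ[F] (Fin n → F)) = W.1
  · rw [flagTerm_of _ _ h, flagTerm_of _ _ (map_tws σ h)]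
    have b : Basis (Fin k) F W.1 := finBasisOfFinrankEq F W.1 ((hΩ _).1 W.2)
    rw [cl_eq hc' b, cl_eq hc (twB σ b), glE_twB σ b (_root_.Cfsg.Agent.H53.HC.res (rhoGL F n g) W.1 h), hΨ]
    intro w
    apply Subtype.ext
    exact rho_map σ g w.1
  · unfold flagTerm
    rw [dif_neg h, dif_neg (fun h1 => h ((map_tws_iff σ).1 h1))]

theorem det_mapGL (σ : F ≃+* F) (A : GL (Fin n) F) :
    GeneralLinearGroup.det (mapGL σ A) = Units.map (σ : F →* F) (GeneralLinearGroup.det A) := by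
  apply Units.ext
  rw [GeneralLinearGroup.val_det_apply, coe_mapGL, Units.coe_map, GeneralLinearGroup.val_det_apply]
  exact (RingHom.map_det (σ : F →+* F) (A : Matrix (Fin n) (Fin n) F)).symm

/-- `sigma μ` and field automorphisms -/
theorem sigma_map [Fintype F] (μ : Fˣ →* ℂˣ) (σ : F ≃+* F) (A : GL (Fin 2) F) :
    sigma μ (mapGL σ A) = sigma (μ.comp (Units.map (σ : F →* F))) A := by
  unfold sigma
  rw [det_mapGL, flag_map (lines F) (fun W => Iff.rfl) (Core.isIrr_isClassFunction (lin_isIrr μ 1))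
    (Core.isIrr_isClassFunction (lin_isIrr (μ.comp (Units.map (σ : F →* F))) 1)) σ]
  · rfl
  · intro A
    unfold lin
    rw [det_mapGL]
    rfl

theorem flagChar_star [Fintype F] {V : Type*} [AddCommGroup V] [Module F V] {G : Type*} [Group G]
    (ρ : G →* (V ≃ₗ[F] V)) (Ω : Set (Submodule F V)) [Fintype Ω] {Ψ Ψ' : GL (Fin k) F → ℂ}
    (h : ∀ A, Ψ' A = conj (Ψ A)) (g : G) : flagChar ρ Ω Ψ' g = conj (flagChar ρ Ω Ψ g) := by
  classical
  unfold flagChar
  rw [map_sum]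
  refine Finset.sum_congr rfl fun W _ => ?_
  unfold flagTerm
  split_ifs with h1
  · unfold cl
    split_ifs with h2
    · exact h _
    · rw [map_zero]
  · rw [map_zero]

theorem sigma_inv [Fintype F] (μ : Fˣ →* ℂˣ) (h3 : μ ^ 3 = 1) (hμ : μ ≠ 1) (A : GL (Fin 2) F) :
    sigma μ⁻¹ A = sigma μ A := by
  have hv : ∀ x : Fˣ, ((μ⁻¹ x : ℂˣ) : ℂ) = conj ((μ x : ℂˣ) : ℂ) := by
    intro x
    have h1 : ((μ x : ℂˣ) : ℂ) ^ 3 = 1 := by
      have := DFunLike.congr_fun h3 x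
      rw [MonoidHom.pow_apply, MonoidHom.one_apply] at this
      rw [← Units.val_pow_eq_pow_val, this, Units.val_one]
    have h2 : ‖((μ x : ℂˣ) : ℂ)‖ = 1 := Complex.norm_eq_one_of_pow_eq_one h1 (by norm_num)
    rw [MonoidHom.inv_apply, Units.val_inv_eq_inv_val, Complex.inv_eq_conj h2]
  have h1 : sigma μ⁻¹ A = conj (sigma μ A) := by
    unfold sigma
    rw [map_mul, hv, flagChar_star (rhoGL F 2) (lines F) (Ψ := lin μ 1) (Ψ' := lin μ⁻¹ 1) (fun A => hv _)]
  rw [h1]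
  obtain ⟨q, hq⟩ := sigma_rat μ h3 hμ A
  rw [hq]
  exact map_ratCast (starRingEnd ℂ) q

theorem mu_comp [Fintype F] (μ : Fˣ →* ℂˣ) (h3 : μ ^ 3 = 1) (hμ : μ ≠ 1) (σ : F ≃+* F) :
    μ.comp (Units.map (σ : F →* F)) = μ ∨ μ.comp (Units.map (σ : F →* F)) = μ⁻¹ := by
  obtain ⟨γ, hγ⟩ := IsCyclic.exists_generator (α := Fˣ)
  have hext : ∀ f g : Fˣ →* ℂˣ, f γ = g γ → f = g := by
    intro f g h
    ext1 x
    obtain ⟨k, rfl⟩ := hγ x
    change f (γ ^ k) = g (γ ^ k)
    rw [map_zpow, map_zpow, h]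
  have h4 : ∀ x, μ x ^ 3 = 1 := by
    intro x
    have := DFunLike.congr_fun h3 x
    rwa [MonoidHom.pow_apply, MonoidHom.one_apply] at this
  have hne : μ γ ≠ 1 := fun h => hμ (hext μ 1 (by rw [h, MonoidHom.one_apply]))
  obtain ⟨k, hk⟩ := hγ (Units.map (σ : F →* F) γ)
  have h5 : μ (Units.map (σ : F →* F) γ) = μ γ ^ k := by
    rw [← map_zpow]
    exact congrArg μ hk.symm
  have h6 : μ (Units.map (σ : F →* F) γ) ≠ 1 := by
    intro h
    apply hμ
    obtain ⟨j, hj⟩ := hγ (Units.map (σ.symm : F →* F) γ)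
    have h7 : Units.map (σ : F →* F) (Units.map (σ.symm : F →* F) γ) = γ := by
      apply Units.ext
      show σ (σ.symm γ) = γ
      rw [RingEquiv.apply_symm_apply]
    have h8 : μ γ = 1 := by
      have hj' : γ ^ j = Units.map (σ.symm : F →* F) γ := hj
      rw [← h7, ← hj', map_zpow, map_zpow, h, _root_.one_zpow]
    exact absurd h8 hne
  have h7 : k % 3 = 0 ∨ k % 3 = 1 ∨ k % 3 = 2 := by omega
  have h8 : μ γ ^ k = μ γ ^ (k % 3) := by
    have e : (μ γ) ^ (3 : ℤ) = 1 := by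
      have := h4 γ
      exact_mod_cast this
    conv_lhs => rw [← Int.mul_ediv_add_emod k 3]
    rw [_root_.zpow_add, _root_.zpow_mul, e, _root_.one_zpow, one_mul]
  rcases h7 with h7 | h7 | h7
  · rw [h5, h8, h7, zpow_zero] at h6
    exact absurd rfl h6
  · left
    apply hext
    show μ (Units.map (σ : F →* F) γ) = μ γ
    rw [h5, h8, h7, zpow_one]
  · right
    apply hext
    show μ (Units.map (σ : F →* F) γ) = μ⁻¹ γ
    rw [h5, h8, h7, MonoidHom.inv_apply, eq_inv_iff_mul_eq_one]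
    have := h4 γ
    rw [pow_succ] at this
    exact_mod_cast this

/-- **`sigma μ` is invariant under field automorphisms** -/
theorem sigma_field [Fintype F] (μ : Fˣ →* ℂˣ) (h3 : μ ^ 3 = 1) (hμ : μ ≠ 1) (σ : F ≃+* F) (A : GL (Fin 2) F) :
    sigma μ (mapGL σ A) = sigma μ A := by
  rw [sigma_map]
  rcases mu_comp μ h3 hμ σ with h | h
  · rw [h]
  · rw [h, sigma_inv μ h3 hμ]

/-! ### the character of `PSL_n` -/

theorem exists_chi [Fintype F] (hF : Even (Fintype.card F)) (hn : 3 ≤ n)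
    {Ψ : GL (Fin 2) F → ℂ} (hΨ : IsIrrCharacter _ Ψ) (hrat : ∀ A, ∃ q : ℚ, Ψ A = q)
    (hs : ∀ c : Fˣ, Ψ (GeneralLinearGroup.scalar (Fin 2) c) = Ψ 1) (hodd : ∃ d : ℕ, Odd d ∧ Ψ 1 = d)
    (hirr : IsIrrCharacter (Matrix.SpecialLinearGroup (Fin n) F)
      (flagChar (Matrix.SpecialLinearGroup.toLin' (R := F)) (planes F n) Ψ)) :
    ∃ χ : Matrix.ProjectiveSpecialLinearGroup (Fin n) F → ℂ, IsIrrCharacter _ χ ∧ χ ≠ 1 ∧
      (∃ d : ℕ, Odd d ∧ χ 1 = d) ∧ (∀ g, ∃ q : ℚ, χ g = q) ∧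
      ∀ s, χ (pr s) = FC n Ψ (Matrix.SpecialLinearGroup.toGL s) := by
  classical
  have : Finite (Matrix.SpecialLinearGroup (Fin n) F) := inferInstance
  let _ : Fintype (Subgroup.center (Matrix.SpecialLinearGroup (Fin n) F)) := Fintype.ofFinite _
  obtain ⟨d, hd, hd1⟩ := hodd
  have hcf := Core.isIrr_isClassFunction hΨ
  have hone : flagChar (Matrix.SpecialLinearGroup.toLin' (n := Fin n) (R := F)) (planes F n) Ψ 1 =
      ((Nat.card (planes F n) * d : ℕ) : ℂ) := by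
    rw [flagChar_one (Matrix.SpecialLinearGroup.toLin' (n := Fin n) (R := F)) (planes F n) hcf (fun W hW => hW), hd1]
    push_cast
    rfl
  have hpos : 0 < Nat.card (planes F n) := lt_trans zero_lt_one (one_lt_card_planes hn)
  have hdpos : 0 < d := hd.pos
  obtain ⟨χ, hχ⟩ := Blocks.Deflate.exists_deflation (Subgroup.center (Matrix.SpecialLinearGroup (Fin n) F)) _ hirr (by
    rw [Finset.sum_congr rfl (g := fun _ => flagChar (Matrix.SpecialLinearGroup.toLin' (n := Fin n) (R := F)) (planes F n) Ψ 1)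
      (fun z _ => ?_)]
    · rw [Finset.sum_const, hone, nsmul_eq_mul, ← Nat.cast_mul, Nat.cast_ne_zero]
      exact Nat.mul_ne_zero (Finset.card_ne_zero_of_mem (Finset.mem_univ 1)) (Nat.mul_ne_zero hpos.ne' hdpos.ne')
    · obtain ⟨r, hr, hz⟩ := (Matrix.SpecialLinearGroup.mem_center_iff).1 z.2
      have hr0 : r ≠ 0 := by
        rintro rfl
        rw [Fintype.card_fin, zero_pow (by omega)] at hr
        exact zero_ne_one hr
      refine flagChar_scalar (Matrix.SpecialLinearGroup.toLin' (n := Fin n) (R := F)) (planes F n) hcf (fun W hW => hW)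
        (c := Units.mk0 r hr0) (fun v => ?_) (hs _)
      rw [Matrix.SpecialLinearGroup.toLin'_apply, ← hz, Matrix.toLin'_apply, Matrix.scalar_apply]
      ext i
      rw [Matrix.mulVec_diagonal]
      rfl)
  have hval : ∀ g, flagChar (Matrix.SpecialLinearGroup.toLin' (n := Fin n) (R := F)) (planes F n) Ψ g =
      (χ : (Matrix.SpecialLinearGroup (Fin n) F ⧸ Subgroup.center (Matrix.SpecialLinearGroup (Fin n) F)) → ℂ)
        (QuotientGroup.mk g) := fun g => congrFun hχ g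
  refine ⟨χ, χ.2, ?_, ⟨Nat.card (planes F n) * d, (odd_card_planes hF (by omega)).mul hd, ?_⟩, ?_, ?_⟩
  · intro h
    have h1 := hval 1
    rw [hone, h, Pi.one_apply, ← Nat.cast_one, Nat.cast_inj] at h1
    have := one_lt_card_planes (F := F) hn
    have h2 := Nat.eq_one_of_mul_eq_one_right h1
    omega
  · have h1 := hval 1
    rw [hone] at h1
    exact h1.symm
  · intro g
    obtain ⟨g, rfl⟩ := QuotientGroup.mk_surjective g
    obtain ⟨q, hq⟩ := flagChar_mem (Matrix.SpecialLinearGroup.toLin' (n := Fin n) (R := F)) (planes F n)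
      (algebraMap ℚ ℂ).range (Ψ := Ψ) (fun A => by
        obtain ⟨q, hq⟩ := hrat A
        exact ⟨q, by rw [hq]; rfl⟩) g
    refine ⟨q, ?_⟩
    have h1 := hval g
    rw [← hq] at h1
    exact h1.symm
  · intro s
    have h1 := hval s
    rw [← flagChar_congr (rhoGL F n) (Matrix.SpecialLinearGroup.toLin' (n := Fin n) (R := F)) (planes F n) Ψ
      (rho_toGL s)] at h1
    exact h1.symm

/-- `n ≥ 4`, `q ≡ 1 (mod 3)` -/
theorem row2_psl_one_mod [Fintype F] (hF : Even (Fintype.card F)) (hn : 4 ≤ n) (h : 3 ∣ Fintype.card F - 1) :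
    Row2 (Matrix.ProjectiveSpecialLinearGroup (Fin n) F) := by
  obtain ⟨μ, h3, hμ⟩ := exists_mu h
  have : Finite (Matrix.SpecialLinearGroup (Fin n) F) := inferInstance
  let _ : Fintype (Matrix.SpecialLinearGroup (Fin n) F) := Fintype.ofFinite _
  have : Finite (Matrix.ProjectiveSpecialLinearGroup (Fin n) F) := inferInstance
  obtain ⟨χ, h1, h2, h4, h5, h6⟩ := exists_chi hF (show 3 ≤ n by omega) (sigma_isIrr μ hμ) (sigma_rat μ h3 hμ)
    (sigma_scalar_one h3) ⟨_, odd_card_lines hF, sigma_one μ⟩ (isIrr_sigma μ h3 hμ hn _ slSurj)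
  refine row2_of_stab h1 h2 h4 h5 ?_
  rw [stab_eq_top (Core.isIrr_isClassFunction (sigma_isIrr μ hμ)) h6 (by omega) (Core.isIrr_isCharacter h1) h5
    (sigma_field μ h3 hμ), Subgroup.index_top]
  exact odd_one

/-- `n ≥ 3`, `q ≡ 2 (mod 3)` -/
theorem row2_psl_two_mod [Fintype F] [CharP F 2] (hn : 3 ≤ n) (h : 3 ∣ Fintype.card F + 1) :
    Row2 (Matrix.ProjectiveSpecialLinearGroup (Fin n) F) := by
  obtain ⟨Ψ, h1, h2, h3, h4, h5⟩ := exists_cusp h
  have : Finite (Matrix.SpecialLinearGroup (Fin n) F) := inferInstance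
  let _ : Fintype (Matrix.SpecialLinearGroup (Fin n) F) := Fintype.ofFinite _
  have : Finite (Matrix.ProjectiveSpecialLinearGroup (Fin n) F) := inferInstance
  obtain ⟨χ, k1, k2, k3, k4, k5⟩ := exists_chi even_card hn h1 h3 h4 h5 (isIrr_cusp hn _ slSurj h1 h2)
  exact row2_of_stab k1 k2 k3 k4 (odd_of_dvd (index_stab_dvd (Core.isIrr_isClassFunction h1) k5 hn
    (Core.isIrr_isCharacter k1) k4) (odd_ringAut h))

end

end Cfsg.Agent.H226.R2
end

-- part: H226/R2/Three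
section
/-!
# `Row2` from a generalized character of norm three (helper226)

* `row2_of_pgroup` : it is enough to treat the `2`-subgroups of a subgroup of odd index;
* `row2_of_norm_three` : `ψ` rational, odd degree, `[ψ, 1] = 0`, `[ψ, ψ] ≤ 3`, `Θ` rational with `3 ∤ [Θ, ψ]`,
  `stab ψ` of odd index.
-/

set_option autoImplicit false

namespace Cfsg.Agent.H226.R2

open scoped ComplexConjugate

open Cfsg Cfsg.Agent.Characters.Core Cfsg.Agent.Characters Cfsg.Agent.H636.Gow Cfsg.Agent.H770.CY MulAction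
open Cfsg.Agent.H707.OddLift

universe u v

theorem row2_of_pgroup {S : Type u} [Group S] [Finite S] {Γ : Subgroup (MulAut S)} (hi : Odd Γ.index)
    (h : ∀ B : Subgroup (MulAut S), IsPGroup 2 B → B ≤ Γ → RatInv S B) : Row2 S := by
  intro B hB
  obtain ⟨a, ha⟩ := exists_conj_le Γ B hB hi
  have hB' : IsPGroup 2 (B.map (MulAut.conj a⁻¹).toMonoidHom) := hB.map _
  have hB'le : B.map (MulAut.conj a⁻¹).toMonoidHom ≤ Γ := by
    rintro _ ⟨b, hb, rfl⟩
    obtain ⟨c, hc, hcb⟩ := ha hb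
    change a * c * a⁻¹ = b at hcb
    change a⁻¹ * b * (a⁻¹)⁻¹ ∈ Γ
    rw [← hcb]
    have : a⁻¹ * (a * c * a⁻¹) * (a⁻¹)⁻¹ = c := by group
    rw [this]
    exact hc
  have h4 := (h _ hB' hB'le).conj a
  refine (h4.mono ?_).exists_irr
  intro b hb
  refine ⟨a⁻¹ * b * (a⁻¹)⁻¹, ⟨b, hb, rfl⟩, ?_⟩
  change a * (a⁻¹ * b * (a⁻¹)⁻¹) * a⁻¹ = b
  group

section

variable {G : Type u} [Group G] [Fintype G]

open Cfsg.Agent.H707.Norm Cfsg.Agent.H707.Orbits

attribute [local instance] irrAction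

theorem exists_fixed_three {ψ : G → ℂ} (hψ : IsGeneralizedCharacter G ψ) (hrat : ∀ g : G, ∃ q : ℚ, ψ g = q)
    (h1 : classInner ψ 1 = 0) (hodd : ∃ k : ℤ, Odd k ∧ ψ 1 = k) {n : ℕ} (hn : classInner ψ ψ = n) (hn3 : n ≤ 3)
    {Θ : G → ℂ} (hΘ : IsGeneralizedCharacter G Θ) (hΘr : ∀ g : G, ∃ q : ℚ, Θ g = q)
    (h3 : ∀ k : ℤ, classInner Θ ψ ≠ 3 * k) :
    ∃ χ : IrrCharacter G, OddDeg (χ : G → ℂ) ∧ (∃ k : ℤ, Odd k ∧ classInner ψ (χ : G → ℂ) = k) ∧
      ∀ σ : ℂ ≃+* ℂ, σ • χ = χ := by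
  classical
  by_contra hG
  obtain ⟨S, hS, hS1, hS2, hS3⟩ := exists_odd_supp hψ hrat h1 hodd
  obtain ⟨h2, h2a, h2b⟩ := hS3 n hn
  -- no element is fixed
  have hmove : ∀ χ ∈ S, ∃ σ : ℂ ≃+* ℂ, σ • χ ≠ χ := by
    intro χ hχ
    by_contra hcon
    push Not at hcon
    exact hG ⟨χ, (hS1 χ hχ).2.1, (hS1 χ hχ).2.2, hcon⟩
  have hcard : S.card = 3 := by
    obtain ⟨k, hk⟩ := hS
    have : S.card ≠ 1 := by
      intro h
      obtain ⟨χ, rfl⟩ := Finset.card_eq_one.1 h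
      obtain ⟨σ, hσ⟩ := hmove χ (Finset.mem_singleton_self χ)
      exact hσ (Finset.mem_singleton.1 (hS2 σ χ (Finset.mem_singleton_self χ)))
    omega
  obtain ⟨a, ha⟩ : S.Nonempty := Finset.card_pos.1 (by omega)
  -- all elements are conjugate to `a`
  have horb : ∀ b ∈ S, ∃ σ : ℂ ≃+* ℂ, σ • a = b := by
    intro b hb
    by_contra hcon
    push Not at hcon
    obtain ⟨σ, hσ⟩ := hmove a ha
    have hba : a ≠ b := by
      have := hcon 1
      rwa [one_smul] at this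
    have hS' : S = {a, σ • a, b} := by
      symm
      apply Finset.eq_of_subset_of_card_le
      · intro x hx
        rw [Finset.mem_insert, Finset.mem_insert, Finset.mem_singleton] at hx
        rcases hx with rfl | rfl | rfl
        · exact ha
        · exact hS2 σ a ha
        · exact hb
      · rw [hcard, Finset.card_insert_of_notMem, Finset.card_insert_of_notMem, Finset.card_singleton]
        · rw [Finset.mem_singleton]
          exact hcon σ
        · rw [Finset.mem_insert, Finset.mem_singleton, not_or]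
          exact ⟨hσ.symm, hba⟩
    obtain ⟨τ, hτ⟩ := hmove b hb
    have h4 := hS2 τ b hb
    rw [hS', Finset.mem_insert, Finset.mem_insert, Finset.mem_singleton] at h4
    rcases h4 with h4 | h4 | h4
    · exact hcon τ⁻¹ (by rw [← h4, inv_smul_smul])
    · exact hcon (τ⁻¹ * σ) (by rw [mul_smul, ← h4, inv_smul_smul])
    · exact hτ h4
  have hn' : S.card = n := by omega
  -- all multiplicities are equal
  have hm : ∀ b ∈ S, classInner ψ (b : G → ℂ) = classInner ψ (a : G → ℂ) := by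
    intro b hb
    obtain ⟨σ, rfl⟩ := horb b hb
    rw [classInner_galois_right hrat]
    rcases h2a hn' a ha with h | h <;> rw [h] <;> simp only [_root_.map_one, _root_.RingEquiv.map_neg_one]
  obtain ⟨t, ht⟩ : ∃ t : ℤ, classInner Θ (a : G → ℂ) = t := by
    have := finite_irr (G := G)
    have := Fintype.ofFinite (IrrCharacter G)
    obtain ⟨m, hm⟩ := isGeneralizedCharacter_iff.1 hΘ
    exact ⟨m a, coeff_eq hm a⟩
  have ht' : ∀ b ∈ S, classInner Θ (b : G → ℂ) = t := by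
    intro b hb
    obtain ⟨σ, rfl⟩ := horb b hb
    rw [classInner_galois_right hΘr, ht, map_intCast]
  have h5 : classInner Θ ψ = ∑ b ∈ S, conj (classInner ψ (b : G → ℂ)) * classInner Θ (b : G → ℂ) := by
    conv_lhs => rw [h2b hn']
    rw [classInner_sum_right]
    refine Finset.sum_congr rfl fun b _ => ?_
    rw [classInner_smul_right]
  rw [Finset.sum_congr rfl (fun b hb => by rw [hm b hb, ht' b hb]), Finset.sum_const, hcard] at h5
  rcases h2a hn' a ha with h | h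
  · rw [h] at h5
    apply h3 t
    rw [h5]; simp
  · rw [h] at h5
    apply h3 (-t)
    rw [h5]; simp only [_root_.map_neg, _root_.map_one, _root_.neg_mul, _root_.one_mul, _root_.smul_neg, _root_.nsmul_eq_mul, _root_.Nat.cast_ofNat, _root_.Int.cast_neg, _root_.mul_neg]

/-- the `2`-groups of automorphisms fixing `ψ` -/
theorem ratInv_of_norm_three {ψ : G → ℂ} (hψ : IsGeneralizedCharacter G ψ) (hrat : ∀ g : G, ∃ q : ℚ, ψ g = q)
    (h1 : classInner ψ 1 = 0) (hodd : ∃ k : ℤ, Odd k ∧ ψ 1 = k) {n : ℕ} (hn : classInner ψ ψ = n) (hn3 : n ≤ 3)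
    {Θ : G → ℂ} (hΘ : IsGeneralizedCharacter G Θ) (hΘr : ∀ g : G, ∃ q : ℚ, Θ g = q)
    (h3 : ∀ k : ℤ, classInner Θ ψ ≠ 3 * k) (B : Subgroup (MulAut G)) (hB : IsPGroup 2 B) (hle : B ≤ stab ψ) :
    RatInv G B := by
  classical
  obtain ⟨T, hT, hT1, hT2, hT3, hT4, hT5⟩ := exists_supp hψ h1 hodd
  obtain ⟨χ₀, k1, k2, k3⟩ := exists_fixed_three hψ hrat h1 hodd hn hn3 hΘ hΘr h3
  have hχ₀ : χ₀ ∈ T := (hT1 χ₀).2 ⟨k1, k2⟩
  have hTn := (hT3 n hn).trans hn3
  set T₀ : Finset (IrrCharacter G) := T.filter (fun χ => ∀ σ : ℂ ≃+* ℂ, σ • χ = χ) with hT₀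
  have hmem : ∀ χ, χ ∈ T₀ ↔ χ ∈ T ∧ ∀ σ : ℂ ≃+* ℂ, σ • χ = χ := fun χ => by rw [hT₀, Finset.mem_filter]
  have hsub : T₀ ⊆ T := Finset.filter_subset _ _
  have hχ₀' : χ₀ ∈ T₀ := (hmem _).2 ⟨hχ₀, k3⟩
  have hpos : 0 < T₀.card := Finset.card_pos.2 ⟨χ₀, hχ₀'⟩
  have hle' := Finset.card_le_card hsub
  have hodd₀ : Odd T₀.card := by
    obtain ⟨k, hk⟩ := hT
    have hsd : (T \ T₀).card = T.card - T₀.card := Finset.card_sdiff_of_subset hsub
    have hno : (T \ T₀).card ≠ 1 := by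
      intro h
      obtain ⟨c, hc⟩ := Finset.card_eq_one.1 h
      have hc1 : c ∈ T \ T₀ := by rw [hc]; exact Finset.mem_singleton_self c
      rw [Finset.mem_sdiff] at hc1
      apply hc1.2
      rw [hmem]
      refine ⟨hc1.1, fun σ => ?_⟩
      have h4 : σ • c ∈ T := hT5 hrat σ c hc1.1
      by_cases h5 : σ • c ∈ T₀
      · have h6 := ((hmem _).1 h5).2 σ⁻¹
        rw [inv_smul_smul] at h6
        exact h6.symm
      · have h6 : σ • c ∈ T \ T₀ := Finset.mem_sdiff.2 ⟨h4, h5⟩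
        rw [hc] at h6
        exact Finset.mem_singleton.1 h6
    rw [Nat.odd_iff]
    omega
  have htw : ∀ (σ : ℂ ≃+* ℂ) (b : MulAut G) (χ : IrrCharacter G), σ • tw b χ = tw b (σ • χ) := by
    intro σ b χ
    apply Subtype.ext
    rfl
  let _ := twAct (S := G)
  obtain ⟨χ, hχ, hf⟩ := exists_fixed_of_odd (B := B) hB T₀ hodd₀ (fun b χ hχ => by
    rw [hmem] at hχ ⊢
    refine ⟨hT4 b.1 (hle b.2) χ hχ.1, fun σ => ?_⟩
    have := htw σ b.1 χ
    rw [hχ.2] at this
    exact this)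
  rw [hmem] at hχ
  refine ⟨χ, χ.2, hT2 χ hχ.1, ((hT1 χ).1 hχ.1).1, fun g => ?_, fun b hb => mem_stab_iff_tw.1 (hf ⟨b, hb⟩)⟩
  apply GaloisBasic.exists_rat_of_forall_ringEquiv
  · exact (GaloisBasic.isIntegral_apply (isIrr_isCharacter χ.2) g).tower_top
  · intro σ
    exact congrFun (congrArg Subtype.val (hχ.2 σ)) g

/-- **Norm three.** -/
theorem row2_of_norm_three {ψ : G → ℂ} (hψ : IsGeneralizedCharacter G ψ) (hrat : ∀ g : G, ∃ q : ℚ, ψ g = q)
    (h1 : classInner ψ 1 = 0) (hodd : ∃ k : ℤ, Odd k ∧ ψ 1 = k) {n : ℕ} (hn : classInner ψ ψ = n) (hn3 : n ≤ 3)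
    {Θ : G → ℂ} (hΘ : IsGeneralizedCharacter G Θ) (hΘr : ∀ g : G, ∃ q : ℚ, Θ g = q)
    (h3 : ∀ k : ℤ, classInner Θ ψ ≠ 3 * k) (hst : Odd (stab ψ).index) : Row2 G :=
  row2_of_pgroup hst fun B hB hle => ratInv_of_norm_three hψ hrat h1 hodd hn hn3 hΘ hΘr h3 B hB hle

end

end Cfsg.Agent.H226.R2
end

-- part: H226/R2/PslThree
section
/-!
# `Row2` for `PSL_n(q)`, `q` even, `n ≥ 3` (helper226)

`row2_psl : 3 ≤ n → Row2 (PSL_n(F))`, `F` finite of characteristic two.
-/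

set_option autoImplicit false

open scoped ComplexConjugate
open Cfsg

namespace Cfsg.Agent.H226.R2

open Cfsg.Agent.Characters Cfsg.Agent.H53.HC Module Cfsg.Agent.H61.GowFlag Cfsg.Agent.H61.GowGlue
  Cfsg.Agent.H61.GowSigma Cfsg.Agent.H61.GowPlane Matrix Cfsg.Agent.H636.Gow Cfsg.Agent.H61.GowPsl
  Cfsg.Agent.H61.GowThree Cfsg.Agent.H199.PslAut Cfsg.Agent.H770.CY Cfsg.Agent.Characters.Core
  Cfsg.Agent.OddOrderCharacters.Clifford Cfsg.Agent.H61.GowThetaFour

open Cfsg.Agent.ClassicalGeometry.AutPSL.Root (pr pr_surjective)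

universe u v

section Index

variable {G : Type u} [Group G] [Finite G] {H : Type v} [Group H] [Finite H]

/-- **Index at most three.** -/
theorem row2_of_index_three (j : H →* G) (hj : Function.Injective j) (hN : j.range.Normal)
    (hidx : j.range.index ≤ 3) {χ : G → ℂ} (hχ : IsIrrCharacter G χ) (hrat : ∀ g, ∃ q : ℚ, χ g = q)
    (hodd : ∃ d : ℕ, Odd d ∧ χ 1 = d) (hne : χ 1 ≠ 1) (u : H) (hu : orderOf u = 4) (h1 : χ (j u) = 1)
    (hst : Odd (stab (χ ∘ j)).index) : Row2 H := by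
  classical
  let _ : Fintype G := Fintype.ofFinite G
  let _ : Fintype H := Fintype.ofFinite H
  have hψ : IsCharacter H (χ ∘ j) := isCharacter_comp j (isIrr_isCharacter hχ)
  obtain ⟨d, hd, hd1⟩ := hodd
  -- the norm
  obtain ⟨n, hn⟩ := classInner_isNat hψ hψ
  have hcard : (Nat.card G : ℝ) = (Nat.card H : ℝ) * (j.range.index : ℝ) := by
    rw [← Nat.cast_mul, ← Subgroup.card_mul_index j.range,
      Nat.card_congr (MonoidHom.ofInjective hj).toEquiv]
  have hHpos : (0 : ℝ) < Nat.card H := by exact_mod_cast Nat.card_pos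
  have hn3 : n ≤ 3 := by
    have e1 := classInner_self_eq_ofReal (χ ∘ j)
    have e2 := classInner_self_eq_ofReal χ
    rw [classInner_irr_self hχ] at e2
    rw [hn] at e1
    have e1' : (n : ℝ) = (Nat.card H : ℝ)⁻¹ * ∑ g : H, Complex.normSq ((χ ∘ j) g) := by exact_mod_cast e1
    have e2' : (1 : ℝ) = (Nat.card G : ℝ)⁻¹ * ∑ g : G, Complex.normSq (χ g) := by exact_mod_cast e2
    have hG0 : (Nat.card G : ℝ) ≠ 0 := by exact_mod_cast Nat.card_pos.ne'
    have e3 : ∑ g : G, Complex.normSq (χ g) = Nat.card G := by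
      field_simp at e2'
      linarith only [e2']
    have e4 : ∑ g : H, Complex.normSq ((χ ∘ j) g) ≤ ∑ g : G, Complex.normSq (χ g) := by
      have : ∑ g : H, Complex.normSq ((χ ∘ j) g) = ∑ g ∈ Finset.univ.image j, Complex.normSq (χ g) := by
        rw [Finset.sum_image (fun x _ y _ h => hj h)]
        rfl
      rw [this]
      exact Finset.sum_le_univ_sum_of_nonneg fun g => Complex.normSq_nonneg _
    rw [e3, hcard] at e4
    have e5 : (n : ℝ) ≤ 3 := by
      have h3 : (j.range.index : ℝ) ≤ 3 := by exact_mod_cast hidx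
      rw [e1', inv_mul_le_iff₀ hHpos]
      exact e4.trans (mul_le_mul_of_nonneg_left h3 hHpos.le)
    exact_mod_cast e5
  -- orthogonal to the trivial character
  have horth : classInner (χ ∘ j) 1 = 0 := by
    let _ : Fintype j.range := Fintype.ofFinite _
    have h2 := CharDeep.FrobKernel.sum_apply_eq_zero j.range hχ ⟨j u, ⟨u, rfl⟩, by rw [h1]; exact hne.symm⟩
    rw [classInner_apply]
    have h3 : ∑ g : H, (χ ∘ j) g * conj ((1 : H → ℂ) g) = ∑ k : j.range, χ k := by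
      refine Fintype.sum_equiv (MonoidHom.ofInjective hj).toEquiv _ _ fun g => ?_
      rw [Pi.one_apply, map_one, mul_one]
      rfl
    rw [h3, h2, mul_zero]
  obtain ⟨Θ, hΘ, hΘr, hΘi⟩ := exists_theta_four u hu
  have hu3 : (χ ∘ j) (u ^ 3) = 1 := by
    have h4 : u ^ 3 = u⁻¹ := by
      apply eq_inv_of_mul_eq_one_left
      rw [← pow_succ]
      have h5 := pow_orderOf_eq_one u
      rwa [hu] at h5
    rw [h4, isCharacter_apply_inv hψ]
    change conj (χ (j u)) = 1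
    rw [h1, map_one]
  refine row2_of_norm_three (n := n) ⟨_, _, hψ, isCharacter_zero, (sub_zero _).symm⟩ (fun g => hrat (j g)) horth
    ⟨d, by exact_mod_cast hd, ?_⟩ hn hn3 hΘ hΘr (fun k hk => ?_) hst
  · change χ (j 1) = _
    rw [map_one, hd1]
    simp
  · rw [hΘi _ (isCharacter_isClassFunction hψ), hu3, show (χ ∘ j) u = 1 from h1, map_one] at hk
    have h5 : (1 : ℤ) = 3 * k := by
      have : (1 : ℂ) = ((3 * k : ℤ) : ℂ) := by
        push_cast
        rw [← hk]; norm_num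
      exact_mod_cast this
    omega

end Index

section

variable {F : Type u} [Field F]

/-- **`PSL_3(q)`, `q` even, `q ≡ 1 (mod 3)`** -/
theorem row2_psl_three_one_mod [Fintype F] [CharP F 2] (h : 3 ∣ Fintype.card F - 1) :
    Row2 (Matrix.ProjectiveSpecialLinearGroup (Fin 3) F) := by
  classical
  obtain ⟨μ, h3, hμ⟩ := exists_mu h
  have : Finite (GL (Fin 3) F) := inferInstance
  let _ : Fintype (GL (Fin 3) F) := Fintype.ofFinite _
  let _ : Fintype (Subgroup.center (GL (Fin 3) F)) := Fintype.ofFinite _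
  have hirr : IsIrrCharacter (GL (Fin 3) F) (flagChar (rhoGL F 3) (planes F 3) (sigma μ)) :=
    isIrr_sigma_GL μ h3 hμ le_rfl _ (rhoGL_surj 3)
  have hcf := Core.isIrr_isClassFunction (sigma_isIrr μ hμ)
  have hone : flagChar (rhoGL F 3) (planes F 3) (sigma μ) 1 =
      ((Nat.card (planes F 3) * Nat.card (lines F) : ℕ) : ℂ) := by
    rw [flagChar_one (rhoGL F 3) (planes F 3) hcf (fun W hW => hW), sigma_one]
    push_cast
    rfl
  have hplanes := one_lt_card_planes (F := F) (n := 3) le_rfl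
  have hodd : Odd (Nat.card (planes F 3) * Nat.card (lines F)) :=
    (odd_card_planes even_card (by norm_num)).mul (odd_card_lines even_card)
  obtain ⟨χ, hχ⟩ := Blocks.Deflate.exists_deflation (Subgroup.center (GL (Fin 3) F)) _ hirr (by
    rw [Finset.sum_congr rfl (g := fun _ => flagChar (rhoGL F 3) (planes F 3) (sigma μ) 1) (fun z _ => ?_)]
    · rw [Finset.sum_const, hone, nsmul_eq_mul, ← Nat.cast_mul, Nat.cast_ne_zero]
      exact Nat.mul_ne_zero (Finset.card_ne_zero_of_mem (Finset.mem_univ 1)) hodd.pos.ne'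
    · obtain ⟨c, hc⟩ : (z : GL (Fin 3) F) ∈ (Matrix.GeneralLinearGroup.scalar (Fin 3) : Fˣ →* GL (Fin 3) F).range :=
        Matrix.GeneralLinearGroup.center_eq_range_scalar.le z.2
      refine flagChar_scalar (rhoGL F 3) (planes F 3) hcf (fun W hW => hW) (c := c) (fun v => ?_)
        (sigma_scalar_one h3 c)
      rw [← hc, rhoGL_scalar])
  have hval : ∀ g, flagChar (rhoGL F 3) (planes F 3) (sigma μ) g =
      (χ : (GL (Fin 3) F ⧸ Subgroup.center (GL (Fin 3) F)) → ℂ) (QuotientGroup.mk g) := fun g => congrFun hχ g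
  obtain ⟨g, hg, hker⟩ := S0307.result (F := F) rfl 3 (by norm_num)
  have : Finite (Matrix.ProjGenLinGroup (Fin 3) F) := inferInstanceAs
    (Finite (GL (Fin 3) F ⧸ Subgroup.center (GL (Fin 3) F)))
  have : Finite (Matrix.ProjectiveSpecialLinearGroup (Fin 3) F) := inferInstance
  have hratG : ∀ x : Matrix.ProjGenLinGroup (Fin 3) F, ∃ q : ℚ,
      (χ : (GL (Fin 3) F ⧸ Subgroup.center (GL (Fin 3) F)) → ℂ) x = q := by
    intro x
    obtain ⟨x, rfl⟩ := QuotientGroup.mk_surjective x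
    obtain ⟨q, hq⟩ := flagChar_mem (rhoGL F 3) (planes F 3) (algebraMap ℚ ℂ).range (Ψ := sigma μ) (fun A => by
      obtain ⟨q, hq⟩ := sigma_rat μ h3 hμ A
      exact ⟨q, by rw [hq]; rfl⟩) x
    refine ⟨q, ?_⟩
    have h1 := hval x
    rw [← hq] at h1
    exact h1.symm
  refine row2_of_index_three (G := Matrix.ProjGenLinGroup (Fin 3) F)
    (Matrix.ProjectiveSpecialLinearGroup.toPGL (n := Fin 3) (R := F)) Matrix.ProjectiveSpecialLinearGroup.toPGL_injective
    ?_ ?_ (χ := (χ : (GL (Fin 3) F ⧸ Subgroup.center (GL (Fin 3) F)) → ℂ)) χ.2 hratG ?_ ?_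
    (QuotientGroup.mk (uu F)) orderOf_uu ?_ ?_
  · rw [← hker]
    infer_instance
  · rw [← hker, Subgroup.index_ker, MonoidHom.range_eq_top.2 hg, Subgroup.card_top]
    have : Nat.card (Multiplicative (ZMod (Nat.gcd 3 (Fintype.card F - 1)))) = Nat.gcd 3 (Fintype.card F - 1) :=
      Nat.card_zmod _
    rw [this]
    exact Nat.gcd_le_left _ (by norm_num)
  · refine ⟨_, hodd, ?_⟩
    have h1 := hval 1
    rw [hone] at h1
    exact h1.symm
  · intro h1
    have h2 := hval 1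
    rw [hone] at h2
    have h4 : ((Nat.card (planes F 3) * Nat.card (lines F) : ℕ) : ℂ) = ((1 : ℕ) : ℂ) := by
      rw [h2, Nat.cast_one]
      exact h1
    rw [Nat.cast_inj] at h4
    have h5 := Nat.eq_one_of_mul_eq_one_right h4
    omega
  · have h1 := hval (Matrix.SpecialLinearGroup.toGL (uu F))
    rw [flagChar_congr (rhoGL F 3) (Matrix.SpecialLinearGroup.toLin' (n := Fin 3) (R := F)) (planes F 3) (sigma μ)
      (rhoGL_toGL (uu F)), flagChar_uu hμ] at h1
    exact h1.symm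
  · have h6 : stab ((χ : (GL (Fin 3) F ⧸ Subgroup.center (GL (Fin 3) F)) → ℂ) ∘
        (Matrix.ProjectiveSpecialLinearGroup.toPGL (n := Fin 3) (R := F))) = ⊤ := by
      refine stab_eq_top (n := 3) (F := F) (Ψ := sigma μ) hcf (fun s => ?_) le_rfl ?_ ?_ (sigma_field μ h3 hμ)
      · exact (hval (Matrix.SpecialLinearGroup.toGL s)).symm
      · exact isCharacter_comp (Matrix.ProjectiveSpecialLinearGroup.toPGL (n := Fin 3) (R := F))
          (isIrr_isCharacter (G := Matrix.ProjGenLinGroup (Fin 3) F) χ.2)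
      · intro x
        exact hratG _
    have h7 : Odd (stab ((χ : (GL (Fin 3) F ⧸ Subgroup.center (GL (Fin 3) F)) → ℂ) ∘
        (Matrix.ProjectiveSpecialLinearGroup.toPGL (n := Fin 3) (R := F)))).index := by
      rw [h6, Subgroup.index_top]
      exact odd_one
    exact h7

/-- **`PSL_n(q)`, `q` even, `n ≥ 3`** -/
theorem row2_psl (F : Type u) [Field F] [Fintype F] [CharP F 2] {n : ℕ} (hn : 3 ≤ n) :
    Row2 (Matrix.ProjectiveSpecialLinearGroup (Fin n) F) := by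
  rcases mod_three (F := F) with h | h
  · rcases hn.eq_or_lt with rfl | h4
    · exact row2_psl_three_one_mod h
    · exact row2_psl_one_mod even_card h4 h
  · exact row2_psl_two_mod hn h

end

end Cfsg.Agent.H226.R2
end

private theorem dce_c9d52e1f42de : _root_.True := by
  try have : _root_.True := by simp only [_root_.Cfsg.Agent.H226.R2.twB.eq_1]
  exact _root_.True.intro
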